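import Cfsg.Agent.Lib.Helper93.L34.Upper
import Cfsg.Agent.Lib.Helper93.L34.Abs
import Cfsg.Agent.Lib.Helper93.L34.ModelD

/-! # The Schur multiplier of `L3(4)` (three point stabiliser in `M24`) is `Z3 × Z4 × Z4` -/

set_option autoImplicit false
set_option maxRecDepth 100000

namespace Cfsg.Agent.Lib.Helper93.L34

open Cfsg Cfsg.Agent.Lib.Helper66 Cfsg.Agent.Lib.Helper66.TCE
open Cfsg.Agent.Lib.Helper27 (fixer L3)
open Model

theorem chk_valid : chkValid tab 959 5 = true := by decide +kernel

theorem chk_cen : (SR ++ EX).all (fun w => allBelow (fun i =>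
    chkEq tab 959 (w ++ [2 * i]) (2 * i :: w)) 5) = true := by decide +kernel

/-- repetition of a word -/
def rp (n : ℕ) (w : List ℕ) : List ℕ := (List.replicate n w).flatten

theorem ev_rp {Γ : Type*} [Group Γ] (g : ℕ → Γ) (n : ℕ) (w : List ℕ) :
    ev g (rp n w) = ev g w ^ n := by
  induction n with
  | zero => simp [rp]
  | succ n ih =>
    have : rp (n + 1) w = w ++ rp n w := by simp [rp, List.replicate_succ]
    rw [this, ev_append, ih, pow_succ']

def moved (w : List ℕ) : Bool :=
  !(Nat.beq (appW tab w 0) 0) || !(Nat.beq (appW tab w 448) 448) || !(Nat.beq (appW tab w 896) 896)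

theorem chk_ind : allBelow (fun i => allBelow (fun j => allBelow (fun k =>
    (Nat.beq i 0 && Nat.beq j 0 && Nat.beq k 0) || moved (rp i wc ++ rp j wa ++ rp k wb)) 4) 4) 3
    = true := by decide +kernel

theorem chk_a4 : chkEq tab 959 (rp 4 wa) [] = true := by decide +kernel
theorem chk_b4 : chkEq tab 959 (rp 4 wb) [] = true := by decide +kernel
theorem chk_c3 : chkEq tab 959 (rp 3 wc) [] = true := by decide +kernel
theorem chkW_a : chkW wa = true := by decide +kernel
theorem chkW_b : chkW wb = true := by decide +kernel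
theorem chkW_c : chkW wc = true := by decide +kernel
theorem perm_a : wa.Perm (va ++ va.map flipL) := by decide +kernel
theorem perm_b : wb.Perm (vb ++ vb.map flipL) := by decide +kernel
theorem perm_c : wc.Perm (vc ++ vc.map flipL) := by decide +kernel

/-- the permutations of the model -/
noncomputable def e : ℕ → Equiv.Perm (Fin 959) := pe tab 959 5 chk_valid

instance : Finite ↥(fixer L3) := Nat.finite_of_card_ne_zero (by rw [card_G]; norm_num)

theorem RG_lt : ∀ w ∈ SR ++ EX, ∀ a ∈ w, a / 2 < 5 := by decide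

theorem RG_one : ∀ w ∈ SR ++ EX, ev gb w = 1 := by
  intro w hw
  rcases List.mem_append.mp hw with h | h
  · exact ev_gb_of_chk (List.all_eq_true.mp SR_chk w h)
  · exact ev_gb_of_chk (List.all_eq_true.mp EX_chk w h)

theorem L_even {Γ : Type*} [Group Γ] (g : ℕ → Γ) (i : ℕ) : L g (2 * i) = g i := by
  unfold L
  have e3 : (2 * i) % 2 = 0 := by omega
  have e4 : (2 * i) / 2 = i := by omega
  simp [e3, e4]

theorem lt10 {w : List ℕ} (h : ∀ a ∈ w, a / 2 < 5) : ∀ a ∈ w, a < 2 * 5 := by
  intro a ha
  have := h a ha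
  omega

theorem central :
    Function.Surjective ((MonoidHom.fst ↥(fixer L3) (Equiv.Perm (Fin 959))).comp
      (graphX 5 gb e).subtype) ∧
    ((MonoidHom.fst ↥(fixer L3) (Equiv.Perm (Fin 959))).comp (graphX 5 gb e).subtype).ker ≤
      Subgroup.center (graphX 5 gb e) := by
  refine graph_central 5 gb e (Subgroup.centralizer {x | ∃ i < 5, x = e i}) closure_gb ?_
    (SR ++ EX) RG_lt RG_one ?_ PB
  · intro c hc i hi
    exact ((Subgroup.mem_centralizer_iff.mp hc) (e i) ⟨i, hi, rfl⟩).symm
  · intro w hw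
    rw [Subgroup.mem_centralizer_iff]
    rintro _ ⟨i, hi, rfl⟩
    have h1 := (allBelow_iff _ _).mp (List.all_eq_true.mp chk_cen w hw) i hi
    have hw10 := lt10 (RG_lt w hw)
    have h2 := ev_pe_eq chk_valid (w := w ++ [2 * i]) (w' := 2 * i :: w)
      (by
        intro a ha
        rcases List.mem_append.mp ha with h | h
        · exact hw10 a h
        · simp only [List.mem_cons, List.not_mem_nil, or_false] at h; omega)
      (by
        intro a ha
        rcases List.mem_cons.mp ha with h | h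
        · omega
        · exact hw10 a h) h1
    rw [ev_append, ev_cons, ev_cons, ev_nil, mul_one, L_even] at h2
    exact h2.symm

theorem lt_of_chkW {w : List ℕ} (h : chkW w = true) : ∀ a ∈ w, a / 2 < 5 := by
  intro a ha
  have := lt_of_chk h a ha
  omega

theorem mem_rp {n : ℕ} {w : List ℕ} {a : ℕ} (h : a ∈ rp n w) : a ∈ w := by
  unfold rp at h
  rw [List.mem_flatten] at h
  obtain ⟨l, hl, ha⟩ := h
  rw [List.eq_of_mem_replicate hl] at ha
  exact ha

/-- the element of the cover defined by a word -/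
noncomputable def X (w : List ℕ) : graphX 5 gb e := ev (graphGen 5 gb e) w

theorem X_mem {w v : List ℕ} (h1 : chkW w = true) (h2 : w.Perm (v ++ v.map flipL)) :
    X w ∈ ((MonoidHom.fst ↥(fixer L3) (Equiv.Perm (Fin 959))).comp (graphX 5 gb e).subtype).ker ⊓
      commutator (graphX 5 gb e) := by
  refine ⟨MonoidHom.mem_ker.mpr ?_, ev_mem_commutator_of_perm _ h2⟩
  change (X w).1.1 = 1
  unfold X
  rw [ev_graphGen (lt_of_chkW h1)]
  exact ev_gb_of_chk h1

theorem X_pow {w : List ℕ} (n : ℕ) (h1 : chkW w = true) (h2 : chkEq tab 959 (rp n w) [] = true) :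
    X w ^ n = 1 := by
  unfold X
  rw [← ev_rp]
  apply Subtype.ext
  have hlt : ∀ a ∈ rp n w, a / 2 < 5 := fun a ha => lt_of_chkW h1 a (mem_rp ha)
  rw [ev_graphGen hlt]
  apply Prod.ext
  · change ev gb (rp n w) = 1
    rw [ev_rp, ev_gb_of_chk h1, one_pow]
  · change ev e (rp n w) = 1
    have h3 : ev e (rp n w) = ev e [] :=
      ev_pe_eq chk_valid (w := rp n w) (w' := []) (lt10 hlt) (by simp) h2
    rw [h3, ev_nil]

theorem not_moved {w : List ℕ} (hw : ∀ a ∈ w, a / 2 < 5) (h : ev e w = 1) : moved w = false := by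
  have key : ∀ p (hp : p < 959), appW tab w p = p := by
    intro p hp
    have := ev_pe chk_valid (lt10 hw) ⟨p, hp⟩
    change ((ev e w) ⟨p, hp⟩).1 = _ at this
    rw [h] at this
    exact this.symm
  unfold moved
  rw [key 0 (by norm_num), key 448 (by norm_num), key 896 (by norm_num)]
  simp

theorem main : Cfsg.HasSchurMultiplier ↥(fixer L3) (Multiplicative (ZMod 3 × ZMod 4 × ZMod 4)) := by
  refine hasSchur_of_model _ central.1 central.2 (X wa) (X wb) (X wc) (X_mem chkW_a perm_a)
    (X_mem chkW_b perm_b) (X_mem chkW_c perm_c) (X_pow 4 chkW_a chk_a4) (X_pow 4 chkW_b chk_b4)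
    (X_pow 3 chkW_c chk_c3) ?_ card_ker_le
  intro i hi j hj k hk h
  have h1 := (allBelow_iff _ _).mp ((allBelow_iff _ _).mp ((allBelow_iff _ _).mp chk_ind i hi) j hj)
    k hk
  have hlt : ∀ a ∈ rp i wc ++ rp j wa ++ rp k wb, a / 2 < 5 := by
    intro a ha
    rcases List.mem_append.mp ha with h | h
    · rcases List.mem_append.mp h with h | h
      · exact lt_of_chkW chkW_c a (mem_rp h)
      · exact lt_of_chkW chkW_a a (mem_rp h)
    · exact lt_of_chkW chkW_b a (mem_rp h)
  have h2 : ev e (rp i wc ++ rp j wa ++ rp k wb) = 1 := by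
    have h3 : ev (graphGen 5 gb e) (rp i wc ++ rp j wa ++ rp k wb) = 1 := by
      rw [ev_append, ev_append, ev_rp, ev_rp, ev_rp]
      exact h
    have h4 := ev_graphGen (gb := gb) (e := e) hlt
    rw [h3] at h4
    exact (congrArg Prod.snd h4).symm
  rw [not_moved hlt h2, Bool.or_false] at h1
  simp only [Bool.and_eq_true, nbeq] at h1
  exact ⟨h1.1.1, h1.1.2, h1.2⟩

end Cfsg.Agent.Lib.Helper93.L34
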