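import Cfsg.Agent.Lib.Helper66.TCE

set_option autoImplicit false
set_option maxRecDepth 100000
namespace Cfsg.Agent.Lib.Helper93.L34.Pres
open Cfsg.Agent.Lib.Helper66.TCE
def dF_0 : BT := .node (.node (.node (.node (.node (.node (.node (.leaf 0) (.leaf 52613363466)) (.leaf 18790492801)) (.node (.node (.leaf 25769810048) (.leaf 16643010821)) (.leaf 21474852105))) (.node (.node (.node (.leaf 5368711809) (.leaf 27380428169)) (.leaf 17179882371)) (.node (.node (.leaf 13421783175) (.leaf 25769808649)) (.leaf 52613354376)))) (.node (.node (.node (.node (.leaf 2147483911) (.leaf 28991036037)) (.leaf 15032397448)) (.node (.node (.leaf 11274297348) (.leaf 20937974791)) (.leaf 24696079110))) (.node (.node (.node (.leaf 7516197251) (.leaf 10737424136)) (.leaf 19864237696)) (.node (.node (.leaf 39191581444) (.leaf 39728452866)) (.leaf 69793227779))))) (.node (.node (.node (.node (.node (.leaf 2147484420) (.leaf 53687103754)) (.leaf 15032397186)) (.node (.node (.leaf 9663683718) (.leaf 18790487305)) (.leaf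 22011723270))) (.node (.node (.node (.leaf 5905583751) (.leaf 7516194177)) (.leaf 55297717376)) (.node (.node (.leaf 19864226947) (.leaf 27917290760)) (.leaf 70330104578)))) (.node (.node (.node (.node (.leaf 1610614407) (.leaf 38117841408)) (.leaf 16643010946)) (.node (.node (.leaf 12884910850) (.leaf 24159194753)) (.leaf 70866978184))) (.node (.node (.node (.leaf 8053069062) (.leaf 13958645505)) (.leaf 20937980678)) (.node (.node (.leaf 26306679682) (.leaf 54223975042)) (.leaf 45097163139)))))) (.node (.node (.node (.node (.node (.node (.leaf 1073742208) (.leaf 35970355713)) (.leaf 25769815043)) (.node (.node (.leaf 9126812167) (.leaf 17179882118)) (.leaf 54760837257))) (.node (.node (.node (.leaf 5905583232) (.leaf 2684356873)) (.leaf 39728460802)) (.node (.node (.leaf 14495517696) (.leaf 26843551237)) (.leaf 51539614081)))) (.node (.node (.node (.node (.leaf 1073743241) (.leaf 74088190730)) (.leaf 39728459908)) (.node (.node (.leaf 11274297608) (.leaf 22548582792)) (.leaf 31675401353))) (.node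 (.node (.node (.leaf 8053068673) (.leaf 11811165696)) (.leaf 20401109384)) (.node (.node (.leaf 23085452290) (.leaf 48855265281)) (.leaf 46707776010))))) (.node (.node (.node (.node (.node (.leaf 3221226625) (.leaf 47781514122)) (.leaf 19327364609)) (.node (.node (.leaf 12348038529) (.leaf 19327358985)) (.leaf 66035138689))) (.node (.node (.node (.leaf 6979325832) (.leaf 8589940230)) (.leaf 45097170438)) (.node (.node (.leaf 28454164743) (.leaf 31675396359)) (.leaf 38654722434)))) (.node (.node (.node (.node (.leaf 3221227400) (.leaf 28454165256)) (.leaf 16643011077)) (.node (.node (.leaf 12348040713) (.leaf 24696068871)) (.leaf 60666419210))) (.node (.node (.node (.leaf 15569262212) (.leaf 15032393737)) (.leaf 52613364743)) (.node (.leaf 13421783304) (.leaf 29527916042))))))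
def dF_1 : BT := .node (.node (.node (.node (.node (.node (.node (.leaf 136) (.leaf 5368712202)) (.leaf 13958654728)) (.node (.node (.leaf 25232939269) (.leaf 17179873282)) (.leaf 24696077697))) (.node (.node (.node (.leaf 5368712068) (.leaf 1073742594)) (.leaf 54223975303)) (.node (.node (.leaf 15569259010) (.leaf 26306691335)) (.leaf 51002742410)))) (.node (.node (.node (.node (.leaf 4294967939) (.leaf 50465873930)) (.leaf 15569268745)) (.node (.node (.leaf 11274297478) (.leaf 22548587778)) (.leaf 28454175492))) (.node (.node (.node (.leaf 7516197511) (.leaf 11274291718)) (.leaf 19327367176)) (.node (.node (.leaf 39191581445) (.leaf 45097161216)) (.leaf 23622326154))))) (.node (.node (.node (.node (.node (.leaf 1073742853) (.leaf 10737426570)) (.leaf 27380428161)) (.node (.node (.leaf 10737425666) (.leaf 19327357443)) (.leaf 23085465480))) (.node (.node (.node (.leaf 16106131205) (.leaf 8053066627)) (.leaf 18253624836)) (.node (.node (.leaf 18790485127) (.leaf 29527909377)) (.leaf 70330095751))))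 (.node (.node (.node (.node (.leaf 3221227136) (.leaf 38117841412)) (.leaf 25769816454)) (.node (.node (.leaf 12348040323) (.leaf 24159194761)) (.leaf 75161945605))) (.node (.node (.node (.leaf 8589940225) (.leaf 15032390145)) (.leaf 20937980808)) (.node (.node (.leaf 42949677575) (.leaf 54223966214)) (.leaf 30601647872)))))) (.node (.node (.node (.node (.node (.node (.leaf 536871557) (.leaf 39728451457)) (.leaf 16643009543)) (.node (.node (.leaf 9663683458) (.leaf 18790486405)) (.leaf 30064786823))) (.node (.node (.node (.leaf 5905583491) (.leaf 5905581824)) (.leaf 29527913605)) (.node (.node (.leaf 17716745862) (.leaf 27917304064)) (.leaf 51539613833)))) (.node (.node (.node (.node (.leaf 2684356096) (.leaf 72477584778)) (.leaf 16643010817)) (.node (.node (.leaf 36507230848) (.leaf 23622322182)) (.leaf 26306692485))) (.node (.node (.node (.leaf 12884907012) (.leaf 12348032898)) (.leaf 20937980549)) (.node (.node (.leaf 37044098567) (.leaf 52613356934)) (.leaf 46170909442))))) (.node (.node (.node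 (.node (.node (.leaf 3221225731) (.leaf 34359742342)) (.leaf 27380428291)) (.node (.node (.leaf 10737426056) (.leaf 20401102217)) (.leaf 23622336905))) (.node (.node (.node (.leaf 7516196992) (.leaf 10737421954)) (.leaf 45634041477)) (.node (.node (.leaf 36507228042) (.leaf 34359741321)) (.leaf 69793235338)))) (.node (.node (.node (.node (.leaf 6442453128) (.leaf 26843555080)) (.leaf 17179882112)) (.node (.node (.leaf 13421783044) (.leaf 25769811971)) (.leaf 57445194250))) (.node (.node (.node (.leaf 8589940614) (.leaf 16643007744)) (.leaf 35433483146)) (.node (.leaf 15032396288) (.leaf 7516195978))))))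
def dF_2 : BT := .node dF_0 dF_1
def dF_3 : BT := .node (.node (.node (.node (.node (.node (.node (.leaf 4) (.leaf 5905584394)) (.leaf 37044103810)) (.node (.node (.leaf 9126811907) (.leaf 16643006471)) (.leaf 22011723138))) (.node (.node (.node (.leaf 5368711938) (.leaf 38654716677)) (.leaf 22548591493)) (.node (.node (.leaf 42412812421) (.leaf 26306686981)) (.leaf 70866966666)))) (.node (.node (.node (.node (.leaf 4294967942) (.leaf 28991035143)) (.leaf 15569268616)) (.node (.node (.leaf 31675392001) (.leaf 20937978121)) (.leaf 28454175493))) (.node (.node (.node (.leaf 7516197381) (.leaf 11274290562)) (.leaf 18790496008)) (.node (.node (.leaf 29527905031) (.leaf 39728456964)) (.leaf 69793224838))))) (.node (.node (.node (.node (.node (.leaf 1073742723) (.leaf 52613353349)) (.leaf 25769815429)) (.node (.node (.leaf 11811167365) (.leaf 19327363585)) (.leaf 30064786947))) (.node (.node (.node (.leaf 6442454787) (.leaf 7516197255)) (.leaf 17716753672)) (.node (.node (.leaf 18790485632) (.leaf 28454165252))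 (.leaf 70330106244)))) (.node (.node (.node (.node (.leaf 2147485313) (.leaf 38117838722)) (.leaf 27917300097)) (.node (.node (.leaf 11811169289) (.leaf 24159194375)) (.leaf 26306692614))) (.node (.node (.node (.leaf 19864229129) (.leaf 13958649479)) (.leaf 29527915265)) (.node (.node (.leaf 18253613698) (.leaf 54223969156)) (.leaf 11811165578)))))) (.node (.node (.node (.node (.node (.node (.leaf 536871427) (.leaf 40265333898)) (.leaf 21474847744)) (.node (.node (.leaf 9663683329) (.leaf 18790487681)) (.leaf 30064786822))) (.node (.node (.node (.leaf 13421776128) (.leaf 5368710406)) (.leaf 17179882630)) (.node (.node (.leaf 31675389698) (.leaf 27380427266)) (.leaf 51539613829)))) (.node (.node (.node (.node (.leaf 1610614277) (.leaf 26843562122)) (.leaf 22548590723)) (.node (.node (.leaf 11811168768) (.leaf 23622326532)) (.leaf 31675401480))) (.node (.node (.node (.leaf 8053068802) (.leaf 11811162886)) (.leaf 20401109513)) (.node (.node (.leaf 23085452038) (.leaf 48855258889)) (.leaf 46170902528)))))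 (.node (.node (.node (.node (.node (.leaf 3758097162) (.leaf 34359744514)) (.leaf 17716751876)) (.node (.node (.leaf 10737425927) (.leaf 20401096581)) (.leaf 23622336776))) (.node (.node (.node (.leaf 6979325961) (.leaf 9663678724)) (.leaf 45097170439)) (.node (.node (.leaf 28454164995) (.leaf 31675388425)) (.leaf 38654710662)))) (.node (.node (.node (.node (.leaf 6442453001) (.leaf 29527913096)) (.leaf 31675396614)) (.node (.node (.leaf 13421782914) (.leaf 24696064521)) (.leaf 63350785538))) (.node (.node (.node (.leaf 8589940484) (.leaf 15569260929)) (.leaf 22548593546)) (.node (.leaf 13958654469) (.leaf 39191578506))))))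
def dF_4 : BT := .node (.node (.node (.node (.node (.node (.node (.leaf 536871168) (.leaf 11274304778)) (.leaf 14495525892)) (.node (.node (.leaf 9126812037) (.leaf 17179874564)) (.leaf 54760848776))) (.node (.node (.node (.leaf 5368712198) (.leaf 1073742342)) (.leaf 17179882501)) (.node (.node (.leaf 31675389699) (.leaf 26306680457)) (.leaf 51539625354)))) (.node (.node (.node (.node (.leaf 1073743112) (.leaf 42949677578)) (.leaf 21474848903)) (.node (.node (.leaf 32212263041) (.leaf 22548582404)) (.leaf 24696079369))) (.node (.node (.node (.leaf 18790486660) (.leaf 11274292104)) (.leaf 19864238344)) (.node (.node (.leaf 26306679683) (.leaf 45097160199)) (.leaf 24159201930))))) (.node (.node (.node (.node (.node (.leaf 1073742982) (.leaf 35970362634)) (.leaf 15032397319)) (.node (.node (.leaf 10737425796) (.leaf 19327357447)) (.leaf 23622336644))) (.node (.node (.node (.leaf 9663678858) (.leaf 8053068549)) (.leaf 49392137729)) (.node (.node (.leaf 17716746114) (.leaf 29527913093)) (.leaf 38654712704))))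 (.node (.node (.node (.node (.leaf 3221227273) (.leaf 38117840902)) (.leaf 27917300101)) (.node (.node (.leaf 12348040455) (.leaf 24696069249)) (.leaf 63350785539))) (.node (.node (.node (.leaf 8589940354) (.leaf 15032396295)) (.leaf 34896624644)) (.node (.node (.leaf 42949677571) (.leaf 69793227648)) (.leaf 30601653001)))))) (.node (.node (.node (.node (.node (.node (.leaf 536871687) (.leaf 55297708042)) (.leaf 34359749769)) (.node (.node (.leaf 9663683588) (.leaf 18790483719)) (.leaf 44023424136))) (.node (.node (.node (.leaf 5905583621) (.leaf 5905582723)) (.leaf 54223975554)) (.node (.node (.leaf 19864233866) (.leaf 27917296516)) (.leaf 70330102144)))) (.node (.node (.node (.node (.leaf 4294968712) (.leaf 73014446602)) (.leaf 28991041795)) (.node (.node (.leaf 11811169031) (.leaf 23622336777)) (.leaf 27380434304))) (.node (.node (.node (.leaf 8053068932) (.leaf 12348039176)) (.leaf 59055815304)) (.node (.node (.leaf 13958649347) (.leaf 52613353865)) (.leaf 45097168394))))) (.node (.node (.node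 (.node (.node (.leaf 2147484416) (.leaf 28991046410)) (.leaf 27380428166)) (.node (.node (.leaf 11274297218) (.leaf 20937970565)) (.leaf 24159207944))) (.node (.node (.node (.leaf 17716744448) (.leaf 10737420934)) (.leaf 34896623235)) (.node (.node (.leaf 30601646851) (.leaf 38654722307)) (.leaf 69793225217)))) (.node (.node (.node (.node (.leaf 2684357001) (.leaf 27380424458)) (.leaf 54223975168)) (.node (.node (.leaf 15032395777) (.leaf 25769812871)) (.leaf 27917303177))) (.node (.node (.node (.leaf 9126811648) (.leaf 16643007363)) (.leaf 21474851976)) (.node (.leaf 13958654598) (.leaf 59592676618))))))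
def dF_5 : BT := .node dF_3 dF_4
def dF_6 : BT := .node dF_2 dF_5
def dF_7 : BT := .node (.node (.node (.node (.node (.node (.node (.leaf 2) (.leaf 15569270410)) (.leaf 37044103811)) (.node (.node (.leaf 9126811906) (.leaf 16643006470)) (.leaf 57982074120))) (.node (.node (.node (.leaf 10737420928) (.leaf 51539619842)) (.leaf 22548591492)) (.node (.node (.leaf 15569266817) (.leaf 26306686980)) (.leaf 52613354121)))) (.node (.node (.node (.node (.leaf 4294967943) (.leaf 28991035142)) (.leaf 15032397577)) (.node (.node (.leaf 11274297349) (.leaf 20937970952)) (.leaf 24696079111))) (.node (.node (.node (.leaf 7516197380) (.leaf 10737424777)) (.leaf 18253620873)) (.node (.node (.leaf 29527905030) (.leaf 39728452867)) (.leaf 69793235204))))) (.node (.node (.node (.node (.node (.leaf 1073742722) (.leaf 52613353348)) (.leaf 15032397187)) (.node (.node (.leaf 9663683719) (.leaf 19327356416)) (.leaf 54223977989))) (.node (.node (.node (.leaf 6442454786) (.leaf 7516197254)) (.leaf 54760846083)) (.node (.node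 (.leaf 18790492298) (.leaf 27917294729)) (.leaf 70330104579)))) (.node (.node (.node (.node (.leaf 6979323525) (.leaf 38117851393)) (.leaf 16643010947)) (.node (.node (.leaf 11811169160) (.leaf 24159194374)) (.leaf 71403849097))) (.node (.node (.node (.leaf 8053069063) (.leaf 13958649478)) (.leaf 20937980679)) (.node (.node (.leaf 33822871818) (.leaf 54223975043)) (.leaf 38117851018)))))) (.node (.node (.node (.node (.node (.node (.leaf 536871426) (.leaf 35970366601)) (.leaf 25769815042)) (.node (.node (.leaf 9663683200) (.leaf 17179882119)) (.leaf 23085464964))) (.node (.node (.node (.leaf 5905583361) (.leaf 3221225985)) (.leaf 39191589894)) (.node (.node (.leaf 14495517191) (.leaf 27380428800)) (.leaf 51539613828)))) (.node (.node (.node (.node (.leaf 1610614276) (.leaf 62277033354)) (.leaf 22548590722)) (.node (.node (.leaf 11274297737) (.leaf 23622322945)) (.leaf 25769821449))) (.node (.node (.node (.leaf 20401099648) (.leaf 11811162113)) (.leaf 42949687689)) (.node (.node (.leaf 23085452291)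 (.leaf 48855259528)) (.leaf 46170911498))))) (.node (.node (.node (.node (.node (.leaf 3758097541) (.leaf 34359749642)) (.leaf 27380428290)) (.node (.node (.leaf 10737425926) (.leaf 20401096580)) (.leaf 24696078464))) (.node (.node (.node (.leaf 16106131337) (.leaf 8589940231)) (.leaf 48855260936)) (.node (.node (.leaf 30601648385) (.leaf 31675388680)) (.leaf 38654722435)))) (.node (.node (.node (.node (.leaf 2147485704) (.leaf 28454171273)) (.leaf 31675396615)) (.node (.node (.leaf 12884911752) (.leaf 24696073608)) (.leaf 60129549706))) (.node (.node (.node (.leaf 15569262213) (.leaf 15569262208)) (.leaf 34896624645)) (.node (.leaf 13958654468) (.leaf 20401099914))))))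
def dF_8 : BT := .node (.node (.node (.node (.node (.node (.node (.leaf 137) (.leaf 12348036106)) (.leaf 13958654857)) (.node (.node (.leaf 9126812036) (.leaf 17179873283)) (.leaf 23085464965))) (.node (.node (.node (.leaf 5368712069) (.leaf 1073742595)) (.leaf 17179882500)) (.node (.node (.leaf 15569259011) (.leaf 26306686984)) (.leaf 71403835018)))) (.node (.node (.node (.node (.leaf 4294967938) (.leaf 49928997514)) (.leaf 16643010688)) (.node (.node (.leaf 11274297479) (.leaf 22548587779)) (.leaf 24696079240))) (.node (.node (.node (.leaf 18790486661) (.leaf 11274291719)) (.leaf 19327367305)) (.node (.node (.leaf 39191581824) (.leaf 45097160198)) (.leaf 37044094986))))) (.node (.node (.node (.node (.node (.leaf 2684355585) (.leaf 14495517322)) (.leaf 15032397318)) (.node (.node (.leaf 10737425667) (.leaf 19327357446)) (.leaf 49392140169))) (.node (.node (.node (.leaf 16106131207) (.leaf 8053068548)) (.leaf 18253624837)) (.node (.node (.leaf 17716746115) (.leaf 29527913092)) (.leaf 38654720778))))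 (.node (.node (.node (.node (.leaf 1610614536) (.leaf 38117841413)) (.leaf 27917300100)) (.node (.node (.leaf 12348040454) (.leaf 24696068352)) (.leaf 53150238209))) (.node (.node (.node (.leaf 23085454848) (.leaf 15032396294)) (.leaf 21474851841)) (.node (.node (.leaf 42949677574) (.leaf 54223966215)) (.leaf 30601648648)))))) (.node (.node (.node (.node (.node (.node (.leaf 536871686) (.leaf 55834580234)) (.leaf 14495526024)) (.node (.node (.leaf 9663683459) (.leaf 18790483718)) (.leaf 29527907081))) (.node (.node (.node (.leaf 5905583620) (.leaf 5905582722)) (.leaf 54223975555)) (.node (.node (.leaf 17716745863) (.leaf 27917296513)) (.leaf 75161944458)))) (.node (.node (.node (.node (.leaf 6442452486) (.leaf 32749131530)) (.leaf 52076491008)) (.node (.node (.leaf 11811169030) (.leaf 23622322183)) (.leaf 48855270785))) (.node (.node (.node (.leaf 12884907013) (.leaf 12348032899)) (.leaf 39191591553)) (.node (.node (.leaf 37044098566) (.leaf 52613356935)) (.leaf 46170914184))))) (.node (.node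 (.node (.node (.node (.leaf 2147484810) (.leaf 34359742343)) (.leaf 32749137288)) (.node (.node (.leaf 10737426185) (.leaf 20937970564)) (.leaf 25232949640))) (.node (.node (.node (.leaf 7516197121) (.leaf 10737421955)) (.leaf 24159204993)) (.node (.node (.leaf 25232935681) (.leaf 38654722306)) (.leaf 69793231232)))) (.node (.node (.node (.node (.leaf 2684356872) (.leaf 26843555081)) (.leaf 17179882241)) (.node (.node (.leaf 13421783045) (.leaf 25769812870)) (.leaf 27917291656))) (.node (.node (.node (.leaf 8589940615) (.leaf 16643007362)) (.leaf 40802192010)) (.node (.leaf 38117845512) (.leaf 19864228234))))))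
def dF_9 : BT := .node dF_7 dF_8
def dF_10 : BT := .node (.node (.node (.node (.node (.node (.node (.leaf 6) (.leaf 4294977162)) (.leaf 15569267328)) (.node (.node (.leaf 25232939268) (.leaf 17179880193)) (.leaf 22011723139))) (.node (.node (.node (.leaf 5368711939) (.leaf 46170909447)) (.leaf 54223975302)) (.node (.node (.leaf 31138516618) (.leaf 26306691334)) (.leaf 26306692488)))) (.node (.node (.node (.node (.leaf 1610613122) (.leaf 15032394122)) (.leaf 26306686857)) (.node (.node (.leaf 12348039168) (.leaf 22548587520)) (.leaf 53687108355))) (.node (.node (.node (.leaf 7516197510) (.leaf 11274290563)) (.leaf 18790496137)) (.node (.node (.leaf 29527905536) (.leaf 39728456965)) (.leaf 69793224839))))) (.node (.node (.node (.node (.node (.leaf 1073742852) (.leaf 64424517002)) (.leaf 25769815428)) (.node (.node (.leaf 11811167364) (.leaf 19327357442)) (.leaf 54223977988))) (.node (.node (.node (.leaf 16106131201) (.leaf 8053066626)) (.leaf 17716753801)) (.node (.node (.leaf 18790485126) (.leaf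 28454165253)) (.leaf 70330095750)))) (.node (.node (.node (.node (.leaf 6979323523) (.leaf 38117838723)) (.leaf 25769816455)) (.node (.node (.leaf 12348040322) (.leaf 24159197320)) (.leaf 26306692615))) (.node (.node (.node (.leaf 8589940096) (.leaf 13958650377)) (.leaf 22548593408)) (.node (.node (.leaf 18253613699) (.leaf 54223969157)) (.leaf 30601657738)))))) (.node (.node (.node (.node (.node (.node (.leaf 536871556) (.leaf 39728459914)) (.leaf 16643009542)) (.node (.node (.leaf 28454165248) (.leaf 18790486404)) (.leaf 48318390281))) (.node (.node (.node (.leaf 5905583490) (.leaf 5368710407)) (.leaf 17179882631)) (.node (.node (.leaf 42412807809) (.leaf 27380427267)) (.leaf 51539619846)))) (.node (.node (.node (.node (.leaf 4294968833) (.leaf 26843551489)) (.leaf 39728459909)) (.node (.node (.leaf 11811168897) (.leaf 23622326533)) (.leaf 26306692484))) (.node (.node (.node (.leaf 8053068803) (.leaf 11811162887)) (.leaf 20937980548)) (.node (.node (.leaf 23085452039) (.leaf 52613358849)) (.leaf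 46170911361))))) (.node (.node (.node (.node (.node (.leaf 3221225730) (.leaf 34359744515)) (.leaf 45097165832)) (.node (.node (.leaf 12884909569) (.leaf 20401100808)) (.leaf 25232949513))) (.node (.node (.node (.leaf 16106131464) (.leaf 9663678725)) (.leaf 18253624966)) (.node (.node (.leaf 28454164994) (.leaf 34359741960)) (.leaf 38654710663)))) (.node (.node (.node (.node (.leaf 2147485833) (.leaf 38654716676)) (.leaf 39728460288)) (.node (.node (.leaf 13421782915) (.leaf 25769811970)) (.leaf 27917305344))) (.node (.node (.node (.leaf 8589940485) (.leaf 15569262216)) (.leaf 22548583305)) (.node (.leaf 42949683713) (.leaf 3221235978))))))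
def dF_11 : BT := .node (.node (.node (.node (.node (.node (.node (.leaf 536871297) (.leaf 35970364938)) (.leaf 14495525893)) (.node (.node (.leaf 9126812166) (.leaf 17179874565)) (.leaf 54760846602))) (.node (.node (.node (.leaf 5368712199) (.leaf 1073742343)) (.leaf 39728460803)) (.node (.node (.leaf 32212258186) (.leaf 26843551236)) (.leaf 51539619200)))) (.node (.node (.node (.node (.leaf 4294968585) (.leaf 25769818506)) (.leaf 21474848902)) (.node (.node (.leaf 12884910208) (.leaf 22548582405)) (.leaf 25769821320))) (.node (.node (.node (.leaf 8053068544) (.leaf 11274292745)) (.leaf 20937980169)) (.node (.node (.leaf 37580969354) (.leaf 46170905736)) (.leaf 17716743434))))) (.node (.node (.node (.node (.node (.leaf 1073742983) (.leaf 40265326602)) (.leaf 17716751877)) (.node (.node (.leaf 10737425797) (.leaf 19327360392)) (.leaf 23622336645))) (.node (.node (.node (.leaf 9663677064) (.leaf 8589937408)) (.leaf 19327366656)) (.node (.node (.leaf 28454164742) (.leaf 31675396358)) (.leaf 38654711041))))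 (.node (.node (.node (.node (.leaf 1610614665) (.leaf 38117840903)) (.leaf 16643011076)) (.node (.node (.leaf 12348040584) (.leaf 24696068870)) (.leaf 73551319562))) (.node (.node (.node (.leaf 8589940355) (.leaf 15032388232)) (.leaf 52613364742)) (.node (.node (.leaf 42949677570) (.leaf 69793224200)) (.leaf 9663683594)))))) (.node (.node (.node (.node (.node (.node (.leaf 2147484421) (.leaf 56371458698)) (.leaf 14495526153)) (.node (.node (.leaf 9663683589) (.leaf 18790494472)) (.leaf 57445203337))) (.node (.node (.node (.leaf 5905583750) (.leaf 7516196096)) (.leaf 29527913604)) (.node (.node (.leaf 19864229505) (.leaf 27917296517)) (.leaf 70330096129)))) (.node (.node (.node (.node (.leaf 1610614406) (.leaf 38117847434)) (.leaf 28991041794)) (.node (.node (.leaf 12884910851) (.leaf 24159195520)) (.leaf 74625074566))) (.node (.node (.node (.leaf 8053068933) (.leaf 12348033673)) (.leaf 59592686217)) (.node (.node (.leaf 13958649346) (.leaf 54223973120)) (.leaf 45097163138))))) (.node (.node (.node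 (.node (.node (.leaf 2147483910) (.leaf 28991036036)) (.leaf 27380428167)) (.node (.node (.leaf 11274297219) (.leaf 20937974790)) (.leaf 24159208073))) (.node (.node (.node (.leaf 7516197250) (.leaf 10737420935)) (.leaf 34896623234)) (.node (.node (.leaf 30601646850) (.leaf 39728460032)) (.leaf 69793227778)))) (.node (.node (.node (.node (.leaf 5368711680) (.leaf 27380419080)) (.leaf 17179882370)) (.node (.node (.leaf 13421783174) (.leaf 25769808392)) (.leaf 61203296522))) (.node (.node (.node (.leaf 9126811777) (.leaf 16643010820)) (.leaf 57982073993)) (.node (.leaf 13958654599) (.leaf 20937980554))))))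
def dF_12 : BT := .node dF_10 dF_11
def dF_13 : BT := .node dF_9 dF_12
def dF_14 : BT := .node dF_6 dF_13
def dF : BT := dF_14
def dP_0 : BT := .node (.node (.node (.node (.node (.node (.node (.leaf 0) (.leaf 5513)) (.leaf 2692)) (.node (.leaf 1673) (.leaf 3721))) (.node (.node (.leaf 520) (.leaf 3204)) (.node (.leaf 2176) (.leaf 4616)))) (.node (.node (.node (.node (.leaf 260) (.leaf 5897)) (.leaf 2825)) (.node (.leaf 1922) (.leaf 4100))) (.node (.node (.leaf 1286) (.leaf 3460)) (.node (.leaf 2308) (.leaf 5121))))) (.node (.node (.node (.node (.node (.leaf 130) (.leaf 5768)) (.leaf 2816)) (.node (.leaf 1796) (.leaf 3972))) (.node (.node (.leaf 1280) (.leaf 3332)) (.node (.leaf 2182) (.leaf 4873)))) (.node (.node (.node (.node (.leaf 388) (.leaf 6278)) (.leaf 2953)) (.node (.leaf 2049) (.leaf 4356))) (.node (.node (.leaf 1412) (.leaf 3590)) (.node (.leaf 2566) (.leaf 5254)))))) (.node (.node (.node (.node (.node (.node (.leaf 128) (.leaf 5640)) (.leaf 2696)) (.node (.leaf 1793) (.leaf 3969)))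 (.node (.node (.leaf 648) (.leaf 3208)) (.node (.leaf 2178) (.leaf 4744)))) (.node (.node (.node (.node (.leaf 264) (.leaf 6153)) (.leaf 2950)) (.node (.leaf 1926) (.leaf 4232))) (.node (.node (.leaf 1409) (.leaf 3465)) (.node (.leaf 2562) (.leaf 5129))))) (.node (.node (.node (.node (.node (.leaf 134) (.leaf 5894)) (.leaf 2822)) (.node (.leaf 1920) (.leaf 4097))) (.node (.node (.leaf 1282) (.leaf 3336)) (.node (.leaf 2305) (.leaf 4998)))) (.node (.node (.node (.leaf 392) (.leaf 3081)) (.node (.leaf 2052) (.leaf 4488))) (.node (.node (.leaf 1538) (.leaf 3593)) (.node (.leaf 2569) (.leaf 5257))))))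
def dP_1 : BT := .node (.node (.node (.node (.node (.node (.node (.leaf 8) (.leaf 5636)) (.leaf 2694)) (.node (.leaf 1792) (.leaf 3968))) (.node (.node (.leaf 521) (.leaf 3206)) (.node (.leaf 2177) (.leaf 4617)))) (.node (.node (.node (.node (.leaf 262) (.leaf 6152)) (.leaf 2946)) (.node (.leaf 1924) (.leaf 4102))) (.node (.node (.leaf 1408) (.leaf 3464)) (.node (.leaf 2310) (.leaf 5128))))) (.node (.node (.node (.node (.node (.leaf 132) (.leaf 5769)) (.leaf 2817)) (.node (.leaf 1798) (.leaf 4096))) (.node (.node (.leaf 1281) (.leaf 3334)) (.node (.leaf 2304) (.leaf 4996)))) (.node (.node (.node (.leaf 390) (.leaf 3080)) (.node (.leaf 2050) (.leaf 4358))) (.node (.node (.leaf 1414) (.leaf 3592)) (.node (.leaf 2568) (.leaf 5256)))))) (.node (.node (.node (.node (.node (.node (.leaf 129) (.leaf 5641)) (.leaf 2697)) (.node (.leaf 1794) (.leaf 3970))) (.node (.node (.leaf 649) (.leaf 3209)) (.node (.leaf 2180) (.leaf 4872)))) (.node (.node (.node (.node (.leaf 265) (.leaf 6276)) (.leaf 2952)) (.node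 (.leaf 2048) (.leaf 4233))) (.node (.node (.leaf 1410) (.leaf 3586)) (.node (.leaf 2564) (.leaf 5250))))) (.node (.node (.node (.node (.node (.leaf 258) (.leaf 5896)) (.leaf 2824)) (.node (.leaf 1921) (.leaf 4098))) (.node (.node (.leaf 1284) (.leaf 3337)) (.node (.leaf 2306) (.leaf 5000)))) (.node (.node (.node (.leaf 393) (.leaf 3202)) (.node (.leaf 2054) (.leaf 4489))) (.node (.node (.leaf 1672) (.leaf 3720)) (.node (.leaf 2690) (.leaf 5512))))))
def dP_2 : BT := .node dP_0 dP_1
def dP : BT := dP_2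
def dRels : List (List ℕ) := [[], [0, 1], [1, 0], [2, 3], [3, 2], [4, 5], [5, 4], [6, 7], [7, 6], [8, 9], [9, 8], [0, 0, 0], [1, 1, 1], [2, 2], [3, 3], [4, 4], [5, 5], [6, 6], [7, 7], [0, 2, 0, 2, 0, 2], [3, 1, 3, 1, 3, 1], [2, 4, 2, 4, 2, 4], [5, 3, 5, 3, 5, 3], [4, 6, 4, 6, 4, 6], [7, 5, 7, 5, 7, 5], [0, 4, 0, 4], [5, 1, 5, 1], [0, 6, 0, 6], [7, 1, 7, 1], [2, 6, 2, 6], [7, 3, 7, 3], [8, 8, 0, 3, 5, 0, 3, 1], [0, 2, 1, 4, 2, 1, 9, 9], [8, 6, 4, 2, 9, 0, 3, 5, 7, 1], [0, 6, 4, 2, 1, 8, 3, 5, 7, 9], [8, 6, 8, 6, 8, 6, 8, 6, 8, 6], [7, 9, 7, 9, 7, 9, 7, 9, 7, 9]]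
def dD : Data := ⟨5, dF, dP, dRels, [0, 2, 4, 6]⟩
def dJ0 : List (List ℕ) := [[1, 0], [1, 0], [1, 0], [1, 0], [0, 0], [34, 6, 9, 0, 2, 1, 4, 2, 1], [0, 0], [0, 0], [13, 2, 15, 12], [0, 0], [16, 1, 19], [0, 0], [18, 1, 23], [0, 0], [20, 1, 27], [36, 7, 27, 9, 0, 6, 4, 2, 1, 8, 20], [17, 1, 31], [0, 0], [16, 1, 35], [0, 0], [18, 1, 39], [28, 3, 39, 13, 24], [0, 0], [20, 1, 45], [30, 3, 45, 13, 28], [35, 7, 45, 13, 11, 6, 4, 2, 10, 12, 36], [34, 2, 48, 51, 37, 13, 9, 10, 12, 34], [5, 0, 36, 52], [6, 0, 34, 52], [7, 0, 51, 52, 33], [3, 0, 48, 59], [9, 0, 46, 59], [10, 0, 44, 59], [26, 2, 23, 28, 33, 64, 40], [19, 1, 67], [21, 3, 15, 18, 60, 54, 16], [24, 3, 23, 20, 30, 56, 40], [15, 1, 73], [0, 0], [34, 6, 77, 16, 70, 17, 38, 74, 42], [0, 0], [0, 0], [18, 1, 83], [28, 3, 83, 17, 40], [13, 2, 87, 43], [29, 3, 87, 68, 88], [33, 0, 81, 16, 71, 84, 87, 72, 42], [0, 0], [20, 1, 95], [26, 5, 95, 84, 91, 83, 96], [30, 3, 95, 17, 46, 59], [32, 3, 95, 71, 96], [21, 0, 103, 101, 21, 12, 34, 52], [0, 0], [34,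 6, 107, 15, 18, 100, 99, 103, 105], [0, 0], [33, 0, 111, 15, 20, 30, 104, 102, 105], [0, 0], [34, 6, 115, 60, 54, 13, 22, 73, 86], [0, 0], [33, 0, 119, 60, 56, 40, 43, 75, 86], [0, 0], [0, 0], [0, 0], [0, 0], [13, 2, 129, 126], [0, 0], [16, 1, 133], [0, 0], [18, 1, 137], [0, 0], [20, 1, 141], [0, 0], [0, 0], [13, 2, 147, 144], [0, 0], [16, 1, 151], [0, 0], [18, 1, 155], [0, 0], [20, 1, 159], [0, 0], [16, 1, 163], [22, 5, 163, 89, 75, 86, 164], [24, 0, 163, 83, 71, 84, 164], [32, 0, 163, 91, 164], [33, 1, 125, 88, 164, 168, 167, 163, 89, 122], [11, 0, 124, 173], [0, 0], [34, 6, 177, 101, 21, 14, 82, 162, 166], [0, 0], [33, 0, 181, 101, 19, 24, 88, 164, 166], [0, 0], [0, 0], [13, 2, 187, 184], [0, 0], [16, 1, 191], [0, 0], [18, 1, 195], [0, 0], [20, 1, 199], [36, 7, 199, 107, 15, 26, 31, 21, 14, 106, 192], [17, 1, 203], [0, 0], [0, 0], [13, 2, 209, 206], [0, 0], [16, 1, 213], [35, 2, 215, 113, 104, 102, 98, 95, 17, 76, 140], [18, 1, 217], [0, 0], [18, 1, 221], [0, 0], [20, 1, 225], [38, 9, 225,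 113, 27, 9, 7, 10, 28, 108, 200], [0, 0], [0, 0], [13, 2, 233, 230], [0, 0], [16, 1, 237], [35, 2, 239, 115, 60, 56, 40, 66, 42, 92, 158], [18, 1, 241], [0, 0], [18, 1, 245], [0, 0], [20, 1, 249], [0, 0], [0, 0], [13, 2, 255, 252], [0, 0], [16, 1, 259], [35, 2, 261, 121, 87, 72, 23, 28, 48, 59, 114, 248], [18, 1, 263], [0, 0], [18, 1, 267], [0, 0], [20, 1, 271], [0, 0], [0, 0], [13, 2, 277, 274], [0, 0], [16, 1, 281], [0, 0], [18, 1, 285], [0, 0], [20, 1, 289], [36, 7, 289, 123, 88, 90, 85, 70, 17, 76, 134], [17, 1, 293], [0, 0], [16, 1, 297], [0, 0], [18, 1, 301], [28, 3, 301, 127, 138], [0, 0], [20, 1, 307], [30, 3, 307, 127, 142], [0, 0], [0, 0], [0, 0], [16, 1, 317], [0, 0], [18, 1, 321], [28, 3, 321, 131, 302], [13, 2, 325, 305], [0, 0], [20, 1, 329], [30, 3, 329, 131, 308], [13, 2, 333, 311], [0, 0], [0, 0], [0, 0], [0, 0], [13, 2, 343, 340], [0, 0], [20, 1, 347], [32, 3, 347, 133, 142], [15, 1, 351], [0, 0], [0, 0], [0, 0], [16, 1, 359], [0, 0], [20, 1, 363], [0, 0], [0, 0], [0, 0], [0,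 0], [16, 1, 373], [0, 0], [18, 1, 377], [28, 3, 377, 145, 156], [0, 0], [20, 1, 383], [30, 3, 383, 145, 160], [35, 7, 383, 145, 81, 44, 59, 32, 54, 80, 144, 374], [34, 2, 386, 389, 375, 145, 93, 78, 126, 296], [5, 0, 298, 390], [6, 0, 296, 390], [24, 3, 245, 238, 241, 394, 302], [32, 3, 151, 160, 394, 308]]
def dJ1 : List (List ℕ) := [[3, 0, 310, 398], [10, 0, 306, 398], [15, 1, 397], [34, 2, 243, 392, 127, 77, 80, 144, 372], [36, 1, 243, 392, 127, 79, 72, 23, 28, 108, 184], [20, 1, 409], [30, 3, 406, 409, 185, 200], [4, 0, 407, 413], [6, 0, 372, 413], [7, 0, 389, 413, 205], [3, 0, 386, 419], [9, 0, 384, 419], [10, 0, 382, 419], [32, 1, 249, 238, 409], [15, 1, 427], [36, 1, 265, 427, 185, 109, 56, 40, 66, 124, 173, 274], [20, 1, 431], [30, 3, 431, 275, 290], [32, 1, 271, 260, 431], [15, 1, 437], [27, 3, 262, 435, 293, 340], [4, 0, 340, 440], [33, 6, 207, 111, 106, 184, 426, 264, 435], [15, 1, 445], [23, 5, 445, 293, 135, 136, 358], [31, 3, 445, 291, 280], [20, 1, 451], [29, 2, 227, 206, 453],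 [18, 1, 449], [27, 2, 223, 206, 457], [22, 4, 211, 447, 434, 259, 254], [35, 9, 231, 117, 90, 85, 70, 110, 206, 447, 295, 348], [5, 0, 350, 462], [6, 0, 352, 462], [9, 0, 348, 462], [10, 0, 346, 462], [30, 2, 235, 470, 342], [19, 1, 473], [22, 4, 235, 466, 310, 398, 151, 146], [15, 1, 477], [15, 1, 461], [22, 5, 189, 426, 442, 133, 128, 318], [5, 0, 318, 482], [6, 0, 316, 482], [26, 2, 195, 200, 205, 424, 378], [19, 1, 489], [24, 3, 195, 192, 202, 416, 378], [15, 1, 493], [0, 0], [0, 0], [18, 1, 499], [28, 3, 499, 149, 378], [13, 2, 503, 381], [33, 1, 503, 492, 195, 184, 426, 442, 354], [0, 0], [20, 1, 509], [30, 3, 509, 149, 384, 419], [32, 3, 509, 476, 475], [15, 1, 515], [21, 0, 515, 343, 135, 126, 296, 390], [0, 0], [0, 0], [0, 0], [18, 1, 525], [33, 3, 525, 400, 350, 462, 231, 117, 120, 252], [15, 1, 529], [21, 0, 529, 256, 480, 209, 212], [35, 1, 527, 153, 93, 43, 75, 39, 46, 59, 100, 176], [20, 1, 535], [0, 0], [34, 6, 539, 400, 352, 462, 231, 244, 397, 324], [0, 0], [0, 0], [16, 1, 545],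 [24, 0, 545, 155, 152, 526, 531], [17, 1, 549], [28, 3, 551, 253, 268], [0, 0], [20, 1, 555], [26, 5, 555, 155, 160, 242, 409], [30, 3, 555, 380, 488], [21, 5, 561, 493, 381, 544, 553], [27, 3, 561, 197, 184], [33, 0, 357, 443, 429, 558, 561, 495, 502], [24, 5, 565, 426, 264, 259, 268], [33, 1, 553, 568, 565, 188, 486, 131, 312], [31, 1, 547, 554, 569], [20, 1, 573], [0, 0], [0, 0], [0, 0], [34, 6, 581, 518, 515, 345, 440, 262, 261, 254], [0, 0], [0, 0], [30, 0, 587, 536, 533], [19, 1, 589], [25, 0, 589, 219, 143, 136, 362], [31, 0, 589, 215, 224], [16, 1, 595], [18, 1, 593], [0, 0], [13, 2, 601, 586], [22, 0, 603, 595, 455, 281, 276], [15, 1, 605], [0, 0], [16, 1, 609], [22, 5, 609, 600, 607, 279, 436], [32, 0, 609, 536, 531], [19, 1, 615], [25, 0, 615, 550, 575, 269, 270], [18, 1, 619], [0, 0], [18, 1, 623], [26, 0, 623, 536, 525, 402, 302], [19, 1, 627], [29, 0, 627, 305, 362], [0, 0], [0, 0], [13, 2, 635, 632], [0, 0], [16, 1, 639], [35, 2, 641, 183, 167, 163, 83, 96, 105, 112, 224], [18,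 1, 643], [36, 1, 645, 594, 587, 179, 163, 83, 96, 180, 632], [20, 1, 647], [0, 0], [18, 1, 651], [24, 5, 651, 640, 643, 596, 593], [15, 1, 655], [31, 3, 655, 365, 358], [0, 0], [20, 1, 661], [26, 5, 661, 652, 659, 456, 451], [32, 3, 661, 640, 647], [15, 1, 667], [34, 3, 667, 633, 183, 178, 586, 597, 455], [33, 5, 669, 633, 181, 176, 586, 595, 644], [22, 4, 637, 666, 673, 639, 634], [0, 0], [0, 0], [0, 0], [18, 1, 681], [28, 3, 681, 189, 558], [13, 2, 685, 561], [29, 3, 685, 557, 504], [33, 0, 315, 130, 485, 682, 685, 563, 552], [20, 1, 689], [0, 0], [26, 5, 695, 682, 689, 499, 510], [30, 3, 695, 189, 410], [32, 3, 695, 486, 330], [15, 1, 701], [21, 0, 701, 333, 398, 153, 144, 372, 413], [34, 6, 371, 334, 702, 705, 203, 193, 186], [0, 0], [0, 0], [0, 0], [0, 0], [0, 0], [34, 6, 717, 704, 701, 335, 216, 215, 208], [0, 0], [34, 6, 721, 210, 461, 257, 550, 547, 380], [0, 0], [0, 0], [18, 1, 727], [28, 3, 727, 211, 449], [33, 1, 731, 359, 137, 126, 298, 390, 386, 419, 708], [34, 7, 731, 361, 304, 303,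 296, 390, 386, 419, 710], [0, 0], [20, 1, 737], [30, 3, 737, 211, 451], [13, 2, 741, 454], [0, 0], [0, 0], [27, 3, 747, 219, 334], [29, 3, 747, 590, 602], [20, 1, 751], [18, 1, 749], [34, 7, 745, 209, 212, 746, 755, 702, 705, 228], [12, 0, 744, 757], [35, 1, 362, 592, 597, 758, 209, 214, 217, 141, 128, 336], [11, 0, 336, 760, 368], [0, 0], [34, 6, 765, 532, 529, 253, 266, 562, 684], [0, 0], [33, 0, 769, 532, 531, 548, 553, 568, 684], [0, 0], [16, 1, 773], [22, 5, 773, 459, 359, 304, 396], [24, 0, 773, 221, 214, 217, 350, 462], [36, 5, 773, 221, 226, 758, 209, 224, 642, 641, 634], [34, 7, 677, 188, 483, 319, 131, 300, 404, 776, 781], [12, 0, 676, 783], [17, 1, 779], [25, 5, 779, 468, 294, 291, 284], [34, 7, 325, 404, 776, 779, 464, 310, 398, 542], [20, 1, 789], [35, 4, 277, 282, 664, 661, 634, 780, 793, 287, 280], [33, 1, 458, 774, 787, 234, 479, 149, 496], [34, 7, 777, 397, 324, 323, 316, 482, 189, 678]]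
def dJ2 : List (List ℕ) := [[0, 0], [26, 5, 801, 221, 226, 644, 647], [32, 3, 801, 774, 789], [23, 5, 805, 287, 280, 670, 667], [0, 0], [34, 6, 809, 234, 477, 149, 376, 494, 560], [0, 0], [18, 1, 813], [28, 3, 813, 235, 778], [13, 2, 817, 777], [0, 0], [34, 6, 821, 233, 236, 698, 697, 515, 345, 440], [0, 0], [33, 0, 825, 233, 238, 241, 518, 517, 345, 440], [0, 0], [0, 0], [0, 0], [20, 1, 833], [26, 5, 833, 245, 250, 264, 431], [32, 3, 833, 405, 626], [23, 5, 839, 625, 608, 621, 437], [0, 0], [0, 0], [0, 0], [34, 6, 847, 256, 480, 211, 457, 361, 304], [0, 0], [33, 0, 851, 256, 460, 728, 731, 359, 304], [0, 0], [18, 1, 855], [28, 3, 855, 257, 548], [13, 2, 859, 553], [29, 3, 859, 575, 860], [33, 1, 859, 545, 155, 144, 374, 413, 414, 828], [34, 7, 859, 547, 380, 379, 372, 413, 414, 830], [0, 0], [20, 1, 869], [26, 5, 869, 856, 863, 855, 870], [30, 3, 869, 257, 614], [32, 3, 869, 460, 738], [35, 1, 489, 379, 417, 228, 742, 876, 872, 869, 257, 846], [11, 0, 846, 878, 714], [12, 0, 848, 878, 712], [15,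 1, 877], [21, 0, 877, 741, 283, 274, 438], [34, 0, 886, 877, 743, 642, 641, 634, 784, 678], [11, 0, 678, 888], [12, 0, 799, 888], [34, 0, 601, 608, 874, 873, 877, 743, 758, 718], [11, 0, 718, 894], [12, 0, 716, 894], [36, 0, 255, 270, 618, 611, 600, 896, 481, 856, 863, 865], [11, 0, 865, 900], [11, 0, 828, 900, 582], [11, 0, 580, 904, 830], [11, 0, 867, 906, 584], [3, 0, 858, 909], [4, 0, 860, 909], [7, 0, 856, 909], [8, 0, 854, 909], [9, 0, 908, 863, 909], [12, 0, 901, 864, 909], [38, 3, 827, 249, 115, 58, 45, 80, 160, 584, 919, 920, 870], [3, 0, 874, 922], [4, 0, 886, 922], [5, 0, 876, 922], [6, 0, 884, 922], [7, 0, 923, 872, 922], [9, 0, 870, 922], [10, 0, 868, 922], [36, 6, 929, 933, 936, 582, 904, 407, 413, 201, 194, 493, 502, 566], [3, 0, 740, 939], [4, 0, 742, 939], [5, 0, 923, 885, 939], [6, 0, 923, 877, 939], [9, 0, 738, 939], [10, 0, 736, 939], [38, 0, 936, 582, 904, 409, 678, 888, 271, 121, 91, 116, 250, 822], [3, 0, 925, 953], [4, 0, 927, 953], [5, 0, 938, 929, 953], [6, 0, 938, 931,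 953], [7, 0, 952, 933, 953], [9, 0, 935, 953], [10, 0, 937, 953], [11, 0, 826, 953, 821], [9, 0, 248, 969, 475], [5, 0, 515, 970, 238], [9, 0, 508, 973, 409], [11, 0, 889, 679, 974, 522], [12, 0, 782, 677, 974, 520], [3, 0, 634, 979], [4, 0, 636, 979], [5, 0, 978, 674, 979], [11, 0, 781, 979], [7, 0, 559, 974, 500], [5, 0, 568, 989], [6, 0, 562, 989], [11, 0, 811, 989, 507], [11, 0, 808, 995, 355], [7, 0, 779, 997, 292], [3, 0, 776, 999], [11, 0, 889, 798, 999], [12, 0, 978, 780, 999], [9, 0, 788, 999, 289], [5, 0, 805, 1007, 282], [9, 0, 800, 1009, 452], [7, 0, 220, 1011, 449], [11, 0, 796, 1012, 113], [11, 0, 496, 1015, 108], [9, 0, 418, 385, 1017, 200], [11, 0, 229, 1018, 710], [11, 0, 735, 1020, 758], [11, 0, 732, 1023, 718, 894], [4, 0, 705, 1018, 420], [9, 0, 694, 1027, 159], [11, 0, 707, 1029, 93], [11, 0, 370, 1031, 78], [7, 0, 219, 1033, 138], [11, 0, 769, 1035, 368, 762], [11, 0, 770, 1037, 338], [4, 0, 686, 1039], [12, 0, 767, 1039], [12, 0, 765, 1035, 366], [9, 0, 589, 1035, 364],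 [4, 0, 586, 1047], [5, 0, 594, 1047, 654], [7, 0, 650, 1050, 644], [9, 0, 646, 1052, 662], [4, 0, 603, 1047, 630], [7, 0, 624, 1056], [8, 0, 622, 1056], [9, 0, 628, 1056, 752], [7, 0, 748, 1062, 301], [9, 0, 328, 1065, 308, 398], [11, 0, 543, 1066, 338], [11, 0, 791, 1069, 1042, 1045], [11, 0, 366, 1070, 540], [7, 0, 527, 1066, 322], [5, 0, 528, 1075], [6, 0, 530, 1075], [9, 0, 536, 1075], [10, 0, 534, 1075], [5, 0, 839, 1056, 607], [7, 0, 836, 1085], [8, 0, 840, 1085], [9, 0, 834, 1085], [10, 0, 832, 1085], [7, 0, 1038, 683, 1029, 156], [11, 0, 1071, 1044, 1043, 1095, 578], [12, 0, 338, 1095, 576], [3, 0, 1041, 1095, 380], [11, 0, 723, 1100, 714, 880], [11, 0, 720, 1103, 850], [11, 0, 852, 1104, 724], [3, 0, 817, 999, 434], [4, 0, 818, 1109], [36, 6, 545, 155, 160, 584, 908, 859, 575, 269, 258, 1110, 842], [11, 0, 842, 1112, 571], [11, 0, 312, 1114, 844], [35, 5, 613, 439, 1087, 1092, 776, 999, 1002, 273, 266, 562, 989, 507], [3, 0, 612, 1119], [4, 0, 952, 923, 875, 1119], [5, 0, 610, 1119],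 [6, 0, 608, 1119], [7, 0, 620, 1119], [8, 0, 618, 1119], [9, 0, 614, 1119], [10, 0, 616, 1119], [35, 0, 1090, 247, 236, 830, 906, 518, 973, 237, 246, 834, 1085, 279], [34, 7, 983, 984, 978, 637, 1055, 665, 283, 276, 1137], [33, 0, 1139, 278, 604, 1060, 586, 1047, 654, 1050, 455], [36, 2, 984, 978, 637, 1139, 436, 620, 1119, 1134, 850, 1104, 210, 736, 939], [37, 2, 365, 1073, 541, 1074, 537, 179, 171, 182, 1053, 649, 1139, 430], [34, 7, 1046, 602, 605, 279, 1089, 606, 1057, 631, 1145], [37, 6, 315, 1064, 331, 763, 369, 362, 1147, 433, 1136, 1090, 842, 1112, 575], [11, 0, 314, 1149], [12, 0, 690, 1149], [34, 4, 908, 861, 1152, 571, 1114, 818, 1109, 261, 254, 854, 909], [18, 1, 1143], [26, 0, 1143, 950, 728, 1023, 738, 939, 1156], [5, 0, 53, 35], [6, 0, 53, 37], [9, 0, 58, 45], [10, 0, 58, 47], [12, 0, 172, 125], [4, 0, 58, 49], [9, 0, 1032, 141], [10, 0, 1032, 143], [3, 0, 1016, 145], [5, 0, 1067, 151], [6, 0, 1067, 153], [3, 0, 975, 185], [4, 0, 1028, 187], [9, 0, 1019, 199], [10, 0, 1019, 201],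 [5, 0, 1034, 213], [6, 0, 1034, 215], [7, 0, 1010, 221], [8, 0, 1010, 223], [3, 0, 996, 231]]
def dJ3 : List (List ℕ) := [[9, 0, 968, 249], [10, 0, 968, 251], [7, 0, 1006, 285], [8, 0, 1006, 287], [5, 0, 391, 297], [6, 0, 391, 299], [9, 0, 1067, 399, 307], [10, 0, 1067, 399, 309], [11, 0, 1115, 313], [12, 0, 1148, 315], [5, 0, 1028, 483, 317], [6, 0, 1028, 483, 319], [9, 0, 1064, 329], [10, 0, 1064, 331], [11, 0, 761, 337], [12, 0, 1094, 339], [3, 0, 968, 441, 341], [4, 0, 971, 343], [9, 0, 996, 463, 347], [10, 0, 996, 463, 349], [5, 0, 1013, 359], [6, 0, 1013, 361], [11, 0, 1071, 367], [12, 0, 763, 369], [4, 0, 1016, 148], [9, 0, 972, 509], [10, 0, 972, 511], [12, 0, 977, 523], [4, 0, 1101, 381], [9, 0, 988, 555], [10, 0, 988, 557], [11, 0, 1099, 577], [12, 0, 1097, 579], [3, 0, 972, 519], [4, 0, 418, 387], [11, 0, 905, 581], [3, 0, 1046, 587], [5, 0, 1118, 609], [6, 0, 1118, 611], [7, 0, 1057, 623], [8, 0, 1057, 625], [9, 0, 1074, 535], [10, 0, 1074, 537], [4, 0, 978, 635], [5, 0, 1053, 639],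 [6, 0, 1053, 641], [7, 0, 1051, 651], [8, 0, 1051, 653], [9, 0, 1055, 661], [10, 0, 1055, 663], [4, 0, 972, 513], [7, 0, 1019, 205], [8, 0, 1019, 203], [9, 0, 1016, 423], [10, 0, 1016, 425], [11, 0, 1024, 709], [12, 0, 1021, 711], [3, 0, 1094, 1038, 687], [4, 0, 988, 561], [5, 0, 1101, 492], [6, 0, 1101, 494], [9, 0, 1101, 488], [10, 0, 1101, 490], [11, 0, 883, 713], [12, 0, 881, 715], [7, 0, 1013, 456], [8, 0, 1013, 448], [11, 0, 1102, 721], [12, 0, 1107, 725], [7, 0, 1022, 727], [8, 0, 1022, 729], [9, 0, 938, 737], [10, 0, 938, 739], [11, 0, 756, 745], [12, 0, 895, 719], [3, 0, 938, 743], [5, 0, 1046, 595], [6, 0, 1046, 597], [7, 0, 1053, 643], [8, 0, 1053, 645], [11, 0, 1019, 228], [4, 0, 996, 234], [7, 0, 1108, 813], [8, 0, 1108, 815], [9, 0, 971, 472], [10, 0, 971, 474], [12, 0, 952, 825], [3, 0, 1019, 412, 406], [4, 0, 1026, 699], [9, 0, 975, 410], [10, 0, 975, 408], [11, 0, 901, 829], [12, 0, 907, 831], [3, 0, 1108, 819], [4, 0, 998, 777], [9, 0, 1084, 833], [10, 0, 1084, 835], [11, 0,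 1113, 843], [12, 0, 1117, 845], [5, 0, 1074, 531], [6, 0, 1074, 529], [9, 0, 1118, 617], [10, 0, 1118, 615], [11, 0, 879, 847], [12, 0, 1105, 851], [7, 0, 908, 855], [8, 0, 908, 857], [9, 0, 952, 923, 869], [10, 0, 952, 923, 871], [11, 0, 908, 903], [12, 0, 905, 583], [7, 0, 968, 264], [8, 0, 968, 262], [3, 0, 908, 861], [5, 0, 988, 563], [6, 0, 988, 569], [3, 0, 952, 923, 887], [4, 0, 1118, 613], [7, 0, 1118, 619], [8, 0, 1118, 621], [11, 0, 975, 891], [12, 0, 998, 893], [7, 0, 1084, 841], [8, 0, 1084, 837], [4, 0, 938, 741], [7, 0, 1055, 671], [8, 0, 1055, 665], [9, 0, 1057, 629], [10, 0, 1057, 627], [11, 0, 1105, 853], [12, 0, 879, 849], [11, 0, 1094, 1068, 790], [12, 0, 1073, 541], [5, 0, 952, 945], [6, 0, 952, 947], [3, 0, 1057, 631], [5, 0, 1051, 657], [6, 0, 1051, 655], [7, 0, 1046, 593], [8, 0, 1046, 599], [3, 0, 1101, 502], [9, 0, 1094, 1038, 689], [10, 0, 1094, 1038, 693], [11, 0, 998, 987], [4, 0, 908, 859], [11, 0, 1148, 691], [12, 0, 1115, 570], [4, 0, 1046, 602], [9, 0, 1063, 751],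 [10, 0, 1063, 753], [12, 0, 1019, 899], [3, 0, 978, 637], [5, 0, 1055, 669], [6, 0, 1055, 667], [7, 0, 1008, 807], [8, 0, 1008, 803], [9, 0, 1053, 647], [10, 0, 1053, 649], [3, 0, 1118, 955], [11, 0, 968, 822]]
def dJS : List (List ℕ) := List.flatten [dJ0, dJ1, dJ2, dJ3]
def dLive_0 : BT := .node (.node (.node (.node (.node (.node (.leaf 0) (.leaf 44)) (.node (.leaf 18) (.leaf 74))) (.node (.node (.leaf 10) (.leaf 53)) (.leaf 30))) (.node (.node (.node (.leaf 4) (.leaf 49)) (.node (.leaf 23) (.leaf 96))) (.node (.node (.leaf 14) (.leaf 59)) (.leaf 36)))) (.node (.node (.node (.node (.leaf 2) (.leaf 46)) (.node (.leaf 21) (.leaf 86))) (.node (.node (.leaf 12) (.leaf 55)) (.leaf 32))) (.node (.node (.node (.leaf 6) (.leaf 51)) (.node (.leaf 28) (.leaf 101))) (.node (.node (.leaf 16) (.leaf 71)) (.leaf 39))))) (.node (.node (.node (.node (.node (.leaf 1) (.leaf 45)) (.node (.leaf 20) (.leaf 84))) (.node (.node (.leaf 11) (.leaf 54)) (.leaf 31))) (.node (.node (.node (.leaf 5) (.leaf 50)) (.node (.leaf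 26) (.leaf 98))) (.node (.node (.leaf 15) (.leaf 64)) (.leaf 38)))) (.node (.node (.node (.node (.leaf 3) (.leaf 48)) (.node (.leaf 22) (.leaf 91))) (.node (.node (.leaf 13) (.leaf 57)) (.leaf 35))) (.node (.node (.node (.leaf 8) (.leaf 52)) (.node (.leaf 29) (.leaf 130))) (.node (.node (.leaf 17) (.leaf 72)) (.leaf 42)))))
def dLive : BT := dLive_0
def dPos_0 : BT := .node (.node (.node (.node (.node (.node (.node (.leaf 0) (.leaf 0)) (.leaf 45)) (.node (.leaf 26) (.leaf 52))) (.node (.node (.leaf 14) (.leaf 0)) (.node (.leaf 35) (.leaf 0)))) (.node (.node (.node (.node (.leaf 7) (.leaf 0)) (.leaf 47)) (.node (.leaf 0) (.leaf 0))) (.node (.node (.leaf 0) (.leaf 0)) (.node (.leaf 0) (.leaf 0))))) (.node (.node (.node (.node (.node (.leaf 4) (.leaf 0)) (.leaf 0)) (.node (.leaf 28) (.leaf 0))) (.node (.node (.leaf 17) (.leaf 49)) (.node (.leaf 39) (.leaf 0)))) (.node (.node (.node (.node (.leaf 10) (.leaf 0)) (.leaf 0)) (.node (.leaf 32) (.leaf 0))) (.node (.node (.leaf 22) (.leaf 0)) (.node (.leaf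 0) (.leaf 0)))))) (.node (.node (.node (.node (.node (.node (.leaf 2) (.leaf 55)) (.leaf 0)) (.node (.leaf 0) (.leaf 53))) (.node (.node (.leaf 16) (.leaf 0)) (.node (.leaf 37) (.leaf 0)))) (.node (.node (.node (.node (.leaf 8) (.leaf 0)) (.leaf 48)) (.node (.leaf 31) (.leaf 0))) (.node (.node (.leaf 21) (.leaf 0)) (.node (.leaf 0) (.leaf 0))))) (.node (.node (.node (.node (.node (.leaf 6) (.leaf 0)) (.leaf 0)) (.node (.leaf 29) (.leaf 0))) (.node (.node (.leaf 19) (.leaf 50)) (.node (.leaf 41) (.leaf 0)))) (.node (.node (.node (.leaf 12) (.leaf 0)) (.node (.leaf 34) (.leaf 0))) (.node (.node (.leaf 24) (.leaf 0)) (.node (.leaf 0) (.leaf 0))))))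
def dPos_1 : BT := .node (.node (.node (.node (.node (.node (.node (.leaf 1) (.leaf 0)) (.leaf 0)) (.node (.leaf 0) (.leaf 0))) (.node (.node (.leaf 15) (.leaf 0)) (.node (.leaf 36) (.leaf 0)))) (.node (.node (.node (.node (.leaf 0) (.leaf 0)) (.leaf 0)) (.node (.leaf 0) (.leaf 0))) (.node (.node (.leaf 0) (.leaf 0)) (.node (.leaf 43) (.leaf 0))))) (.node (.node (.node (.node (.node (.leaf 5) (.leaf 0)) (.leaf 0)) (.node (.leaf 0) (.leaf 54))) (.node (.node (.leaf 18) (.leaf 0)) (.node (.leaf 40) (.leaf 0)))) (.node (.node (.node (.leaf 11) (.leaf 0)) (.node (.leaf 33) (.leaf 0))) (.node (.node (.leaf 23) (.leaf 0)) (.node (.leaf 0) (.leaf 0)))))) (.node (.node (.node (.node (.node (.node (.leaf 3) (.leaf 0)) (.leaf 0)) (.node (.leaf 27) (.leaf 0))) (.node (.node (.leaf 0) (.leaf 0)) (.node (.leaf 38) (.leaf 0)))) (.node (.node (.node (.node (.leaf 9) (.leaf 0)) (.leaf 0)) (.node (.leaf 0) (.leaf 0))) (.node (.node (.leaf 0) (.leaf 51)) (.node (.leaf 44) (.leaf 0))))) (.node (.node (.node (.node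 (.node (.leaf 0) (.leaf 0)) (.leaf 46)) (.node (.leaf 30) (.leaf 0))) (.node (.node (.leaf 20) (.leaf 0)) (.node (.leaf 42) (.leaf 0)))) (.node (.node (.node (.leaf 13) (.leaf 0)) (.node (.leaf 0) (.leaf 0))) (.node (.node (.leaf 25) (.leaf 0)) (.node (.leaf 0) (.leaf 0))))))
def dPos_2 : BT := .node dPos_0 dPos_1
def dPos : BT := dPos_2
def dFin_0 : BT := .node (.node (.node (.node (.node (.node (.node (.leaf 0) (.leaf 547)) (.leaf 1282)) (.node (.leaf 109) (.leaf 269))) (.node (.node (.leaf 31) (.leaf 233)) (.node (.leaf 135) (.leaf 1458)))) (.node (.node (.node (.node (.leaf 70) (.leaf 1508)) (.leaf 1326)) (.node (.leaf 274) (.leaf 1090))) (.node (.node (.leaf 158) (.leaf 1398)) (.node (.leaf 157) (.leaf 1470))))) (.node (.node (.node (.node (.node (.leaf 26) (.leaf 585)) (.leaf 193)) (.node (.leaf 244) (.leaf 278))) (.node (.node (.leaf 126) (.leaf 1378)) (.node (.leaf 1244) (.leaf 1128)))) (.node (.node (.node (.leaf 114) (.leaf 1338)) (.node (.leaf 1212) (.leaf 446))) (.node (.node (.leaf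 103) (.leaf 1418)) (.node (.leaf 167) (.leaf 1482)))))) (.node (.node (.node (.node (.node (.node (.leaf 8) (.leaf 910)) (.leaf 1292)) (.node (.leaf 224) (.leaf 437))) (.node (.node (.leaf 74) (.leaf 820)) (.node (.leaf 326) (.leaf 1080)))) (.node (.node (.node (.node (.leaf 60) (.leaf 958)) (.leaf 453)) (.node (.leaf 174) (.leaf 1450))) (.node (.node (.leaf 85) (.leaf 255)) (.node (.leaf 392) (.leaf 1147))))) (.node (.node (.node (.node (.node (.leaf 38) (.leaf 1496)) (.leaf 1314)) (.node (.leaf 258) (.leaf 1136))) (.node (.node (.leaf 79) (.leaf 247)) (.node (.leaf 1250) (.leaf 1466)))) (.node (.node (.node (.leaf 67) (.leaf 1352)) (.node (.leaf 320) (.leaf 305))) (.node (.node (.leaf 1182) (.leaf 433)) (.node (.leaf 182) (.leaf 1157))))))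
def dFin_1 : BT := .node (.node (.node (.node (.node (.node (.node (.leaf 4) (.leaf 575)) (.leaf 632)) (.node (.leaf 1190) (.leaf 1150))) (.node (.node (.leaf 112) (.leaf 1364)) (.node (.leaf 1236) (.leaf 1076)))) (.node (.node (.node (.node (.leaf 94) (.leaf 1139)) (.leaf 445)) (.node (.leaf 1204) (.leaf 454))) (.node (.node (.leaf 87) (.leaf 1402)) (.node (.leaf 1262) (.leaf 1476))))) (.node (.node (.node (.node (.node (.leaf 16) (.leaf 605)) (.leaf 1306)) (.node (.leaf 117) (.leaf 1444))) (.node (.node (.leaf 136) (.leaf 1386)) (.node (.leaf 478) (.leaf 506)))) (.node (.node (.node (.leaf 73) (.leaf 1346)) (.node (.leaf 129) (.leaf 291))) (.node (.node (.leaf 97) (.leaf 261)) (.node (.leaf 169) (.leaf 980)))))) (.node (.node (.node (.node (.node (.node (.leaf 18) (.leaf 914)) (.leaf 181)) (.node (.leaf 1198) (.leaf 273))) (.node (.node (.leaf 68) (.leaf 239)) (.node (.leaf 139) (.leaf 1120)))) (.node (.node (.node (.node (.leaf 32) (.leaf 964)) (.leaf 209)) (.node (.leaf 1208) (.leaf 1140)))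 (.node (.node (.leaf 120) (.leaf 1410)) (.node (.leaf 161) (.leaf 990))))) (.node (.node (.node (.node (.node (.leaf 76) (.leaf 1502)) (.leaf 197)) (.node (.leaf 270) (.leaf 606))) (.node (.node (.leaf 1178) (.leaf 1394)) (.node (.leaf 504) (.leaf 948)))) (.node (.node (.node (.leaf 104) (.leaf 227)) (.node (.leaf 1228) (.leaf 303))) (.node (.node (.leaf 194) (.leaf 1426)) (.node (.leaf 1274) (.leaf 1486))))))
def dFin_2 : BT := .node dFin_0 dFin_1
def dFin_3 : BT := .node (.node (.node (.node (.node (.node (.node (.leaf 2) (.leaf 549)) (.leaf 179)) (.node (.leaf 206) (.leaf 572))) (.node (.node (.leaf 29) (.leaf 477)) (.node (.leaf 294) (.leaf 325)))) (.node (.node (.node (.node (.leaf 82) (.leaf 1512)) (.leaf 210)) (.node (.leaf 280) (.leaf 795))) (.node (.node (.leaf 81) (.leaf 550)) (.node (.leaf 1258) (.leaf 1472))))) (.node (.node (.node (.node (.node (.leaf 11) (.leaf 601)) (.leaf 1302)) (.node (.leaf 1200) (.leaf 438))) (.node (.node (.leaf 132) (.leaf 1382)) (.node (.leaf 147) (.leaf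 1132)))) (.node (.node (.node (.leaf 88) (.leaf 1342)) (.node (.leaf 1216) (.leaf 293))) (.node (.node (.leaf 99) (.leaf 435)) (.node (.leaf 165) (.leaf 566)))))) (.node (.node (.node (.node (.node (.node (.leaf 12) (.leaf 1154)) (.leaf 1296)) (.node (.leaf 111) (.leaf 1436))) (.node (.node (.leaf 41) (.leaf 1374)) (.node (.leaf 1240) (.leaf 1462)))) (.node (.node (.node (.node (.leaf 21) (.leaf 962)) (.leaf 1334)) (.node (.leaf 130) (.leaf 450))) (.node (.node (.leaf 90) (.leaf 480)) (.node (.leaf 240) (.leaf 1480))))) (.node (.node (.node (.node (.node (.leaf 1164) (.leaf 896)) (.leaf 1318)) (.node (.leaf 266) (.leaf 277))) (.node (.node (.leaf 1176) (.leaf 1390)) (.node (.leaf 520) (.leaf 1142)))) (.node (.node (.node (.leaf 122) (.leaf 1356)) (.node (.leaf 1224) (.leaf 404))) (.node (.node (.leaf 190) (.leaf 1144)) (.node (.leaf 1272) (.leaf 1159))))))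
def dFin_4 : BT := .node (.node (.node (.node (.node (.node (.node (.leaf 6) (.leaf 1490)) (.leaf 1288)) (.node (.leaf 1194) (.leaf 1432))) (.node (.node (.leaf 43) (.leaf 1368)) (.node (.leaf 354) (.leaf 323)))) (.node (.node (.node (.node (.leaf 106) (.leaf 1516)) (.leaf 1330)) (.node (.leaf 288) (.leaf 283))) (.node (.node (.leaf 162) (.leaf 1406)) (.node (.leaf 1266) (.leaf 365))))) (.node (.node (.node (.node (.node (.leaf 1160) (.leaf 1058)) (.leaf 1310)) (.node (.leaf 252) (.leaf 430))) (.node (.node (.leaf 1172) (.leaf 397)) (.node (.leaf 498) (.leaf 940)))) (.node (.node (.node (.leaf 25) (.leaf 1350)) (.node (.leaf 1220) (.leaf 1002))) (.node (.node (.leaf 176) (.leaf 1422)) (.node (.leaf 171) (.leaf 984)))))) (.node (.node (.node (.node (.node (.node (.leaf 22) (.leaf 918)) (.leaf 420)) (.node (.leaf 236) (.leaf 1440))) (.node (.node (.leaf 92) (.leaf 243)) (.node (.leaf 362) (.leaf 1124)))) (.node (.node (.node (.node (.leaf 62) (.leaf 1518)) (.leaf 461)) (.node (.leaf 300) (.leaf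 1000))) (.node (.node (.leaf 101) (.leaf 1414)) (.node (.leaf 1270) (.leaf 501))))) (.node (.node (.node (.node (.node (.leaf 15) (.leaf 1504)) (.leaf 1322)) (.node (.leaf 119) (.leaf 1086))) (.node (.node (.leaf 154) (.leaf 256)) (.node (.leaf 544) (.leaf 357)))) (.node (.node (.node (.leaf 54) (.leaf 1360)) (.node (.leaf 1232) (.leaf 1454))) (.node (.node (.leaf 1186) (.leaf 1428)) (.node (.leaf 1278) (.leaf 553))))))
def dFin_5 : BT := .node dFin_3 dFin_4
def dFin_6 : BT := .node dFin_2 dFin_5
def dFin_7 : BT := .node (.node (.node (.node (.node (.node (.node (.leaf 1) (.leaf 545)) (.leaf 1284)) (.node (.leaf 107) (.leaf 267))) (.node (.node (.leaf 33) (.leaf 1362)) (.node (.leaf 133) (.leaf 1460)))) (.node (.node (.node (.node (.leaf 71) (.leaf 1510)) (.leaf 1328)) (.node (.leaf 276) (.leaf 1092))) (.node (.node (.leaf 160) (.leaf 1400)) (.node (.leaf 155) (.leaf 1048))))) (.node (.node (.node (.node (.node (.leaf 28) (.leaf 920)) (.leaf 191)) (.node (.leaf 246) (.leaf 275))) (.node (.node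 (.leaf 128) (.leaf 1380)) (.node (.leaf 1246) (.leaf 1130)))) (.node (.node (.node (.leaf 118) (.leaf 1340)) (.node (.leaf 1214) (.leaf 444))) (.node (.node (.leaf 102) (.leaf 1420)) (.node (.leaf 166) (.leaf 1484)))))) (.node (.node (.node (.node (.node (.node (.leaf 10) (.leaf 912)) (.leaf 1294)) (.node (.leaf 226) (.leaf 439))) (.node (.node (.leaf 72) (.leaf 1372)) (.node (.leaf 304) (.leaf 1082)))) (.node (.node (.node (.node (.leaf 100) (.leaf 960)) (.leaf 451)) (.node (.leaf 123) (.leaf 1452))) (.node (.node (.leaf 83) (.leaf 257)) (.node (.leaf 394) (.leaf 1145))))) (.node (.node (.node (.node (.node (.leaf 40) (.leaf 1498)) (.leaf 1316)) (.node (.leaf 260) (.leaf 1138))) (.node (.node (.leaf 77) (.leaf 245)) (.node (.leaf 1252) (.leaf 1468)))) (.node (.node (.node (.leaf 69) (.leaf 1354)) (.node (.leaf 322) (.leaf 324))) (.node (.node (.leaf 1184) (.leaf 431)) (.node (.leaf 178) (.leaf 1143))))))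
def dFin_8 : BT := .node (.node (.node (.node (.node (.node (.node (.leaf 5) (.leaf 573)) (.leaf 1286)) (.node (.leaf 1192) (.leaf 1152))) (.node (.node (.leaf 108) (.leaf 1366)) (.node (.leaf 1238) (.leaf 1078)))) (.node (.node (.node (.node (.leaf 96) (.leaf 1141)) (.leaf 447)) (.node (.leaf 1206) (.leaf 1448))) (.node (.node (.leaf 89) (.leaf 1404)) (.node (.leaf 1264) (.leaf 1478))))) (.node (.node (.node (.node (.node (.leaf 13) (.leaf 607)) (.leaf 1308)) (.node (.leaf 115) (.leaf 1446))) (.node (.node (.leaf 138) (.leaf 1388)) (.node (.leaf 476) (.leaf 355)))) (.node (.node (.node (.leaf 75) (.leaf 1348)) (.node (.leaf 131) (.leaf 289))) (.node (.node (.leaf 95) (.leaf 259)) (.node (.leaf 168) (.leaf 982)))))) (.node (.node (.node (.node (.node (.node (.leaf 20) (.leaf 916)) (.leaf 183)) (.node (.leaf 232) (.leaf 271))) (.node (.node (.leaf 66) (.leaf 237)) (.node (.leaf 137) (.leaf 1122)))) (.node (.node (.node (.node (.leaf 30) (.leaf 966)) (.leaf 211)) (.node (.leaf 1210) (.leaf 794)))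 (.node (.node (.leaf 116) (.leaf 1412)) (.node (.leaf 159) (.leaf 992))))) (.node (.node (.node (.node (.node (.leaf 80) (.leaf 633)) (.leaf 195)) (.node (.leaf 272) (.leaf 604))) (.node (.node (.leaf 1180) (.leaf 1396)) (.node (.leaf 1256) (.leaf 950)))) (.node (.node (.node (.leaf 1170) (.leaf 225)) (.node (.leaf 1230) (.leaf 301))) (.node (.node (.leaf 196) (.leaf 552)) (.node (.leaf 1276) (.leaf 521))))))
def dFin_9 : BT := .node dFin_7 dFin_8
def dFin_10 : BT := .node (.node (.node (.node (.node (.node (.node (.leaf 3) (.leaf 551)) (.leaf 177)) (.node (.leaf 208) (.leaf 574))) (.node (.node (.leaf 27) (.leaf 479)) (.node (.leaf 292) (.leaf 327)))) (.node (.node (.node (.node (.leaf 84) (.leaf 1514)) (.leaf 207)) (.node (.leaf 282) (.leaf 1137))) (.node (.node (.leaf 93) (.leaf 548)) (.node (.leaf 1260) (.leaf 1474))))) (.node (.node (.node (.node (.node (.leaf 9) (.leaf 1494)) (.leaf 1304)) (.node (.leaf 1202) (.leaf 436))) (.node (.node (.leaf 134) (.leaf 1384)) (.node (.leaf 1248) (.leaf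 1134)))) (.node (.node (.node (.leaf 42) (.leaf 1344)) (.node (.leaf 1218) (.leaf 295))) (.node (.node (.leaf 98) (.leaf 1110)) (.node (.leaf 163) (.leaf 507)))))) (.node (.node (.node (.node (.node (.node (.leaf 14) (.leaf 1155)) (.leaf 1298)) (.node (.leaf 113) (.leaf 1438))) (.node (.node (.leaf 39) (.leaf 1376)) (.node (.leaf 1242) (.leaf 1464)))) (.node (.node (.node (.node (.leaf 19) (.leaf 963)) (.leaf 1336)) (.node (.leaf 127) (.leaf 452))) (.node (.node (.leaf 91) (.leaf 460)) (.node (.leaf 242) (.leaf 505))))) (.node (.node (.node (.node (.node (.leaf 1166) (.leaf 1500)) (.leaf 1320)) (.node (.leaf 268) (.leaf 279))) (.node (.node (.leaf 146) (.leaf 1392)) (.node (.leaf 1254) (.leaf 1156)))) (.node (.node (.node (.leaf 1168) (.leaf 1358)) (.node (.leaf 1226) (.leaf 396))) (.node (.node (.leaf 192) (.leaf 1146)) (.node (.leaf 600) (.leaf 1158))))))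
def dFin_11 : BT := .node (.node (.node (.node (.node (.node (.node (.leaf 7) (.leaf 1492)) (.leaf 1290)) (.node (.leaf 1196) (.leaf 1434))) (.node (.node (.leaf 86) (.leaf 1370)) (.node (.leaf 356) (.leaf 321)))) (.node (.node (.node (.node (.leaf 110) (.leaf 956)) (.leaf 1332)) (.node (.leaf 290) (.leaf 281))) (.node (.node (.leaf 164) (.leaf 1408)) (.node (.leaf 1268) (.leaf 363))))) (.node (.node (.node (.node (.node (.leaf 1162) (.leaf 1060)) (.leaf 1312)) (.node (.leaf 254) (.leaf 432))) (.node (.node (.leaf 1174) (.leaf 405)) (.node (.leaf 500) (.leaf 942)))) (.node (.node (.node (.leaf 23) (.leaf 455)) (.node (.leaf 1222) (.leaf 1004))) (.node (.node (.leaf 180) (.leaf 1424)) (.node (.leaf 170) (.leaf 985)))))) (.node (.node (.node (.node (.node (.node (.leaf 24) (.leaf 919)) (.leaf 1300)) (.node (.leaf 238) (.leaf 1442))) (.node (.node (.leaf 78) (.leaf 241)) (.node (.leaf 364) (.leaf 1126)))) (.node (.node (.node (.node (.leaf 64) (.leaf 821)) (.leaf 481)) (.node (.leaf 302) (.leaf 434)))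 (.node (.node (.leaf 105) (.leaf 1416)) (.node (.leaf 584) (.leaf 499))))) (.node (.node (.node (.node (.node (.leaf 17) (.leaf 1506)) (.leaf 1324)) (.node (.leaf 121) (.leaf 1088))) (.node (.node (.leaf 156) (.leaf 253)) (.node (.leaf 546) (.leaf 567)))) (.node (.node (.node (.leaf 56) (.leaf 758)) (.node (.leaf 1234) (.leaf 1456))) (.node (.node (.leaf 1188) (.leaf 1430)) (.node (.leaf 1280) (.leaf 1488))))))
def dFin_12 : BT := .node dFin_10 dFin_11
def dFin_13 : BT := .node dFin_9 dFin_12
def dFin_14 : BT := .node dFin_6 dFin_13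
def dFin : BT := dFin_14
theorem chk_all : chkAll dD dJS 0 = true := by decide +kernel
theorem chk_fin : chkFin dD 56 dJS.length dLive dPos dFin = true := by decide +kernel
end Cfsg.Agent.Lib.Helper93.L34.Pres
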