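import Cfsg.Agent.Lib.Helper66.TCE

set_option autoImplicit false
set_option maxRecDepth 100000
namespace Cfsg.Agent.Lib.Helper93.L34.Up
open Cfsg.Agent.Lib.Helper66.TCE
def dF_0 : BT := .node (.node (.node (.node (.node (.node (.node (.leaf 0) (.leaf 269509262224)) (.node (.leaf 111132349829) (.leaf 153545140227))) (.node (.node (.leaf 43486579717) (.leaf 249108223110)) (.leaf 153545186434))) (.node (.node (.node (.leaf 25232934530) (.leaf 472983337611)) (.node (.leaf 187904907275) (.leaf 430570558469))) (.node (.node (.leaf 93415593742) (.leaf 25232957967)) (.leaf 263066861451)))) (.node (.node (.node (.node (.leaf 12884913675) (.leaf 357556059393)) (.node (.leaf 120796034435) (.leaf 218506497800))) (.node (.node (.leaf 139049612559) (.leaf 239444549127)) (.leaf 212064088464))) (.node (.node (.node (.leaf 35433505930) (.leaf 443455438351)) (.leaf 199716077568)) (.node (.node (.leaf 186831114368) (.leaf 114353547657)) (.leaf 314069511056))))) (.node (.node (.node (.node (.node (.leaf 6979327361) (.leaf 432181124101))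 (.node (.leaf 170725024897) (.leaf 178778040971))) (.node (.node (.leaf 57445228930) (.leaf 505195649293)) (.leaf 187904929036))) (.node (.node (.node (.leaf 41339081858) (.leaf 272193622791)) (.leaf 363998571649)) (.node (.node (.leaf 98784308876) (.leaf 88583705742)) (.leaf 335007567367)))) (.node (.node (.node (.node (.leaf 48318399880) (.leaf 449361001610)) (.node (.leaf 126164747918) (.leaf 314606382341))) (.node (.node (.leaf 89657493892) (.leaf 511638102535)) (.leaf 246960732043))) (.node (.node (.node (.leaf 126164694404) (.leaf 497679454080)) (.leaf 180388728973)) (.node (.node (.leaf 107374249864) (.leaf 132607205263)) (.leaf 7516241680)))))) (.node (.node (.node (.node (.node (.node (.leaf 1073744515) (.leaf 224948974979)) (.node (.leaf 113279835407) (.leaf 165893170311))) (.node (.node (.leaf 68182644487) (.leaf 195421132544)) (.leaf 155692671748))) (.node (.node (.node (.leaf 29527912713) (.leaf 276488582533)) (.leaf 142270881927)) (.node (.node (.leaf 96099951367) (.leaf 54223985423)) (.leaf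 463319713282)))) (.node (.node (.node (.node (.leaf 11274303873) (.leaf 300110911504)) (.node (.leaf 293131600141) (.leaf 263603704076))) (.node (.node (.leaf 85362524170) (.leaf 286152318981)) (.leaf 441307935244))) (.node (.node (.node (.leaf 30601669768) (.leaf 390305235849)) (.leaf 144955246349)) (.node (.node (.leaf 228170202118) (.leaf 120796033153)) (.leaf 31675391504))))) (.node (.node (.node (.node (.node (.leaf 6979330565) (.leaf 221727709583)) (.node (.leaf 117037935630) (.leaf 194884176899))) (.node (.node (.leaf 59055843718) (.leaf 367219825549)) (.leaf 465467192321))) (.node (.node (.node (.leaf 23622343564) (.leaf 323196380808)) (.leaf 139586533000)) (.node (.node (.leaf 243739446928) (.leaf 99857996809)) (.leaf 426275539984)))) (.node (.node (.node (.node (.leaf 23085450885) (.leaf 427349330182)) (.node (.leaf 312995827584) (.leaf 367219766913))) (.node (.node (.leaf 92341850117) (.leaf 9126805646)) (.leaf 166430095629))) (.node (.node (.node (.leaf 39728480644) (.leaf 496605712909)) (.leaf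 343597426313)) (.node (.node (.leaf 108984864142) (.leaf 143881500559)) (.leaf 91268076944))))))
def dF_1 : BT := .node (.node (.node (.node (.node (.node (.node (.leaf 1039) (.leaf 192736728585)) (.node (.leaf 112206092169) (.leaf 155692601222))) (.node (.node (.leaf 115964154124) (.leaf 275414898061)) (.leaf 443992350725))) (.node (.node (.node (.leaf 22011709068) (.leaf 336618129417)) (.node (.leaf 175020006146) (.leaf 490163232645))) (.node (.node (.leaf 233002032513) (.leaf 39728463620)) (.leaf 346818724615)))) (.node (.node (.node (.node (.leaf 10200560653) (.leaf 413927566736)) (.node (.leaf 181999319819) (.leaf 240518255622))) (.node (.node (.leaf 119722260877) (.leaf 295279124224)) (.leaf 392452670735))) (.node (.node (.node (.leaf 93415565313) (.leaf 184146781058)) (.leaf 185757434500)) (.node (.node (.leaf 226559588611) (.leaf 117037886087)) (.leaf 311385204878))))) (.node (.node (.node (.node (.node (.leaf 8053070977) (.leaf 490700099344)) (.node (.leaf 202400409612) (.leaf 186294251278))) (.node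 (.node (.leaf 58518971778) (.leaf 462245976582)) (.leaf 228707119115))) (.node (.node (.node (.leaf 24696084231) (.leaf 273267358221)) (.leaf 298500321418)) (.node (.node (.leaf 215822129287) (.leaf 96099946119)) (.leaf 416611924112)))) (.node (.node (.node (.node (.leaf 78383173131) (.leaf 424664945424)) (.node (.leaf 128312232837) (.leaf 337691846024))) (.node (.node (.leaf 146565811329) (.leaf 5905585280)) (.leaf 360777356289))) (.node (.node (.node (.leaf 34896640526) (.leaf 195421130882)) (.leaf 151934571909)) (.node (.node (.leaf 188978629134) (.leaf 138512788874)) (.leaf 4294968208)))))) (.node (.node (.node (.node (.node (.node (.leaf 2684358411) (.leaf 201326613641)) (.node (.leaf 113816707343) (.leaf 170725024132))) (.node (.node (.leaf 119185382276) (.leaf 418222561291)) (.leaf 161061382412))) (.node (.node (.node (.leaf 22011728526) (.leaf 488552632961)) (.leaf 134217819790)) (.node (.node (.leaf 96636823821) (.leaf 61740167425)) (.leaf 278099249675)))) (.node (.node (.node (.node (.leaf 39191592459)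 (.leaf 362387919752)) (.node (.leaf 336618144646) (.leaf 292594710149))) (.node (.node (.leaf 150323905804) (.leaf 432181207302)) (.leaf 298500261129))) (.node (.node (.node (.leaf 43486572936) (.leaf 395137109636)) (.leaf 398358318342)) (.node (.node (.leaf 102005539085) (.leaf 128312178959)) (.leaf 104689869072))))) (.node (.node (.node (.node (.node (.leaf 7516203398) (.leaf 186294237574)) (.node (.leaf 118111678479) (.leaf 201863548672))) (.node (.node (.leaf 133144030980) (.leaf 380104727693)) (.leaf 275414888073))) (.node (.node (.node (.leaf 35970375943) (.leaf 402116358668)) (.leaf 389231508363)) (.node (.node (.leaf 99858051852) (.leaf 103079220878)) (.leaf 179851798799)))) (.node (.node (.node (.node (.leaf 30601662598) (.leaf 228170193551)) (.node (.leaf 139049652993) (.leaf 397821389062))) (.node (.node (.leaf 132070298380) (.leaf 12348043533)) (.leaf 374199109767))) (.node (.node (.node (.leaf 40265352845) (.leaf 367756694274)) (.leaf 306016509702)) (.node (.node (.leaf 285615394951) (.leaf 150323898252))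 (.leaf 229780805264))))))
def dF_2 : BT := .node dF_0 dF_1
def dF_3 : BT := .node (.node (.node (.node (.node (.node (.node (.leaf 2147484163) (.leaf 276488544014)) (.node (.leaf 199716050181) (.leaf 154081988750))) (.node (.node (.leaf 59055836684) (.leaf 295279121667)) (.leaf 252329434637))) (.node (.node (.node (.leaf 16106131344) (.leaf 472446484363)) (.node (.leaf 175020005895) (.leaf 461709041026))) (.node (.node (.leaf 95026207498) (.leaf 30601649927)) (.leaf 171261936001)))) (.node (.node (.node (.node (.leaf 22011719947) (.leaf 403190089230)) (.node (.leaf 119722293519) (.leaf 235149498886))) (.node (.node (.leaf 148713289739) (.leaf 333933829761)) (.leaf 250181884425))) (.node (.node (.node (.leaf 108984821126) (.leaf 239444475009)) (.leaf 143344632323)) (.node (.node (.leaf 132607162499) (.leaf 115427294221)) (.leaf 202937290624))))) (.node (.node (.node (.node (.node (.leaf 5368715780) (.leaf 237833896334)) (.node (.leaf 114890450570) (.leaf 181999343628))) (.node (.node (.leaf 57445229199) (.leaf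 244276386190)) (.leaf 189515542156))) (.node (.node (.node (.leaf 22548600207) (.leaf 372051628944)) (.leaf 142270885518)) (.node (.node (.leaf 102005535105) (.leaf 95026203138)) (.leaf 390842056836)))) (.node (.node (.node (.node (.leaf 19327371531) (.leaf 326954428426)) (.node (.leaf 127775361289) (.leaf 330712556032))) (.node (.node (.leaf 103079267082) (.leaf 1610613262)) (.leaf 363461687307))) (.node (.node (.node (.leaf 33286026895) (.leaf 243202641935)) (.leaf 149787087630)) (.node (.node (.leaf 284004780164) (.leaf 134754607374)) (.leaf 18253660688)))))) (.node (.node (.node (.node (.node (.node (.leaf 14495518082) (.leaf 304942777864)) (.node (.leaf 166966927112) (.leaf 167503827588))) (.node (.node (.leaf 94489319691) (.leaf 344671246210)) (.leaf 339839395080))) (.node (.node (.node (.leaf 30064791945) (.leaf 271119873294)) (.leaf 271119901453)) (.node (.node (.leaf 245350065546) (.leaf 58518957323)) (.leaf 377957238917)))) (.node (.node (.node (.node (.leaf 11274304524) (.leaf 346281820944)) (.node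 (.leaf 294742213133) (.leaf 272193631371))) (.node (.node (.leaf 118648521738) (.leaf 376346632330)) (.leaf 418759411203))) (.node (.node (.node (.leaf 29527928578) (.leaf 367756659982)) (.leaf 373125370504)) (.node (.node (.leaf 176630595463) (.leaf 126164679054)) (.leaf 337691832334))))) (.node (.node (.node (.node (.node (.leaf 7516202501) (.leaf 264677429380)) (.node (.leaf 166430059907) (.leaf 199179143819))) (.node (.node (.leaf 61740199055) (.leaf 510564359178)) (.leaf 262529988103))) (.node (.node (.node (.leaf 24159215366) (.leaf 343060603280)) (.leaf 140123404558)) (.node (.node (.leaf 142807709702) (.leaf 101468661768)) (.leaf 348429302416)))) (.node (.node (.node (.node (.leaf 62813910032) (.leaf 345744978950)) (.node (.leaf 131533459971) (.leaf 380104650117))) (.node (.node (.leaf 173946229006) (.leaf 11274301965)) (.leaf 166966967055))) (.node (.node (.node (.leaf 40265352321) (.leaf 497142583949)) (.leaf 428423057424)) (.node (.node (.leaf 110058606351) (.leaf 149250184584)) (.leaf 34896697616))))))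
def dF_4 : BT := .node (.node (.node (.node (.node (.node (.node (.leaf 2684356488) (.leaf 353797975302)) (.node (.leaf 113279834760) (.leaf 163745682831))) (.node (.node (.leaf 158376957066) (.leaf 489089521158)) (.leaf 260919370372))) (.node (.node (.node (.leaf 57445201286) (.leaf 348966175631)) (.leaf 375809728005)) (.node (.node (.leaf 95563079822) (.leaf 45634029198)) (.leaf 170188195202)))) (.node (.node (.node (.node (.leaf 12348044800) (.leaf 377420282766)) (.node (.leaf 291520987020) (.leaf 250181948043))) (.node (.node (.leaf 70330137603) (.leaf 382789083010)) (.leaf 345208056073))) (.node (.node (.node (.leaf 28991056256) (.leaf 402116425345)) (.leaf 187904918785)) (.node (.node (.leaf 235149523719) (.leaf 118648549518)) (.leaf 22011758480))))) (.node (.node (.node (.node (.node (.leaf 8589942663) (.leaf 431644237328)) (.node (.leaf 115427322511) (.leaf 190052333444))) (.node (.node (.leaf 177704314500) (.leaf 390305274631)) (.leaf 164819481225))) (.node (.node (.node (.leaf 49392146435) (.leaf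 234075775617)) (.leaf 138512790157)) (.node (.node (.leaf 178778037507) (.leaf 97173640718)) (.leaf 425738680720)))) (.node (.node (.node (.node (.leaf 25232953606) (.leaf 343597465870)) (.node (.leaf 358092983818) (.leaf 359703597445))) (.node (.node (.leaf 219043384714) (.leaf 6979327364)) (.leaf 166430095497))) (.node (.node (.node (.leaf 108447956360) (.leaf 282931089799)) (.leaf 337691907981)) (.node (.node (.leaf 107911121796) (.leaf 141734015113)) (.leaf 195957892368)))))) (.node (.node (.node (.node (.node (.node (.leaf 3221230093) (.leaf 255013747329)) (.node (.leaf 252866272905) (.leaf 171261868943))) (.node (.node (.leaf 54760873604) (.leaf 433791817867)) (.leaf 185757445132))) (.node (.node (.node (.leaf 22548599688) (.leaf 331249393288)) (.leaf 137439046152)) (.node (.node (.leaf 97173695630) (.leaf 68182640527)) (.leaf 409095753089)))) (.node (.node (.node (.node (.leaf 12348047884) (.leaf 221727726218)) (.node (.leaf 125627876615) (.leaf 299574010754))) (.node (.node (.leaf 117037909640) (.leaf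 394063372682)) (.leaf 325343851404))) (.node (.node (.node (.leaf 59592700683) (.leaf 298500345611)) (.leaf 425738735488)) (.node (.node (.leaf 102542410511) (.leaf 130459646734)) (.leaf 387083943184))))) (.node (.node (.node (.node (.node (.leaf 18253622153) (.leaf 303332165132)) (.node (.leaf 121332904705) (.leaf 202937232013))) (.node (.node (.leaf 63887684239) (.leaf 234075839752)) (.leaf 198105470736))) (.node (.node (.node (.leaf 55297729163) (.leaf 460635305102)) (.leaf 142270889348)) (.node (.node (.leaf 186294269069) (.leaf 110595467142)) (.leaf 258771854992)))) (.node (.node (.node (.node (.leaf 33286004485) (.leaf 382789016456)) (.node (.leaf 187368035723) (.leaf 412316944776))) (.node (.node (.leaf 134217782540) (.leaf 18253611916)) (.leaf 333396868360))) (.node (.node (.node (.leaf 145492052106) (.leaf 364535469067)) (.leaf 151934572942)) (.node (.node (.leaf 294205329926) (.leaf 151934503936)) (.leaf 309774590224))))))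
def dF_5 : BT := .node dF_3 dF_4
def dF_6 : BT := .node dF_2 dF_5
def dF_7 : BT := .node (.node (.node (.node (.node (.node (.node (.leaf 1610613122) (.leaf 54760885008)) (.node (.leaf 299037169281) (.leaf 153545105294))) (.node (.node (.leaf 69793254670) (.leaf 443992364162)) (.leaf 381178453249))) (.node (.node (.node (.leaf 72477590672) (.leaf 248034443150)) (.node (.leaf 132070332931) (.leaf 433791804040))) (.node (.node (.leaf 95026206980) (.leaf 28991053066)) (.leaf 169114452104)))) (.node (.node (.node (.node (.leaf 9126817806) (.leaf 357556115086)) (.node (.leaf 119722292998) (.leaf 225485836417))) (.node (.node (.leaf 144418321931) (.leaf 302795316748)) (.leaf 249108160522))) (.node (.node (.node (.leaf 108447950086) (.leaf 268435492613)) (.leaf 142807761032)) (.node (.node (.leaf 133144019974) (.leaf 114890436874)) (.leaf 177704352393))))) (.node (.node (.node (.node (.node (.leaf 4831844365) (.leaf 250181948304)) (.node (.leaf 214748439813) (.leaf 180388728333))) (.node (.node (.leaf 68182647296)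 (.leaf 263066868105)) (.leaf 163745738240))) (.node (.node (.node (.leaf 42412823809) (.leaf 389768380048)) (.leaf 378494086410)) (.node (.node (.leaf 99321180175) (.leaf 91268068104)) (.leaf 393526496771)))) (.node (.node (.node (.node (.leaf 20937983882) (.leaf 314606402701)) (.node (.leaf 127775361028) (.leaf 326954414208))) (.node (.node (.leaf 89657494156) (.leaf 653)) (.leaf 347355559689))) (.node (.node (.node (.leaf 37580994049) (.leaf 223338418177)) (.leaf 149787087240)) (.node (.node (.leaf 283467909124) (.leaf 133680944136)) (.leaf 49936)))))) (.node (.node (.node (.node (.node (.node (.leaf 1073744908) (.leaf 310848344589)) (.node (.leaf 113816706566) (.leaf 166430033035))) (.node (.node (.leaf 92341835787) (.leaf 394063369993)) (.leaf 361851102208))) (.node (.node (.node (.leaf 53150226056) (.leaf 286152241294)) (.leaf 368293536261)) (.node (.node (.leaf 165893170318) (.leaf 55297729035)) (.leaf 272730539915)))) (.node (.node (.node (.node (.leaf 11274304135) (.leaf 284541651344)) (.node (.leaf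 267361796490) (.leaf 265214303243))) (.node (.node (.leaf 207232221963) (.leaf 275414900751)) (.leaf 384936531584))) (.node (.node (.node (.leaf 28991057295) (.leaf 303332149509)) (.leaf 147639601678)) (.node (.node (.leaf 103079280260) (.leaf 122943455624)) (.leaf 151934504464))))) (.node (.node (.node (.node (.node (.leaf 6442460162) (.leaf 442381694736)) (.node (.leaf 143881481484) (.leaf 198642298244))) (.node (.node (.leaf 107374226313) (.leaf 510564359044)) (.leaf 467614676352))) (.node (.node (.node (.leaf 54223985803) (.leaf 365072277510)) (.leaf 141197146119)) (.node (.node (.leaf 245886908166) (.leaf 100394902670)) (.leaf 427886187920)))) (.node (.node (.node (.node (.leaf 61740168716) (.leaf 345208108042)) (.node (.leaf 130459717891) (.leaf 372588498177))) (.node (.node (.leaf 218506514689) (.leaf 10737425423)) (.leaf 185757448834))) (.node (.node (.node (.leaf 39728481036) (.leaf 184683713158)) (.leaf 328565080074)) (.node (.node (.leaf 109521735052) (.leaf 148713278852)) (.leaf 27917356816))))))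
def dF_8 : BT := .node (.node (.node (.node (.node (.node (.node (.leaf 536872453) (.leaf 187904904592)) (.node (.leaf 112742963599) (.leaf 162135067535))) (.node (.node (.leaf 46170936079) (.leaf 200789841413)) (.leaf 154082058767))) (.node (.node (.node (.leaf 41339061772) (.leaf 175556859651)) (.leaf 188978650379)) (.node (.node (.leaf 95563079562) (.leaf 41339095183)) (.leaf 169651324044)))) (.node (.node (.node (.node (.leaf 10737431941) (.leaf 382789051664)) (.node (.leaf 124017262222) (.leaf 245886908929))) (.node (.node (.leaf 69793266319) (.leaf 511638101769)) (.leaf 248571267969))) (.node (.node (.node (.leaf 93952436353) (.leaf 344134312843)) (.leaf 333396935686)) (.node (.node (.leaf 100931795596) (.leaf 118111629445)) (.leaf 46171006736))))) (.node (.node (.node (.node (.node (.leaf 9663684097) (.leaf 222801502606)) (.node (.leaf 116501064071) (.leaf 187904849803))) (.node (.node (.leaf 154618865165) (.leaf 228707129984)) (.leaf 164819480965))) (.node (.node (.node (.leaf 45634049924) (.leaf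 234075770894)) (.leaf 142807757326)) (.node (.node (.leaf 113279815811) (.leaf 97173691392)) (.leaf 352187351567)))) (.node (.node (.node (.node (.leaf 22011728000) (.leaf 294742172430)) (.node (.leaf 128312233096) (.leaf 345208053135))) (.node (.node (.leaf 91268107404) (.leaf 6442456322)) (.leaf 327491314698))) (.node (.node (.node (.leaf 132070275968) (.leaf 353261179148)) (.leaf 299574072963)) (.node (.node (.leaf 107911121667) (.leaf 140123324170)) (.leaf 42949773968)))))) (.node (.node (.node (.node (.node (.node (.leaf 18253615360) (.leaf 105226804752)) (.node (.leaf 307090235780) (.leaf 171261893633))) (.node (.node (.leaf 54760873216) (.leaf 344134375428)) (.leaf 221190925195))) (.node (.node (.node (.leaf 88046850698) (.leaf 331249432576)) (.leaf 288299771786)) (.node (.node (.leaf 97710566279) (.leaf 63887670667)) (.leaf 350039952393)))) (.node (.node (.node (.node (.leaf 41339076491) (.leaf 253403131664)) (.node (.leaf 125627876484) (.leaf 296352837001))) (.node (.node (.leaf 181999289742) (.leaf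 514322456843)) (.leaf 425201864972))) (.node (.node (.node (.leaf 48855282305) (.leaf 496605712003)) (.leaf 179851857292)) (.node (.node (.leaf 103616152071) (.leaf 129385977103)) (.leaf 25232999952))))) (.node (.node (.node (.node (.node (.leaf 9126816391) (.leaf 223875223310)) (.node (.leaf 324270108929) (.leaf 202400408844))) (.node (.node (.leaf 63887683843) (.leaf 270583061774)) (.leaf 367219793419))) (.node (.node (.node (.leaf 45634052610) (.leaf 490163232143)) (.leaf 141734018061)) (.node (.node (.leaf 103079277440) (.leaf 107911116422)) (.leaf 315143313921)))) (.node (.node (.node (.node (.leaf 71940719632) (.leaf 302795305602)) (.node (.leaf 130459718789) (.leaf 409095710086))) (.node (.node (.leaf 133144040460) (.leaf 12884913039)) (.leaf 294742214787))) (.node (.node (.node (.leaf 68182640526) (.leaf 286152315789)) (.leaf 360777307648)) (.node (.node (.leaf 110595478024) (.leaf 150860797322)) (.leaf 229243990160))))))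
def dF_9 : BT := .node dF_7 dF_8
def dF_10 : BT := .node (.node (.node (.node (.node (.node (.node (.leaf 2684355206) (.leaf 265751164944)) (.node (.leaf 111132350218) (.leaf 155155730318))) (.node (.node (.leaf 44023451782) (.leaf 295279121666)) (.leaf 201326698379))) (.node (.node (.node (.leaf 3758115600) (.leaf 297426556816)) (.node (.leaf 133680945798) (.leaf 472983360513))) (.node (.node (.leaf 235149515786) (.leaf 33286003846)) (.leaf 266824958603)))) (.node (.node (.node (.node (.leaf 23085462027) (.leaf 193273561093)) (.node (.leaf 120259164681) (.leaf 236223288332))) (.node (.node (.leaf 69793265922) (.leaf 245350129289)) (.leaf 410169409808))) (.node (.node (.node (.leaf 108447950346) (.leaf 215822223241)) (.leaf 296352842244)) (.node (.node (.leaf 103616149505) (.leaf 116501004686)) (.leaf 311385227010))))) (.node (.node (.node (.node (.node (.leaf 5368716040) (.leaf 266824899344)) (.node (.leaf 114890450830) (.leaf 185757431684))) (.node (.node (.leaf 113279804555) (.leaf 499290069506)) (.leaf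 190052413196))) (.node (.node (.node (.leaf 35433502349) (.leaf 364535381127)) (.leaf 390842118016)) (.node (.node (.leaf 236760112898) (.leaf 95563078663)) (.leaf 40265417872)))) (.node (.node (.node (.node (.leaf 77309430667) (.leaf 427349291139)) (.node (.leaf 185757420171) (.leaf 333933787776))) (.node (.node (.leaf 145492069255) (.leaf 3758100749)) (.leaf 233002011656))) (.node (.node (.node (.leaf 34896640132) (.leaf 181999358081)) (.leaf 150323958921)) (.node (.node (.leaf 284541651204) (.leaf 137975870340)) (.leaf 1073753232)))))) (.node (.node (.node (.node (.node (.node (.leaf 9126809224) (.leaf 24159264656)) (.node (.leaf 240518242307) (.leaf 170188191880))) (.node (.node (.leaf 96099932811) (.leaf 411243239307)) (.leaf 158377027470))) (.node (.node (.node (.leaf 46707790342) (.leaf 249108127369)) (.leaf 134754690180)) (.node (.node (.leaf 96636823561) (.leaf 59055836557)) (.leaf 171261937927)))) (.node (.node (.node (.node (.leaf 37044108427) (.leaf 366146006666)) (.node (.leaf 125091005199) (.leaf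 276488562305))) (.node (.node (.leaf 149787034764) (.leaf 501974425733)) (.leaf 264140551682))) (.node (.node (.node (.leaf 31675412617) (.leaf 357019201670)) (.leaf 403190156418)) (.node (.node (.leaf 102005538824) (.leaf 128312195842)) (.leaf 97710546064))))) (.node (.node (.node (.node (.node (.leaf 9126815620) (.leaf 361851060481)) (.node (.leaf 142807739917) (.leaf 200789807495))) (.node (.node (.leaf 128849063435) (.leaf 333396958337)) (.leaf 274341101833))) (.node (.node (.node (.leaf 89657466890) (.leaf 418222488328)) (.leaf 141734017669)) (.node (.node (.leaf 242665705223) (.leaf 102542380815)) (.leaf 151934569232)))) (.node (.node (.node (.node (.leaf 25769805191) (.leaf 197568605704)) (.node (.leaf 233002062476) (.leaf 392452684166))) (.node (.node (.leaf 224948965898) (.leaf 11811176333)) (.leaf 168577580164))) (.node (.node (.node (.leaf 139049600395) (.leaf 353261179659)) (.leaf 227096485509)) (.node (.node (.leaf 137975894019) (.leaf 149787044111)) (.leaf 225485821962))))))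
def dF_11 : BT := .node (.node (.node (.node (.node (.node (.node (.leaf 4294969608) (.leaf 225485840912)) (.node (.leaf 128849091590) (.leaf 165356305929))) (.node (.node (.leaf 89120609931) (.leaf 239444547203)) (.leaf 285615352584))) (.node (.node (.node (.leaf 44023428749) (.leaf 418759378816)) (.leaf 286152286090)) (.node (.node (.leaf 242128839168) (.leaf 53150243465)) (.leaf 170188195334)))) (.node (.node (.node (.node (.leaf 30601656203) (.leaf 351113584400)) (.node (.leaf 292057858060) (.leaf 262529934465))) (.node (.node (.leaf 155155741963) (.leaf 513248714634)) (.leaf 303868968208))) (.node (.node (.node (.leaf 28991056775) (.leaf 299574073348)) (.leaf 402116412811)) (.node (.node (.leaf 101468667014) (.leaf 119722242177)) (.leaf 259845542544))))) (.node (.node (.node (.node (.node (.leaf 5905588618) (.leaf 245350086276)) (.node (.leaf 115964193550) (.leaf 192736750347))) (.node (.node (.leaf 179851798528) (.leaf 229244001026)) (.leaf 268972438279))) (.node (.node (.node (.leaf 23622343172) (.leaf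 466004049671)) (.leaf 140123403525)) (.node (.node (.leaf 165356283138) (.leaf 97710518926)) (.leaf 181462389121)))) (.node (.node (.node (.node (.leaf 52613352455) (.leaf 345744911246)) (.node (.leaf 307090247437) (.leaf 360240467727))) (.node (.node (.leaf 128312200973) (.leaf 8053069187)) (.leaf 166430095628))) (.node (.node (.node (.leaf 135828373258) (.leaf 408022012297)) (.leaf 150860830863)) (.node (.node (.leaf 191126113294) (.leaf 142270885519)) (.leaf 195421045509)))))) (.node (.node (.node (.node (.node (.node (.leaf 17179874315) (.leaf 119185402000)) (.node (.leaf 116501062531) (.leaf 175556859147))) (.node (.node (.leaf 102542385035) (.leaf 345208117379)) (.leaf 187368057996))) (.node (.node (.node (.leaf 24696083460) (.leaf 331249411979)) (.leaf 141734013710)) (.node (.node (.leaf 219580263817) (.leaf 87510001920)) (.leaf 227633384840)))) (.node (.node (.node (.node (.leaf 49392141195) (.leaf 429496774787)) (.node (.leaf 125627876750) (.leaf 310848311811))) (.node (.node (.leaf 89657493633)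 (.leaf 389768405516)) (.leaf 345744941572))) (.node (.node (.node (.leaf 110595437708) (.leaf 389768400649)) (.leaf 151934570497)) (.node (.node (.leaf 104689894541) (.leaf 132070331268)) (.leaf 93952432144))))) (.node (.node (.node (.node (.node (.leaf 8053075212) (.leaf 366145994887)) (.node (.leaf 119185421319) (.leaf 215285283596))) (.node (.node (.leaf 137975870479) (.leaf 490163264909)) (.leaf 437549895312))) (.node (.node (.node (.leaf 107374208007) (.leaf 374199116805)) (.leaf 142270889740)) (.node (.node (.leaf 102005536128) (.leaf 112206027406)) (.leaf 115964140816)))) (.node (.node (.node (.node (.leaf 59592685959) (.leaf 381715275783)) (.node (.leaf 130996590470) (.leaf 428959906177))) (.node (.node (.leaf 224412096008) (.leaf 23085450636)) (.leaf 168577580687))) (.node (.node (.node (.leaf 42949708303) (.leaf 188978680837)) (.leaf 155692669824)) (.node (.node (.leaf 112742962056) (.leaf 151934482188)) (.leaf 235149498766))))))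
def dF_12 : BT := .node dF_10 dF_11
def dF_13 : BT := .node dF_9 dF_12
def dF_14 : BT := .node dF_6 dF_13
def dF_15 : BT := .node (.node (.node (.node (.node (.node (.node (.leaf 136) (.leaf 54760950416)) (.node (.leaf 284004783755) (.leaf 153545132937))) (.node (.node (.leaf 44560321800) (.leaf 467077813390)) (.leaf 165356346509))) (.node (.node (.node (.leaf 37044098448) (.leaf 249108167310)) (.node (.leaf 369904146698) (.leaf 432181135625))) (.node (.node (.leaf 159450716034) (.leaf 27917313551)) (.leaf 169114451974)))) (.node (.node (.node (.node (.leaf 8589946638) (.leaf 357556059014)) (.node (.leaf 121332905475) (.leaf 222264610959))) (.node (.node (.leaf 139586483599) (.leaf 504658779662)) (.leaf 249108143104))) (.node (.node (.node (.leaf 90194339073) (.leaf 268435492865)) (.leaf 327491354636)) (.node (.node (.leaf 187904855682) (.leaf 114353531790)) (.leaf 201863511311))))) (.node (.node (.node (.node (.node (.leaf 7516198656) (.leaf 432718014736)) (.node (.leaf 201863537805) (.leaf 179851791373)))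 (.node (.node (.leaf 173409345927) (.leaf 507343132932)) (.leaf 163208867215))) (.node (.node (.node (.leaf 41339081862) (.leaf 272193611663)) (.leaf 137975917830)) (.node (.node (.leaf 99321179917) (.leaf 89657455374)) (.leaf 201863581192)))) (.node (.node (.node (.node (.leaf 18253628938) (.leaf 314606434312)) (.node (.leaf 340913112838) (.leaf 316753945226))) (.node (.node (.leaf 89657494022) (.leaf 505732522507)) (.leaf 348429334531))) (.node (.node (.node (.leaf 111669179788) (.leaf 497679454086)) (.leaf 391915868418)) (.node (.node (.leaf 107374249994) (.leaf 133144076815)) (.leaf 9663714704)))))) (.node (.node (.node (.node (.node (.node (.leaf 6442453771) (.leaf 310848289672)) (.node (.leaf 113816706436) (.leaf 165893196173))) (.node (.node (.leaf 53150259087) (.leaf 394063369989)) (.leaf 154618930063))) (.node (.node (.node (.leaf 22548587536) (.leaf 274341098895)) (.leaf 133144076814)) (.node (.node (.leaf 96099951625) (.leaf 54760855811)) (.leaf 272193668875)))) (.node (.node (.node (.node (.leaf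 11274304005) (.leaf 349503007754)) (.node (.leaf 233002057990) (.leaf 265214267649))) (.node (.node (.leaf 85362524557) (.leaf 490163265547)) (.leaf 228707081224))) (.node (.node (.node (.leaf 70330117262) (.leaf 344671168520)) (.leaf 158377019397)) (.node (.node (.leaf 102542409220) (.leaf 120795983365)) (.leaf 10737447440))))) (.node (.node (.node (.node (.node (.leaf 9126814467) (.leaf 302795257098)) (.node (.leaf 118111677698) (.leaf 197568531467))) (.node (.node (.leaf 59592714895) (.leaf 501974424454)) (.leaf 238907667595))) (.node (.node (.node (.leaf 26306698248) (.leaf 365072305922)) (.leaf 140123404166)) (.node (.node (.leaf 221727709575) (.leaf 99858026765)) (.leaf 392452707333)))) (.node (.node (.node (.node (.leaf 53687094275) (.leaf 465467159438)) (.node (.leaf 128849104904) (.leaf 371514746240))) (.node (.node (.leaf 92341850247) (.leaf 10737420802)) (.leaf 307627145743))) (.node (.node (.node (.leaf 39728480906) (.leaf 244813255173)) (.leaf 329101944969)) (.node (.node (.leaf 122943507845)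 (.leaf 145492033422)) (.leaf 219043344784))))))
def dF_16 : BT := .node (.node (.node (.node (.node (.node (.node (.leaf 4831839488) (.leaf 190052361992)) (.node (.leaf 175556859915) (.leaf 155692588301))) (.node (.node (.leaf 70330126731) (.leaf 462245975429)) (.leaf 154082058638))) (.node (.node (.node (.leaf 52613352068) (.leaf 336618091791)) (.leaf 132070333582)) (.node (.node (.leaf 233538903553) (.leaf 40265351812)) (.leaf 468151550857)))) (.node (.node (.node (.node (.leaf 10737431810) (.leaf 438086711818)) (.node (.leaf 122943519882) (.leaf 243202566402))) (.node (.node (.leaf 155155741193) (.leaf 291521027845)) (.leaf 193810497417))) (.node (.node (.node (.leaf 30064797703) (.leaf 271119868809)) (.leaf 333933806594)) (.node (.node (.leaf 184146786567) (.leaf 117037875596)) (.leaf 321585693072))))) (.node (.node (.node (.node (.node (.leaf 26306682240) (.leaf 359703576842)) (.node (.leaf 178778089742) (.leaf 187368042119))) (.node (.node (.leaf 154081994124) (.leaf 244276386433)) (.leaf 191663026317)))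 (.node (.node (.node (.leaf 23085471630) (.leaf 466004030339)) (.leaf 138512789897)) (.node (.node (.leaf 233002029058) (.leaf 96636778243)) (.leaf 404263831173)))) (.node (.node (.node (.node (.leaf 78920044299) (.leaf 295279071489)) (.node (.leaf 128312232967) (.leaf 344134313097))) (.node (.node (.leaf 105226751109) (.leaf 5905586055)) (.leaf 412316960008))) (.node (.node (.node (.leaf 57445218953) (.leaf 418759430405)) (.leaf 181462472204)) (.node (.node (.leaf 189515500174) (.leaf 140123401602)) (.leaf 68182706192)))))) (.node (.node (.node (.node (.node (.node (.leaf 15032389519) (.leaf 89657516176)) (.node (.leaf 201326665996) (.leaf 170725035788))) (.node (.node (.leaf 98247416843) (.leaf 402116433935)) (.leaf 214211603083))) (.node (.node (.node (.leaf 37580984964) (.leaf 488552589317)) (.leaf 134217819919)) (.node (.node (.leaf 97173695112) (.leaf 61740184975)) (.leaf 281320475403)))) (.node (.node (.node (.node (.leaf 40265334539) (.leaf 362387939725)) (.node (.leaf 347355563008) (.leaf 294742209670)))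 (.node (.node (.leaf 115427296649) (.leaf 472446525709)) (.leaf 425201844230))) (.node (.node (.node (.leaf 30064800270) (.leaf 296889732747)) (.leaf 193810500999)) (.node (.node (.leaf 103079281030) (.leaf 129385935104)) (.leaf 10200572304))))) (.node (.node (.node (.node (.node (.leaf 8053074438) (.leaf 359166671120)) (.node (.leaf 323733237889) (.leaf 201863490444))) (.node (.node (.leaf 63887683713) (.leaf 382252211469)) (.leaf 293131624592))) (.node (.node (.node (.leaf 24696086926) (.leaf 243202602634)) (.leaf 228707105795)) (.node (.node (.leaf 154082013958) (.leaf 105226735369)) (.leaf 197568531716)))) (.node (.node (.node (.node (.leaf 59592684812) (.leaf 382789016205)) (.node (.leaf 129385976712) (.leaf 403190102402))) (.node (.node (.leaf 132607169421) (.leaf 12884914438)) (.leaf 292594731146))) (.node (.node (.node (.leaf 46707804036) (.leaf 186831197064)) (.leaf 222801518351)) (.node (.node (.leaf 110595477895) (.leaf 150860768132)) (.leaf 35433572368))))))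
def dF_17 : BT := .node dF_15 dF_16
def dF_18 : BT := .node (.node (.node (.node (.node (.node (.node (.leaf 652) (.leaf 273267334794)) (.node (.leaf 296352814595) (.leaf 154618929807))) (.node (.node (.leaf 44023451522) (.leaf 470835909900)) (.leaf 153545187086))) (.node (.node (.node (.leaf 2684355344) (.leaf 395673954954)) (.node (.leaf 133680945793) (.leaf 468151482633))) (.node (.node (.leaf 98247433088) (.leaf 31675385102)) (.leaf 169114452365)))) (.node (.node (.node (.node (.leaf 22548590987) (.leaf 193273615120)) (.node (.leaf 125627873667) (.leaf 236223252736))) (.node (.node (.leaf 197568542848) (.leaf 347892473477)) (.leaf 238907616645))) (.node (.node (.node (.leaf 91268081153) (.leaf 239444478349)) (.leaf 199179207174)) (.node (.node (.leaf 100394923918) (.leaf 116501036290)) (.leaf 311922043280))))) (.node (.node (.node (.node (.node (.leaf 5368715910) (.leaf 215822219404)) (.node (.leaf 116501063429) (.leaf 184683661577))) (.node (.node (.leaf 57982100361) (.leaf 418222561668)) (.leaf 163745738498)))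 (.node (.node (.node (.leaf 34896631309) (.leaf 364535414275)) (.leaf 343597477634)) (.node (.node (.leaf 164819394055) (.leaf 95026207759)) (.leaf 389768379792)))) (.node (.node (.node (.node (.leaf 17716759310) (.leaf 326954413710)) (.node (.leaf 127775361550) (.leaf 333396932742))) (.node (.node (.leaf 145492069251) (.leaf 2147484047)) (.leaf 465467160588))) (.node (.node (.node (.leaf 34896639873) (.leaf 195421130759)) (.leaf 149787087759)) (.node (.node (.leaf 107374250254) (.leaf 137438999557)) (.leaf 204547855248)))))) (.node (.node (.node (.node (.node (.node (.leaf 2684358026) (.leaf 100394933136)) (.node (.leaf 113816707084) (.leaf 167503784971))) (.node (.node (.leaf 164819409408) (.leaf 223338420102)) (.leaf 156766414350))) (.node (.node (.node (.leaf 24696082946) (.leaf 302795310606)) (.leaf 272730514182)) (.node (.node (.leaf 96636823171) (.leaf 59055823363)) (.leaf 201863579904)))) (.node (.node (.node (.node (.leaf 12348046341) (.leaf 346281782154)) (.node (.leaf 126701617800) (.leaf 272730487311)))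 (.node (.node (.leaf 87510008962) (.leaf 504121909390)) (.leaf 402653246989))) (.node (.node (.node (.leaf 29527928838) (.leaf 357019240707)) (.leaf 148713343880)) (.node (.node (.leaf 163208822658) (.leaf 127775323524)) (.leaf 253940002064))))) (.node (.node (.node (.node (.node (.leaf 8053073541) (.leaf 264677451402)) (.node (.leaf 118111677958) (.leaf 199716050318))) (.node (.node (.leaf 185757379968) (.leaf 511101230084)) (.leaf 216895934608))) (.node (.node (.node (.leaf 24159215501) (.leaf 243202568712)) (.leaf 141197146509)) (.node (.node (.leaf 243202573187) (.leaf 102005539215)) (.leaf 337691833604)))) (.node (.node (.node (.node (.leaf 55834577543) (.leaf 433791750926)) (.node (.leaf 129385976450) (.leaf 384936495240))) (.node (.node (.leaf 130459685260) (.leaf 11811172742)) (.leaf 220117187465))) (.node (.node (.node (.leaf 40265352451) (.leaf 499826938498)) (.leaf 375272857228)) (.node (.node (.leaf 150860795778) (.leaf 149787043712)) (.leaf 225485897473))))))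
def dF_19 : BT := .node (.node (.node (.node (.node (.node (.node (.leaf 3758098568) (.leaf 353797970573)) (.node (.leaf 113279835148) (.leaf 165356265475))) (.node (.node (.leaf 51539645838) (.leaf 382252209803)) (.leaf 178241231760))) (.node (.node (.node (.leaf 22548587664) (.leaf 402653266959)) (.leaf 132607205129)) (.node (.node (.leaf 99321176321) (.leaf 48855254926)) (.leaf 463319713153)))) (.node (.node (.node (.node (.leaf 29527914251) (.leaf 122943468304)) (.node (.leaf 248034443141) (.leaf 255013730564))) (.node (.node (.leaf 154618870923) (.leaf 268435578758)) (.leaf 176630575625))) (.node (.node (.node (.leaf 28991056515) (.leaf 178241204495)) (.leaf 165893211404)) (.node (.node (.leaf 101468666883) (.leaf 119185399817)) (.leaf 22011758352))))) (.node (.node (.node (.node (.node (.leaf 6979330051) (.leaf 53150280336)) (.node (.leaf 181999315592) (.leaf 191126136459))) (.node (.node (.leaf 60666455816) (.leaf 286689188620)) (.leaf 442918613761))) (.node (.node (.node (.leaf 23622342913) (.leaf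 466004038796)) (.leaf 150323950471)) (.node (.node (.leaf 177704295687) (.leaf 97710534405)) (.leaf 119722291088)))) (.node (.node (.node (.node (.leaf 22011709319) (.leaf 343597466244)) (.node (.leaf 128849104641) (.leaf 359703551757))) (.node (.node (.leaf 127775329932) (.leaf 6979332751)) (.leaf 256624408705))) (.node (.node (.node (.leaf 63887670795) (.leaf 395673981324)) (.leaf 151934572550)) (.node (.node (.leaf 107911121926) (.leaf 142270878854)) (.leaf 404263896848)))))) (.node (.node (.node (.node (.node (.node (.leaf 16643003147) (.leaf 255013723143)) (.node (.leaf 276488594177) (.leaf 173946229257))) (.node (.node (.leaf 54760873735) (.leaf 461709105295)) (.leaf 163208866948))) (.node (.node (.node (.leaf 22548599818) (.leaf 272193611662)) (.leaf 384936536834)) (.node (.node (.leaf 180925558021) (.leaf 70330126603)) (.leaf 291521023371)))) (.node (.node (.node (.node (.leaf 12348048015) (.leaf 329101912074)) (.node (.leaf 298500310284) (.leaf 304942718848))) (.node (.node (.leaf 89120622479) (.leaf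 411243241870)) (.leaf 425201819140))) (.node (.node (.node (.leaf 32212284431) (.leaf 299574087424)) (.leaf 329101971341)) (.node (.node (.leaf 217969656714) (.leaf 130996533127)) (.leaf 53687146256))))) (.node (.node (.node (.node (.node (.leaf 15032396808) (.leaf 366145995265)) (.node (.leaf 267361792896) (.leaf 210990308106))) (.node (.node (.leaf 137438999439) (.leaf 360777375109)) (.leaf 347892446983))) (.node (.node (.node (.leaf 27917313026) (.leaf 364535440398)) (.leaf 142270889480)) (.node (.node (.leaf 101468665088) (.leaf 111132349711)) (.leaf 449361056777)))) (.node (.node (.node (.node (.leaf 5368715664) (.leaf 381715304195)) (.node (.leaf 130459719430) (.leaf 425201818628))) (.node (.node (.leaf 107911107981) (.leaf 22011708804)) (.leaf 202937318914))) (.node (.node (.node (.leaf 68182640907) (.leaf 190589293569)) (.leaf 153008315016)) (.node (.node (.leaf 110595478286) (.leaf 151934503556)) (.leaf 241055152268))))))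
def dF_20 : BT := .node dF_18 dF_19
def dF_21 : BT := .node dF_17 dF_20
def dF_22 : BT := .node (.node (.node (.node (.node (.node (.node (.leaf 536871179) (.leaf 218506570512)) (.node (.leaf 299037169287) (.leaf 154081988871))) (.node (.node (.leaf 43486580239) (.leaf 188978681094)) (.leaf 186831183233))) (.node (.node (.node (.leaf 48855255180) (.leaf 472446484993)) (.node (.leaf 198642326016) (.leaf 443992330501))) (.node (.node (.leaf 95026207111) (.leaf 30064773646)) (.leaf 418759426189)))) (.node (.node (.node (.node (.leaf 21474848904) (.leaf 194884171525)) (.node (.leaf 119722293390) (.leaf 227096482185))) (.node (.node (.leaf 68182652687) (.leaf 304942800388)) (.leaf 180388706832))) (.node (.node (.node (.leaf 41339086208) (.leaf 268435521165)) (.leaf 396747702539)) (.node (.node (.leaf 190052349312) (.leaf 115427273986)) (.leaf 178778056079))))) (.node (.node (.node (.node (.node (.leaf 4831844623) (.leaf 237833924099)) (.node (.leaf 114890450182) (.leaf 181462411150))) (.node (.node (.leaf 173946216966)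 (.leaf 344134375818)) (.leaf 202400443913))) (.node (.node (.node (.leaf 26306696453) (.leaf 193273621008)) (.leaf 137975918089)) (.node (.node (.leaf 99858051333) (.leaf 92878722575)) (.leaf 393526423175)))) (.node (.node (.node (.node (.leaf 16106145935) (.leaf 326954471426)) (.node (.leaf 129385973761) (.leaf 330175685126))) (.node (.node (.leaf 171261872782) (.leaf 1073744011)) (.leaf 467077773317))) (.node (.node (.node (.leaf 122943469063) (.leaf 323196407819)) (.leaf 151397700227)) (.node (.node (.leaf 107374250124) (.leaf 134217807497)) (.leaf 2147532816)))))) (.node (.node (.node (.node (.node (.node (.leaf 8589937803) (.leaf 215285351941)) (.node (.leaf 238370758146) (.leaf 166430011151))) (.node (.node (.leaf 92878706827) (.leaf 192736777997)) (.leaf 318901429260))) (.node (.node (.node (.leaf 22011728264) (.leaf 273267336705)) (.leaf 133680947970)) (.node (.node (.leaf 139586495748) (.leaf 57445213455)) (.leaf 170725066889)))) (.node (.node (.node (.node (.leaf 11274304264) (.leaf 295279072144))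 (.node (.leaf 215822188932) (.leaf 268972387712))) (.node (.node (.leaf 148713292684) (.leaf 443992367241)) (.leaf 367219791498))) (.node (.node (.node (.leaf 70330117516) (.leaf 438086748416)) (.leaf 148713343748)) (.node (.node (.leaf 103616151301) (.leaf 125627873924)) (.leaf 120795984144))))) (.node (.node (.node (.node (.node (.leaf 6442460424) (.leaf 264677447168)) (.node (.leaf 165893188869) (.leaf 199179204482))) (.node (.node (.leaf 61740198921) (.leaf 367756696589)) (.leaf 263603729922))) (.node (.node (.node (.leaf 24159215106) (.leaf 365072276492)) (.leaf 146565855369)) (.node (.node (.leaf 138512730759) (.leaf 100931767176)) (.leaf 297963391753)))) (.node (.node (.node (.node (.leaf 61203286924) (.leaf 267361825806)) (.node (.leaf 130996588931) (.leaf 374199087368))) (.node (.node (.leaf 145492070656) (.leaf 11274302342)) (.leaf 167503837830))) (.node (.node (.node (.leaf 42412835720) (.leaf 499826938499)) (.leaf 328565095692)) (.node (.node (.leaf 163745697289) (.leaf 148713285900)) (.leaf 131533404688))))))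
def dF_23 : BT := .node (.node (.node (.node (.node (.node (.node (.leaf 1610614536) (.leaf 353797970946)) (.node (.leaf 216359049735) (.leaf 163745724038))) (.node (.node (.leaf 48855290762) (.leaf 381178467851)) (.leaf 272730530433))) (.node (.node (.node (.leaf 61740169605) (.leaf 296889677327)) (.leaf 133680946560)) (.node (.node (.leaf 95563079692) (.leaf 43486580111)) (.leaf 169651324045)))) (.node (.node (.node (.node (.leaf 10737432070) (.leaf 377420341264)) (.node (.leaf 125091004288) (.leaf 249108182149))) (.node (.node (.leaf 70330137473) (.leaf 248034483981)) (.leaf 248571258631))) (.node (.node (.node (.leaf 31675410567) (.leaf 487478900361)) (.leaf 194347369611)) (.node (.node (.leaf 100931795726) (.leaf 118111629198)) (.leaf 44560393744))))) (.node (.node (.node (.node (.node (.leaf 32749133568) (.leaf 239444490762)) (.node (.leaf 202937280910) (.leaf 188978650251))) (.node (.node (.leaf 177704314501) (.leaf 227096517255)) (.leaf 460098482562))) (.node (.node (.node (.leaf 93415561098) (.leaf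 234075771396)) (.leaf 140660273795)) (.node (.node (.leaf 115427297282) (.leaf 97173647752)) (.leaf 403190099205)))) (.node (.node (.node (.node (.leaf 86436237568) (.leaf 292057846030)) (.node (.leaf 130459716993) (.leaf 359703559169))) (.node (.node (.leaf 171261873417) (.leaf 6442460813)) (.leaf 244813186055))) (.node (.node (.node (.leaf 35433512069) (.leaf 271119929608)) (.leaf 150860830602)) (.node (.node (.leaf 137439021830) (.leaf 140660225550)) (.leaf 42412902928)))))) (.node (.node (.node (.node (.node (.node (.leaf 14495518986) (.leaf 253939947024)) (.node (.leaf 242665726339) (.leaf 171261906695))) (.node (.node (.leaf 100394900875) (.leaf 501974423681)) (.leaf 166966963202))) (.node (.node (.node (.leaf 49392145159) (.leaf 331249412100)) (.leaf 136365304078)) (.node (.node (.leaf 149787044869) (.leaf 67645745033)) (.leaf 289910410379)))) (.node (.node (.node (.node (.leaf 12348047624) (.leaf 253403093902)) (.node (.leaf 333933790336) (.leaf 297963436684))) (.node (.node (.leaf 120796005898) (.leaf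 408022016389)) (.leaf 325343861249))) (.node (.node (.node (.leaf 31675413133) (.leaf 175556906759)) (.leaf 150323957248)) (.node (.node (.leaf 105226764937) (.leaf 129922791311)) (.leaf 38117843728))))) (.node (.node (.node (.node (.node (.leaf 9663687430) (.leaf 245886908174)) (.node (.leaf 118648550030) (.leaf 202937232515))) (.node (.node (.leaf 133680902539) (.leaf 433791819013)) (.leaf 367219798019))) (.node (.node (.node (.leaf 104152982026) (.leaf 222264667908)) (.leaf 142270889218)) (.node (.node (.leaf 100394923139) (.leaf 108984864143)) (.leaf 315143304076)))) (.node (.node (.node (.node (.leaf 77309430032) (.leaf 287226049164)) (.node (.leaf 130996589829) (.leaf 411243192834))) (.node (.node (.leaf 133680911500) (.leaf 16106131723)) (.leaf 344134364169))) (.node (.node (.node (.leaf 42412836874) (.leaf 229243999105)) (.leaf 328565076870)) (.node (.node (.leaf 294205329920) (.leaf 151397644293)) (.leaf 384936475918))))))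
def dF_24 : BT := .node dF_22 dF_23
def dF_25 : BT := .node (.node (.node (.node (.node (.node (.node (.leaf 3758097282) (.leaf 389768315918)) (.node (.leaf 282931042060) (.leaf 155692601474))) (.node (.node (.leaf 44023451918) (.leaf 486942037377)) (.leaf 265214337030))) (.node (.node (.node (.leaf 1610630544) (.leaf 297426511758)) (.node (.leaf 134217816837) (.leaf 487478839428))) (.node (.node (.leaf 95563078914) (.leaf 35433512335)) (.leaf 461709099779)))) (.node (.node (.node (.node (.leaf 24159204107) (.leaf 411780083344)) (.node (.leaf 318901402249) (.leaf 237833849737))) (.node (.node (.leaf 119185389836) (.leaf 327491378830)) (.leaf 392452670083))) (.node (.node (.node (.leaf 28454184712) (.leaf 428959905924)) (.leaf 199179207299)) (.node (.node (.leaf 238370748555) (.leaf 117037886339)) (.leaf 311385157256))))) (.node (.node (.node (.node (.node (.leaf 7516199937) (.leaf 236223258128)) (.node (.leaf 114890450959) (.leaf 185757394187))) (.node (.node (.leaf 176630572288) (.leaf 470835911169)) (.leaf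 190589284237))) (.node (.node (.node (.leaf 46707791619) (.leaf 236223254536)) (.leaf 149250207750)) (.node (.node (.leaf 233538898192) (.leaf 95563073807)) (.leaf 400505796880)))) (.node (.node (.node (.node (.leaf 19327372686) (.leaf 427349288972)) (.node (.leaf 215285320461) (.leaf 333933800845))) (.node (.node (.leaf 90194365325) (.leaf 5368710402)) (.leaf 336081235976))) (.node (.node (.node (.leaf 34896640394) (.leaf 193810518157)) (.leaf 335544423693)) (.node (.node (.leaf 184683661705) (.leaf 137975870345)) (.leaf 16106145296)))))) (.node (.node (.node (.node (.node (.node (.leaf 16106131202) (.leaf 217432767376)) (.node (.leaf 113816707214) (.leaf 170725003136))) (.node (.node (.leaf 54224001926) (.leaf 194884261896)) (.leaf 159450769550))) (.node (.node (.node (.leaf 44560306700) (.leaf 216359034888)) (.leaf 135291561221)) (.node (.node (.leaf 166430042254) (.leaf 59592707465)) (.leaf 170725067021)))) (.node (.node (.node (.node (.leaf 11811175811) (.leaf 362387951364)) (.node (.leaf 125627876224)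 (.leaf 285615384451))) (.node (.node (.leaf 87510009092) (.leaf 297963479298)) (.leaf 296889677319))) (.node (.node (.node (.leaf 30064800140) (.leaf 191126107791)) (.leaf 325880745100)) (.node (.node (.leaf 186831143172) (.leaf 128312179206)) (.leaf 26843551888))))) (.node (.node (.node (.node (.node (.leaf 11811170315) (.leaf 361851057549)) (.node (.leaf 118111678217) (.leaf 201326616459))) (.node (.node (.leaf 63350812422) (.leaf 262529997957)) (.leaf 275414823297))) (.node (.node (.node (.leaf 46707794176) (.leaf 402116352134)) (.leaf 187368045190)) (.node (.node (.leaf 258771822083) (.leaf 103079254531)) (.leaf 179851776388)))) (.node (.node (.node (.node (.leaf 33286003340) (.leaf 463319653128)) (.node (.leaf 293131604615) (.leaf 393526424712))) (.node (.node (.leaf 173946229385) (.leaf 12348043780)) (.leaf 317827693702))) (.node (.node (.node (.leaf 40265352844) (.leaf 412316979982)) (.leaf 226022743811)) (.node (.node (.leaf 287762878593) (.leaf 150323901574)) (.leaf 289373463050))))))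
def dF_26 : BT := .node (.node (.node (.node (.node (.node (.node (.leaf 1073744385) (.leaf 224949024272)) (.node (.leaf 200789793806) (.leaf 165356264974))) (.node (.node (.leaf 68182644483) (.leaf 287226058375)) (.leaf 233002012681))) (.node (.node (.node (.leaf 57982072323) (.leaf 276488625548)) (.leaf 189515522059)) (.node (.node (.leaf 140660236935) (.leaf 53687113487)) (.leaf 463319713283)))) (.node (.node (.node (.node (.leaf 31138527243) (.leaf 111669191696)) (.node (.leaf 292594729101) (.leaf 263066819083))) (.node (.node (.leaf 72477621903) (.leaf 263066869645)) (.leaf 441308000272))) (.node (.node (.node (.leaf 30064798728) (.leaf 282931014658)) (.leaf 380641576576)) (.node (.node (.leaf 176630594692) (.leaf 119722241551)) (.leaf 30064785552))))) (.node (.node (.node (.node (.node (.leaf 5905588748) (.leaf 245350088840)) (.node (.leaf 122943515528) (.leaf 193810435079))) (.node (.node (.leaf 119185385611) (.leaf 460635364233)) (.leaf 270046180230))) (.node (.node (.node (.leaf 23622343434) (.leaf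 187368038912)) (.leaf 140660274565)) (.node (.node (.leaf 113816656131) (.leaf 99858032259)) (.leaf 181462463111)))) (.node (.node (.node (.node (.leaf 23085457936) (.leaf 496068820238)) (.node (.leaf 235686416259) (.leaf 361851057926))) (.node (.node (.leaf 128849072012) (.leaf 8053075343)) (.leaf 241592023304))) (.node (.node (.node (.leaf 39728480385) (.leaf 403190174217)) (.leaf 181999343757)) (.node (.node (.leaf 134754667658) (.leaf 142807756175)) (.leaf 219580255504)))))) (.node (.node (.node (.node (.node (.node (.leaf 4831843589) (.leaf 210990291470)) (.node (.leaf 114353579022) (.leaf 177704299403))) (.node (.node (.leaf 55297745039) (.leaf 507343132933)) (.leaf 176630639875))) (.node (.node (.node (.leaf 23622341640) (.leaf 272193597443)) (.leaf 137439046670)) (.node (.node (.leaf 97710566926) (.leaf 88046842126)) (.leaf 286689148808)))) (.node (.node (.node (.node (.leaf 51002754187) (.leaf 429496772621)) (.node (.leaf 300110923149) (.leaf 310848344460))) (.node (.node (.leaf 89657493762) (.leaf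 418222563843)) (.leaf 165893224201))) (.node (.node (.node (.leaf 33286026634) (.leaf 284004831119)) (.leaf 426812477568)) (.node (.node (.leaf 105763636751) (.leaf 132070333583)) (.leaf 8053101840))))) (.node (.node (.node (.node (.node (.leaf 46707781002) (.leaf 365609124998)) (.node (.leaf 119185421448) (.leaf 215822162945))) (.node (.node (.leaf 138512741519) (.leaf 377420373384)) (.leaf 427886221322))) (.node (.node (.node (.leaf 39728457224) (.leaf 486942028424)) (.leaf 142270889741)) (.node (.node (.leaf 260919326464) (.leaf 113279813774)) (.leaf 117037910032)))) (.node (.node (.node (.node (.leaf 55297706630) (.leaf 381715274639)) (.node (.leaf 200789809154) (.leaf 430570530689))) (.node (.node (.leaf 134754653709) (.leaf 24159215631)) (.leaf 262529990411))) (.node (.node (.node (.leaf 148713278208) (.leaf 187368068233)) (.leaf 304942783370)) (.node (.node (.leaf 296352814208) (.leaf 153008305801)) (.leaf 236223241734))))))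
def dF_27 : BT := .node dF_25 dF_26
def dF_28 : BT := .node dF_24 dF_27
def dF_29 : BT := .node dF_21 dF_28
def dF_30 : BT := .node dF_14 dF_29
def dF_31 : BT := .node (.node (.node (.node (.node (.node (.node (.leaf 4) (.leaf 215822147086)) (.node (.leaf 111132349959) (.leaf 153545144837))) (.node (.node (.leaf 43486579847) (.leaf 365072340107)) (.leaf 167503830145))) (.node (.node (.node (.leaf 25232934028) (.leaf 472983332741)) (.node (.leaf 130996590730) (.leaf 430570546571))) (.node (.node (.leaf 135828395789) (.leaf 26306677130)) (.leaf 170188193664)))) (.node (.node (.node (.node (.leaf 8589946509) (.leaf 357556125699)) (.node (.leaf 210990347658) (.leaf 222264611334))) (.node (.node (.leaf 67645781383) (.leaf 316753960449)) (.leaf 438086766473))) (.node (.node (.node (.leaf 63887664270) (.leaf 443455437328)) (.leaf 198105464838)) (.node (.node (.leaf 186831113863) (.leaf 114353552652)) (.leaf 201863493633))))) (.node (.node (.node (.node (.node (.leaf 4831843977) (.leaf 432181141641)) (.node (.leaf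 168577541254) (.leaf 179851784075))) (.node (.node (.leaf 173409345921) (.leaf 486942038287)) (.leaf 176630639874))) (.node (.node (.node (.leaf 25232954500) (.leaf 272193602697)) (.leaf 355945507974)) (.node (.node (.leaf 162135076617) (.leaf 89657490316)) (.leaf 406411398658)))) (.node (.node (.node (.node (.leaf 14495532558) (.leaf 314606430224)) (.node (.leaf 301184665229) (.leaf 315143272704))) (.node (.node (.leaf 101468653962) (.leaf 411243241993)) (.leaf 166430095367))) (.node (.node (.node (.leaf 121869727111) (.leaf 289373540227)) (.leaf 149787087105)) (.node (.node (.leaf 126164731785) (.leaf 133144065032)) (.leaf 158913793296)))))) (.node (.node (.node (.node (.node (.node (.leaf 1073744644) (.leaf 224948974727)) (.node (.leaf 200789794061) (.leaf 165893164683))) (.node (.node (.leaf 90731222795) (.leaf 402116433667)) (.leaf 316753945354))) (.node (.node (.node (.leaf 53150223106) (.leaf 275951754639)) (.leaf 355945505033)) (.node (.node (.leaf 97173693186) (.leaf 54760860033)) (.leaf 271656797835))))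 (.node (.node (.node (.node (.leaf 33286011275) (.leaf 300110866318)) (.node (.leaf 248034443520) (.leaf 264140561035))) (.node (.node (.leaf 79456944399) (.leaf 287226060800)) (.leaf 304405875721))) (.node (.node (.node (.leaf 44023442570) (.leaf 316753886338)) (.leaf 195957983115)) (.node (.node (.leaf 101468667273) (.leaf 120795994883)) (.leaf 31675465360))))) (.node (.node (.node (.node (.node (.leaf 5905589006) (.leaf 480499538448)) (.node (.leaf 117574806671) (.leaf 195421046921))) (.node (.node (.leaf 120259127691) (.leaf 508953746319)) (.leaf 166430094336))) (.node (.node (.node (.leaf 23622343565) (.leaf 365072332928)) (.leaf 139586533258)) (.node (.node (.leaf 221727709827) (.leaf 99857996555)) (.leaf 392452735504)))) (.node (.node (.node (.node (.leaf 53687106576) (.leaf 335007551755)) (.node (.leaf 217432805254) (.leaf 367756619145))) (.node (.node (.leaf 129385943052) (.leaf 10200560525)) (.leaf 251255699851))) (.node (.node (.node (.leaf 39728480774) (.leaf 418759430671)) (.leaf 343597459594))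 (.node (.node (.leaf 219580272001) (.leaf 144418371717)) (.leaf 53150329744))))))
def dF_32 : BT := .node (.node (.node (.node (.node (.node (.node (.leaf 536872064) (.leaf 190052387728)) (.node (.leaf 111132350479) (.leaf 155692581258))) (.node (.node (.leaf 44023452047) (.leaf 463319717248)) (.leaf 427349352585))) (.node (.node (.node (.leaf 52613364096) (.leaf 336618129291)) (.node (.leaf 132070333320) (.leaf 496068816515))) (.node (.node (.leaf 95563079174) (.leaf 39728457099)) (.leaf 461709099778)))) (.node (.node (.node (.node (.leaf 10200560783) (.leaf 438623639568)) (.node (.leaf 121869778062) (.leaf 240518197000))) (.node (.node (.leaf 69793266182) (.leaf 438086786819)) (.leaf 193273626896))) (.node (.node (.node (.leaf 111669176324) (.leaf 372588471180)) (.leaf 333396935308)) (.node (.node (.leaf 119185406208) (.leaf 117037872778)) (.leaf 28991106192))))) (.node (.node (.node (.node (.node (.leaf 25769811200) (.leaf 359703597573)) (.node (.leaf 115427322122) (.leaf 187368044417))) (.node (.node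 (.leaf 114353546635) (.leaf 460635363976)) (.leaf 191126155276))) (.node (.node (.node (.leaf 35970373388) (.leaf 466004061327)) (.leaf 299574063239)) (.node (.node (.leaf 166966877697) (.leaf 96099946127)) (.leaf 404263876355)))) (.node (.node (.node (.node (.leaf 20937985677) (.leaf 294742228228)) (.node (.leaf 129385974656) (.leaf 337691874701))) (.node (.node (.leaf 146565811331) (.leaf 5905585285)) (.leaf 374199129100))) (.node (.node (.node (.leaf 130459662858) (.leaf 180388745479)) (.leaf 199179212299)) (.node (.node (.leaf 285615393408) (.leaf 139586524416)) (.leaf 2684374032)))))) (.node (.node (.node (.node (.node (.node (.leaf 2147487629) (.leaf 309237686160)) (.node (.leaf 241591984386) (.leaf 170725036424))) (.node (.node (.leaf 55297743880) (.leaf 264677480461)) (.leaf 205084797451))) (.node (.node (.node (.leaf 26306695810) (.leaf 488552619139)) (.leaf 134754690695)) (.node (.node (.leaf 96636824079) (.leaf 61740169095)) (.leaf 279172991627)))) (.node (.node (.node (.node (.leaf 39728463499)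 (.leaf 362387910154)) (.node (.leaf 333933790084) (.leaf 293131564035))) (.node (.node (.leaf 87510009222) (.leaf 511638102280)) (.leaf 395673895177))) (.node (.node (.node (.leaf 59592700302) (.leaf 264140607114)) (.leaf 194884242819)) (.node (.node (.leaf 235149525378) (.leaf 128849070601)) (.leaf 26306741904))))) (.node (.node (.node (.node (.node (.leaf 12348041614) (.leaf 186294294152)) (.node (.leaf 118648549508) (.leaf 201863490695))) (.node (.node (.leaf 63887683584) (.leaf 228170259721)) (.leaf 344671167881))) (.node (.node (.node (.leaf 55297728782) (.leaf 418222494990)) (.leaf 144418372608)) (.node (.node (.leaf 155155755778) (.leaf 104152970126)) (.leaf 335544348176)))) (.node (.node (.node (.node (.leaf 27380423948) (.leaf 229780806276)) (.node (.leaf 293131604738) (.leaf 402653266950))) (.node (.node (.leaf 226559579008) (.leaf 12884914690)) (.leaf 374199109766))) (.node (.node (.node (.leaf 67645769483) (.leaf 296889733892)) (.leaf 362924826380)) (.node (.node (.leaf 110595477765) (.leaf 150323890830))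 (.leaf 229780772494))))))
def dF_33 : BT := .node dF_31 dF_32
def dF_34 : BT := .node (.node (.node (.node (.node (.node (.node (.leaf 2147484167) (.leaf 216895889166)) (.node (.leaf 296352814342) (.leaf 154618886656))) (.node (.node (.leaf 44023451393) (.leaf 352724309258)) (.leaf 253403176457))) (.node (.node (.node (.leaf 82141269776) (.leaf 395673959312)) (.node (.leaf 132070333061) (.leaf 467077752832))) (.node (.node (.leaf 164819426062) (.leaf 30601671311)) (.leaf 265214345611)))) (.node (.node (.node (.node (.leaf 10200560005) (.leaf 380104651018)) (.node (.leaf 120259164548) (.leaf 235686417422))) (.node (.node (.leaf 118111647756) (.leaf 511101230723)) (.leaf 238907630977))) (.node (.node (.node (.leaf 27917313550) (.leaf 239444474757)) (.leaf 398895186443)) (.node (.node (.leaf 227096424067) (.leaf 115427273359)) (.leaf 320511961744))))) (.node (.node (.node (.node (.node (.leaf 22548584961) (.leaf 241055090960)) (.node (.leaf 114890450700) (.leaf 184146797057))) (.node (.node (.leaf 57982100232)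 (.leaf 418222561665)) (.leaf 180388736643))) (.node (.node (.node (.leaf 53150242187) (.leaf 364535438721)) (.leaf 390305246976)) (.node (.node (.leaf 164819394306) (.leaf 95026202886)) (.leaf 390842108807)))) (.node (.node (.node (.node (.leaf 16643017103) (.leaf 326954487692)) (.node (.leaf 130459715968) (.leaf 333396894852))) (.node (.node (.leaf 145492069249) (.leaf 2147484555)) (.leaf 285615353737))) (.node (.node (.node (.leaf 61740185227) (.leaf 195421130758)) (.leaf 151934571267)) (.node (.node (.leaf 175019985032) (.leaf 137439016579)) (.leaf 205621577872)))))) (.node (.node (.node (.node (.node (.node (.leaf 14495518086) (.leaf 441844823824)) (.node (.leaf 113816706954) (.leaf 167503785350))) (.node (.node (.leaf 95026190731) (.leaf 390305273732)) (.leaf 156229543311))) (.node (.node (.node (.leaf 22011728394) (.leaf 234612651266)) (.leaf 154618913537)) (.node (.node (.leaf 165893170699) (.leaf 58518953231)) (.leaf 490163259527)))) (.node (.node (.node (.node (.leaf 12884917251) (.leaf 346281794951))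 (.node (.leaf 184146805262) (.leaf 272730510211))) (.node (.node (.leaf 149250163725) (.leaf 515396198540)) (.leaf 402653262084))) (.node (.node (.node (.leaf 29527928708) (.leaf 357019200904)) (.leaf 247497591564)) (.node (.node (.leaf 163208822659) (.leaf 126701549962)) (.leaf 332323137674))))) (.node (.node (.node (.node (.node (.leaf 6442460812) (.leaf 264677385350)) (.node (.leaf 247497567627) (.leaf 199716081161))) (.node (.node (.leaf 127775321355) (.leaf 509490617358)) (.leaf 274877951504))) (.node (.node (.node (.leaf 24159215500) (.leaf 380104664841)) (.leaf 146565855624)) (.node (.node (.leaf 138512731264) (.leaf 102005515649)) (.leaf 337691916290)))) (.node (.node (.node (.node (.leaf 55834577795) (.leaf 345208053134)) (.node (.leaf 200789807622) (.leaf 382252153346))) (.node (.node (.leaf 93415592328) (.leaf 11811172738)) (.leaf 254476925707))) (.node (.node (.node (.leaf 137975858315) (.leaf 499826938511)) (.leaf 362924790664)) (.node (.node (.leaf 149787053959) (.leaf 149250215438)) (.leaf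 224948951054))))))
def dF_35 : BT := .node (.node (.node (.node (.node (.node (.node (.leaf 3221227528) (.leaf 353798029321)) (.node (.leaf 113279835018) (.leaf 164819426063))) (.node (.node (.leaf 49392162063) (.leaf 190589294217)) (.leaf 154618929799))) (.node (.node (.node (.leaf 53150223110) (.leaf 333933802123)) (.leaf 134217817600)) (.node (.node (.leaf 239981355146) (.leaf 48855256840)) (.leaf 461709100421)))) (.node (.node (.node (.node (.leaf 28991043211) (.leaf 374199070730)) (.node (.leaf 212064092035) (.leaf 253403095561))) (.node (.node (.leaf 70330137732) (.leaf 265214353284)) (.leaf 411243213448))) (.node (.node (.node (.leaf 113279789568) (.leaf 202400409350)) (.leaf 245886977291)) (.node (.node (.leaf 100931795855) (.leaf 119185365764)) (.leaf 88046868112))))) (.node (.node (.node (.node (.node (.leaf 5905588230) (.leaf 331786280976)) (.node (.leaf 168577542786) (.leaf 190052393483))) (.node (.node (.leaf 58518972175) (.leaf 227633388298)) (.leaf 164819481356))) (.node (.node (.node (.leaf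 53687113739) (.leaf 234075811590)) (.leaf 397284569866)) (.node (.node (.leaf 177704296192) (.leaf 97710530049)) (.leaf 199179144449)))) (.node (.node (.node (.node (.leaf 45097161872) (.leaf 346281820417)) (.node (.leaf 354871758464) (.leaf 359703551879))) (.node (.node (.leaf 92341849728) (.leaf 6979327116)) (.leaf 249108215947))) (.node (.node (.node (.leaf 107911085450) (.leaf 348966211978)) (.leaf 199716083598)) (.node (.node (.leaf 133680925578) (.leaf 142270884612)) (.leaf 140123342608)))))) (.node (.node (.node (.node (.node (.node (.leaf 3758101133) (.leaf 255013727491)) (.node (.leaf 114353578633) (.leaf 173409372427))) (.node (.node (.leaf 101468642955) (.leaf 285615446157)) (.leaf 333396945925))) (.node (.node (.node (.leaf 24696083337) (.leaf 331249441294)) (.leaf 137439046410)) (.node (.node (.leaf 252866260106) (.leaf 69793254671)) (.leaf 198642355591)))) (.node (.node (.node (.node (.leaf 12884918791) (.leaf 329101947664)) (.node (.leaf 347355563267) (.leaf 299574039818))) (.node (.node (.leaf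 88583751438) (.leaf 393526501772)) (.leaf 197568574345))) (.node (.node (.node (.leaf 31675413390) (.leaf 395673980687)) (.leaf 377420353410)) (.node (.node (.leaf 103616152333) (.leaf 130996533505)) (.leaf 35970366736))))) (.node (.node (.node (.node (.node (.leaf 12884913038) (.leaf 366146055440)) (.node (.leaf 180388705035) (.leaf 210453440769))) (.node (.node (.leaf 67645780864) (.leaf 512174972289)) (.leaf 440771101712))) (.node (.node (.node (.leaf 104689853194) (.leaf 382789051399)) (.leaf 391378992523)) (.node (.node (.leaf 100394923269) (.leaf 110595478287)) (.leaf 258771822095)))) (.node (.node (.node (.node (.leaf 33286003341) (.leaf 381715278849)) (.node (.leaf 129922848393) (.leaf 418759383692))) (.node (.node (.leaf 108984849800) (.leaf 22011715328)) (.leaf 168577580556))) (.node (.node (.node (.leaf 42412837005) (.leaf 486942037005)) (.leaf 152471443983)) (.node (.node (.leaf 111669219976) (.leaf 151934527746)) (.leaf 241055097104))))))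
def dF_36 : BT := .node dF_34 dF_35
def dF_37 : BT := .node dF_33 dF_36
def dF_38 : BT := .node (.node (.node (.node (.node (.node (.node (.leaf 1610613126) (.leaf 217432836624)) (.node (.leaf 173946246786) (.leaf 154082038017))) (.node (.node (.leaf 45634063752) (.leaf 315143345284)) (.leaf 153545186694))) (.node (.node (.node (.leaf 8053065744) (.leaf 248034443905)) (.node (.leaf 267361802765) (.leaf 438086735243))) (.node (.node (.leaf 96636819713) (.leaf 29527928975)) (.leaf 323196403849)))) (.node (.node (.node (.node (.leaf 47781523466) (.leaf 194884171904)) (.node (.leaf 119722293128) (.leaf 225485857155))) (.node (.node (.leaf 67645781517) (.leaf 489089523200)) (.leaf 249108142605))) (.node (.node (.node (.leaf 57445213454) (.leaf 268435521038)) (.leaf 396210831499)) (.node (.node (.leaf 190052348807) (.leaf 114890450191)) (.leaf 178778088208))))) (.node (.node (.node (.node (.node (.leaf 9126811776) (.leaf 237833929488)) (.node (.leaf 216359052545) (.leaf 181462403724))) (.node (.node (.leaf 59592712708)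 (.leaf 433791818119)) (.leaf 188978671117))) (.node (.node (.node (.leaf 42412823811) (.leaf 190052371215)) (.leaf 356482379012)) (.node (.node (.leaf 99858051203) (.leaf 91268060430)) (.leaf 393526412293)))) (.node (.node (.node (.node (.leaf 17716758539) (.leaf 447750411664)) (.node (.leaf 150323939331) (.leaf 330175666948))) (.node (.node (.leaf 104153008777) (.leaf 536872845)) (.leaf 187368028163))) (.node (.node (.node (.leaf 126701565444) (.leaf 462782844928)) (.leaf 149787087498)) (.node (.node (.leaf 125090990088) (.leaf 134217813248)) (.leaf 15569275408)))))) (.node (.node (.node (.node (.node (.node (.leaf 8053066763) (.leaf 215285308560)) (.node (.leaf 222801501697) (.leaf 166430085773))) (.node (.node (.leaf 63350806540) (.leaf 390305273615)) (.leaf 155692672007))) (.node (.node (.node (.leaf 22548591241) (.leaf 273267356934)) (.leaf 133144076943)) (.node (.node (.leaf 98247435522) (.leaf 57445218825)) (.leaf 170188195855)))) (.node (.node (.node (.node (.leaf 34359753355) (.leaf 284541624714))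 (.node (.leaf 293668471180) (.leaf 267361770891))) (.node (.node (.leaf 118111650698) (.leaf 286152319112)) (.leaf 377420338823))) (.node (.node (.node (.leaf 58518957451) (.leaf 412316944651)) (.leaf 148176472719)) (.node (.node (.leaf 216359042698) (.leaf 122943446158)) (.leaf 69793323280))))) (.node (.node (.node (.node (.node (.leaf 6442460294) (.leaf 445066038160)) (.node (.leaf 144418352390) (.leaf 198642297099))) (.node (.node (.leaf 175019961229) (.leaf 508953746443)) (.leaf 165893223937))) (.node (.node (.node (.leaf 24159214977) (.leaf 365072252041)) (.leaf 140123404428)) (.node (.node (.leaf 139586472578) (.leaf 100931754752)) (.leaf 297963392263)))) (.node (.node (.node (.node (.leaf 61203286660) (.leaf 318364561799)) (.node (.leaf 128849105294) (.leaf 374199104642))) (.node (.node (.leaf 108447977741) (.leaf 11274301700)) (.leaf 198642350724))) (.node (.node (.node (.leaf 39728481037) (.leaf 498753196677)) (.leaf 328565096195)) (.node (.node (.leaf 108984864271) (.leaf 148713296648)) (.leaf 108447965840))))))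
def dF_39 : BT := .node (.node (.node (.node (.node (.node (.node (.leaf 536872583) (.leaf 187904863631)) (.node (.leaf 113279834628) (.leaf 163208811019))) (.node (.node (.leaf 46707807118) (.leaf 239444547072)) (.leaf 154618929794))) (.node (.node (.node (.leaf 68182608652) (.leaf 175556824197)) (.leaf 132607204741)) (.node (.node (.leaf 97710563201) (.leaf 42412804874)) (.leaf 171261936771)))) (.node (.node (.node (.node (.leaf 27917301131) (.leaf 382789005706)) (.node (.leaf 124554133263) (.leaf 248034406665))) (.node (.node (.leaf 70330137344) (.leaf 291521027855)) (.leaf 248571300355))) (.node (.node (.node (.leaf 112206047364) (.leaf 346281850499)) (.leaf 401042670603)) (.node (.node (.leaf 102542408323) (.leaf 118111675785)) (.leaf 44560302736))))) (.node (.node (.node (.node (.node (.leaf 5905587840) (.leaf 240518232714)) (.node (.leaf 155155769738) (.leaf 188978636040))) (.node (.node (.leaf 58518972038) (.leaf 327491377795)) (.leaf 166430093697))) (.node (.node (.node (.leaf 26306697094) (.leaf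 234075819010)) (.leaf 212064105089)) (.node (.node (.leaf 114353555968) (.leaf 97173687938)) (.leaf 403190099584)))) (.node (.node (.node (.node (.leaf 33286017154) (.leaf 315143305230)) (.node (.leaf 128312233354) (.leaf 353797975808))) (.node (.node (.leaf 90731236623) (.leaf 6442456326)) (.leaf 244813186433))) (.node (.node (.node (.leaf 35433511939) (.leaf 244813254926)) (.leaf 299574072962)) (.node (.node (.leaf 133144054538) (.leaf 140660225540)) (.leaf 42412812304)))))) (.node (.node (.node (.node (.node (.node (.leaf 18253615364) (.leaf 253403093903)) (.node (.leaf 263603691914) (.leaf 171261878275))) (.node (.node (.leaf 54760873345) (.leaf 229244000262)) (.leaf 262529985537))) (.node (.node (.node (.leaf 45634048653) (.leaf 331249441922)) (.leaf 191663007755)) (.node (.node (.leaf 97173695500) (.leaf 67645744388)) (.leaf 173946293391)))) (.node (.node (.node (.node (.leaf 41875947531) (.leaf 253403109128)) (.node (.leaf 297963439245) (.leaf 297963449729))) (.node (.node (.leaf 88583751176) (.leaf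 318364574083)) (.leaf 209916629257))) (.node (.node (.node (.leaf 121869726346) (.leaf 303332183686)) (.leaf 149250215429)) (.node (.node (.leaf 102542410382) (.leaf 129922805130)) (.leaf 280783493008))))) (.node (.node (.node (.node (.node (.leaf 6979332879) (.leaf 245886966536)) (.node (.leaf 118648549768) (.leaf 202937291137))) (.node (.node (.leaf 63887683972) (.leaf 273267416323)) (.leaf 367219772417))) (.node (.node (.node (.leaf 37580988934) (.leaf 223338409728)) (.leaf 385473412227)) (.node (.node (.leaf 99858052111) (.leaf 107911068558)) (.leaf 315143322887)))) (.node (.node (.node (.node (.leaf 17716744720) (.leaf 229243990660)) (.node (.leaf 129385977102) (.leaf 409095709196))) (.node (.node (.leaf 92878722181) (.leaf 14495518478)) (.leaf 384936528005))) (.node (.node (.node (.leaf 40802224142) (.leaf 462245974927)) (.leaf 360777331330)) (.node (.node (.leaf 283467911693) (.leaf 151397644672)) (.leaf 384936535824))))))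
def dF_40 : BT := .node dF_38 dF_39
def dF_41 : BT := .node (.node (.node (.node (.node (.node (.node (.leaf 910) (.leaf 215285276046)) (.node (.leaf 111669221129) (.leaf 155692627712))) (.node (.node (.leaf 154081988741) (.leaf 353798051080)) (.leaf 275951755264))) (.node (.node (.node (.leaf 4294986640) (.leaf 297426555401)) (.node (.leaf 132070333190) (.leaf 472983324941))) (.node (.node (.leaf 99321175168) (.leaf 33286026767)) (.leaf 169651323652)))) (.node (.node (.node (.node (.leaf 23622333067) (.leaf 193273559175)) (.node (.leaf 120796035718) (.leaf 237833896582))) (.node (.node (.leaf 149787031819) (.leaf 501437554316)) (.leaf 392452738688))) (.node (.node (.node (.leaf 63887664777) (.leaf 239444543374)) (.leaf 143344632455)) (.node (.node (.leaf 166966917248) (.leaf 117037880193)) (.leaf 311385207686))))) (.node (.node (.node (.node (.node (.leaf 5368716298) (.leaf 235149538181)) (.node (.leaf 117037934469) (.leaf 185757419910))) (.node (.node (.leaf 153008252044) (.leaf 357019277837)) (.leaf 163745738629)))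 (.node (.node (.node (.leaf 44560307969) (.leaf 364535413773)) (.leaf 138512789505)) (.node (.node (.leaf 236760112647) (.leaf 95563046410)) (.leaf 141197083024)))) (.node (.node (.node (.node (.leaf 18790501519) (.leaf 427349293194)) (.node (.leaf 128312232707) (.leaf 333933803651))) (.node (.node (.leaf 90731236234) (.leaf 4831844237)) (.leaf 181462457360))) (.node (.node (.node (.leaf 34896640262) (.leaf 324270149771)) (.leaf 151397700868)) (.node (.node (.leaf 283467909386) (.leaf 137975911686)) (.leaf 46707786640)))))) (.node (.node (.node (.node (.node (.node (.leaf 2147487500) (.leaf 277562298128)) (.node (.leaf 113816707085) (.leaf 170188144267))) (.node (.node (.leaf 54224001797) (.leaf 394063370126)) (.leaf 158913898510))) (.node (.node (.node (.leaf 28991050248) (.leaf 472983314057)) (.leaf 287226029194)) (.node (.node (.leaf 97710565508) (.leaf 59592685442)) (.leaf 275951765771)))) (.node (.node (.node (.node (.leaf 38117850379) (.leaf 362387952144)) (.node (.leaf 184146805515) (.leaf 283467921800)))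 (.node (.node (.leaf 97173685380) (.leaf 496068845825)) (.leaf 412316923397))) (.node (.node (.node (.leaf 29527929103) (.leaf 357019244047)) (.leaf 397284576390)) (.node (.node (.leaf 102005539084) (.leaf 128312193284)) (.leaf 23622381456))))) (.node (.node (.node (.node (.node (.leaf 40802199434) (.leaf 361851100549)) (.node (.leaf 144418352642) (.leaf 200789772428))) (.node (.node (.leaf 63350812293) (.leaf 229780872323)) (.leaf 440771114759))) (.node (.node (.node (.leaf 54760857739) (.leaf 418222495238)) (.leaf 143344630401)) (.node (.node (.leaf 215285288707) (.leaf 103079257217)) (.leaf 426812410896)))) (.node (.node (.node (.node (.leaf 33286003974) (.leaf 228170193928)) (.node (.leaf 235686417028) (.leaf 392452682890))) (.node (.node (.leaf 130996556301) (.leaf 12348044162)) (.leaf 258771893387))) (.node (.node (.node (.leaf 40265352711) (.leaf 428959978246)) (.leaf 274341125899)) (.node (.node (.leaf 110595477634) (.leaf 150323901826)) (.leaf 289373490704))))))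
def dF_42 : BT := .node (.node (.node (.node (.node (.node (.node (.leaf 1073744256) (.leaf 225485836038)) (.node (.leaf 153008282634) (.leaf 165356300300))) (.node (.node (.leaf 68182644481) (.leaf 285615445637)) (.leaf 374199101064))) (.node (.node (.node (.leaf 28454165123) (.leaf 263603662984)) (.leaf 135291559937)) (.node (.node (.leaf 96099951237) (.leaf 53150241807)) (.leaf 306016536069)))) (.node (.node (.node (.node (.leaf 13421787137) (.leaf 112742918288)) (.node (.leaf 125091004546) (.leaf 262529929607))) (.node (.node (.leaf 70330137999) (.leaf 381178470287)) (.leaf 367219748616))) (.node (.node (.node (.leaf 114353531780) (.leaf 282931014021)) (.leaf 402653283851)) (.node (.node (.leaf 178241207425) (.leaf 119722256266)) (.leaf 59592752272))))) (.node (.node (.node (.node (.node (.leaf 7516201347) (.leaf 245350046342)) (.node (.leaf 117037935370) (.leaf 193810503680))) (.node (.node (.leaf 59055843458) (.leaf 291521026825)) (.leaf 164819481357))) (.node (.node (.node (.leaf 23622343302) (.leaf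 467077780616)) (.leaf 139049661836)) (.node (.node (.leaf 237296970256) (.leaf 98247437327)) (.leaf 181462426243)))) (.node (.node (.node (.node (.leaf 23085469964) (.leaf 318364494724)) (.node (.leaf 128849104772) (.leaf 360777330819))) (.node (.node (.leaf 92341849987) (.leaf 8053068935)) (.leaf 167503837444))) (.node (.node (.node (.leaf 65498283915) (.leaf 499826938368)) (.leaf 193810503808)) (.node (.node (.leaf 107911122062) (.leaf 142807708681)) (.leaf 147102664848)))))) (.node (.node (.node (.node (.node (.node (.leaf 4831843459) (.leaf 474057043728)) (.node (.leaf 114353578893) (.leaf 176630581387))) (.node (.node (.leaf 54760873999) (.leaf 216359098627)) (.leaf 163208867078))) (.node (.node (.node (.leaf 40802210822) (.leaf 272193612033)) (.leaf 140660272000)) (.node (.node (.leaf 167503785358) (.leaf 87510001541)) (.leaf 330712566664)))) (.node (.node (.node (.node (.leaf 49929012235) (.leaf 429496776842)) (.node (.leaf 126701618569) (.leaf 310848298757))) (.node (.node (.leaf 100394911882) (.leaf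 404263920128)) (.leaf 165893224072))) (.node (.node (.node (.leaf 111132308748) (.leaf 299037216651)) (.leaf 149250216079)) (.node (.node (.leaf 105226765710) (.leaf 132070286856)) (.leaf 8053101712))))) (.node (.node (.node (.node (.node (.leaf 8053075342) (.leaf 365609122816)) (.node (.leaf 120259163138) (.leaf 215285262734))) (.node (.node (.leaf 67645781123) (.leaf 376346631567)) (.leaf 427886152967))) (.node (.node (.node (.leaf 40265321225) (.leaf 364535440520)) (.leaf 144418373377)) (.node (.node (.leaf 100394923657) (.leaf 113279794441)) (.leaf 117574844048)))) (.node (.node (.node (.node (.leaf 55297706882) (.leaf 381715274638)) (.node (.leaf 129922848783) (.leaf 428959936652))) (.node (.node (.leaf 229243934218) (.leaf 23622343310)) (.leaf 169114451714))) (.node (.node (.node (.leaf 43486579328) (.leaf 287226057737)) (.leaf 361851100038)) (.node (.node (.leaf 111132349440) (.leaf 151934478478)) (.leaf 236223241986))))))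
def dF_43 : BT := .node dF_41 dF_42
def dF_44 : BT := .node dF_40 dF_43
def dF_45 : BT := .node dF_37 dF_44
def dF_46 : BT := .node (.node (.node (.node (.node (.node (.node (.leaf 394) (.leaf 103079239824)) (.node (.leaf 173409375885) (.leaf 153545105420))) (.node (.node (.leaf 120795991309) (.leaf 255013803136)) (.leaf 153545186564))) (.node (.node (.node (.leaf 53687093900) (.leaf 248034404739)) (.node (.leaf 188441778571) (.leaf 432181123852))) (.node (.node (.leaf 95026206850) (.leaf 28454185103)) (.leaf 310848372751)))) (.node (.node (.node (.node (.leaf 9126817549) (.leaf 357556072201)) (.node (.leaf 119722292866) (.leaf 222801502607))) (.node (.node (.leaf 147102676488) (.leaf 381178469898)) (.leaf 249108139778))) (.node (.node (.node (.leaf 30064796932) (.leaf 268435547139)) (.leaf 198105464839)) (.node (.node (.leaf 133144020480) (.leaf 114890415744)) (.leaf 450971602832))))) (.node (.node (.node (.node (.node (.leaf 4831844236) (.leaf 96636807312)) (.node (.leaf 114890450178) (.leaf 180388704395)))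 (.node (.node (.leaf 125627834761) (.leaf 463319718153)) (.leaf 226022763915))) (.node (.node (.node (.leaf 22548599949) (.leaf 392989553552)) (.leaf 356482379013)) (.node (.node (.leaf 106300501896) (.leaf 90731232136)) (.leaf 393526475408)))) (.node (.node (.node (.node (.leaf 19327370890) (.leaf 314606396938)) (.node (.leaf 127238489999) (.leaf 318364525071))) (.node (.node (.leaf 102005525002) (.leaf 408022016526)) (.leaf 248034473995))) (.node (.node (.node (.leaf 33286026766) (.leaf 179851874306)) (.leaf 292057878791)) (.node (.node (.leaf 108447991810) (.leaf 133680944006)) (.leaf 20937970704)))))) (.node (.node (.node (.node (.node (.node (.leaf 1073744775) (.leaf 310848323466)) (.node (.leaf 302795267457) (.leaf 166430011522))) (.node (.node (.leaf 53687130120) (.leaf 462782846727)) (.leaf 202400441227))) (.node (.node (.node (.leaf 22548579843) (.leaf 362387951489)) (.leaf 134754689539)) (.node (.node (.leaf 97710564482) (.leaf 54760857611)) (.leaf 171261937540)))) (.node (.node (.node (.node (.leaf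 12348045837) (.leaf 283467959312)) (.node (.leaf 125091004807) (.leaf 265214316807))) (.node (.node (.leaf 206695350795) (.leaf 286152318980)) (.leaf 375809726094))) (.node (.node (.node (.leaf 31675411720) (.leaf 427349330183)) (.leaf 146028988558)) (.node (.node (.leaf 101468667405) (.leaf 120795962254)) (.leaf 182536130960))))) (.node (.node (.node (.node (.node (.leaf 5905589135) (.leaf 200789805840)) (.node (.leaf 243202600203) (.leaf 198105468427))) (.node (.node (.leaf 60666456847) (.leaf 344134376321)) (.leaf 239444538635))) (.node (.node (.node (.leaf 23622343823) (.leaf 365072322820)) (.leaf 143881500558)) (.node (.node (.leaf 245886908672) (.leaf 99858003599)) (.leaf 392452716300)))) (.node (.node (.node (.node (.leaf 53687094149) (.leaf 316753916808)) (.node (.leaf 128849105162) (.leaf 371514750094))) (.node (.node (.leaf 129922814092) (.leaf 10737425803)) (.leaf 166966966924))) (.node (.node (.node (.leaf 42412835465) (.leaf 418759430663)) (.leaf 328565042048)) (.node (.node (.leaf 224948981128)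 (.leaf 146565775242)) (.leaf 27917356688))))))
def dF_47 : BT := .node (.node (.node (.node (.node (.node (.node (.leaf 536872323) (.leaf 369367218064)) (.node (.leaf 112206092426) (.leaf 162135075849))) (.node (.node (.leaf 45634064906) (.leaf 190589294083)) (.leaf 155692671363))) (.node (.node (.node (.leaf 52613352332) (.leaf 175556882560)) (.leaf 285615414410)) (.node (.node (.leaf 95563079304) (.leaf 40265351823)) (.leaf 169651323913)))) (.node (.node (.node (.node (.leaf 27380430091) (.leaf 438086707597)) (.node (.leaf 122943520142) (.leaf 244813213963))) (.node (.node (.leaf 120259131917) (.leaf 250181967623)) (.leaf 293668448144))) (.node (.node (.node (.leaf 28454185102) (.leaf 184146781059)) (.leaf 144418374660)) (.node (.node (.leaf 237833877897) (.leaf 117037865742)) (.leaf 44023522704))))) (.node (.node (.node (.node (.node (.leaf 30064778634) (.leaf 481036390288)) (.node (.leaf 128849095040) (.leaf 187904903553))) (.node (.node (.leaf 58518971909) (.leaf 508953746058)) (.leaf 231928344843)))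 (.node (.node (.node (.leaf 48855275394) (.leaf 466004005253)) (.leaf 140123402754)) (.node (.node (.leaf 113279815559) (.leaf 96636814478)) (.leaf 404263876231)))) (.node (.node (.node (.node (.leaf 21474856975) (.leaf 318364569101)) (.node (.leaf 242665737228) (.leaf 345208055692))) (.node (.node (.leaf 146565811335) (.leaf 5905585549)) (.leaf 327491368720))) (.node (.node (.node (.leaf 35433511680) (.leaf 327491375371)) (.leaf 150860830341)) (.node (.node (.leaf 149250181763) (.leaf 140123317636)) (.leaf 40802205840)))))) (.node (.node (.node (.node (.node (.node (.leaf 2684358796) (.leaf 10200620688)) (.node (.leaf 216895922560) (.leaf 170725001743))) (.node (.node (.leaf 54224002191) (.leaf 344134375424)) (.leaf 278099241737))) (.node (.node (.node (.leaf 48855274118) (.leaf 488552600198)) (.leaf 191126136587)) (.node (.node (.leaf 97173695370) (.leaf 63350798735)) (.leaf 282394217355)))) (.node (.node (.node (.node (.leaf 12884918148) (.leaf 255013796752)) (.node (.leaf 296889697293) (.leaf 296352836996)))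 (.node (.node (.leaf 150860776845) (.leaf 495531974927)) (.leaf 425201841035))) (.node (.node (.node (.leaf 30601671310) (.leaf 303332183695)) (.leaf 197568597387)) (.node (.node (.leaf 216895914378) (.leaf 129385935878)) (.leaf 172335587600))))) (.node (.node (.node (.node (.node (.leaf 6979332750) (.leaf 223875284752)) (.node (.leaf 118648549638) (.leaf 201863511310))) (.node (.node (.leaf 132607160459) (.leaf 507880004874)) (.leaf 293131554697))) (.node (.node (.node (.leaf 25232957966) (.leaf 428959905925)) (.leaf 227633363975)) (.node (.node (.leaf 99858051853) (.leaf 105226704782)) (.leaf 197568543119)))) (.node (.node (.node (.node (.leaf 59592685570) (.leaf 463319653003)) (.node (.leaf 129385976970) (.leaf 403190101386))) (.node (.node (.leaf 92878722051) (.leaf 12884913547)) (.leaf 384936528001))) (.node (.node (.node (.leaf 140660213640) (.leaf 360777372555)) (.leaf 360777342861)) (.node (.node (.leaf 285615395202) (.leaf 150860774408)) (.leaf 288299694992))))))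
def dF_48 : BT := .node dF_46 dF_47
def dF_49 : BT := .node (.node (.node (.node (.node (.node (.node (.leaf 2684355202) (.leaf 216359094288)) (.node (.leaf 296889685122) (.leaf 155155730691))) (.node (.node (.leaf 44023451652) (.leaf 292594767118)) (.leaf 308700880653))) (.node (.node (.node (.leaf 81604398736) (.leaf 296352776200)) (.node (.leaf 270583028364) (.leaf 472446483075))) (.node (.node (.leaf 95026207758) (.leaf 33286004482)) (.leaf 266288087563)))) (.node (.node (.node (.node (.leaf 10200560135) (.leaf 193273598211)) (.node (.leaf 297426565516) (.leaf 236223224070))) (.node (.node (.leaf 118648518796) (.leaf 326954507911)) (.leaf 238907615372))) (.node (.node (.node (.leaf 31675409925) (.leaf 239444543375)) (.leaf 333933806092)) (.node (.node (.leaf 215285299082) (.leaf 116501036038)) (.leaf 311385172864))))) (.node (.node (.node (.node (.node (.leaf 23085456001) (.leaf 100931788688)) (.node (.leaf 114890450701) (.leaf 185757396354))) (.node (.node (.leaf 57982100495) (.leaf 222264678920)) (.leaf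 227633377035))) (.node (.node (.node (.leaf 23085471369) (.leaf 364535380741)) (.leaf 137975918349)) (.node (.node (.leaf 216895871106) (.leaf 95563035395)) (.leaf 389768316037)))) (.node (.node (.node (.node (.leaf 18253630220) (.leaf 427349348368)) (.node (.leaf 353798015498) (.leaf 333396932492))) (.node (.node (.leaf 104153009029) (.leaf 2684358927)) (.leaf 315143305352))) (.node (.node (.node (.leaf 34896640002) (.leaf 179851874438)) (.leaf 180925600653)) (.node (.node (.leaf 109521733890) (.leaf 137439024137)) (.leaf 9126807824)))))) (.node (.node (.node (.node (.node (.node (.leaf 3221229066) (.leaf 176630553999)) (.node (.leaf 116501061633) (.leaf 170188151296))) (.node (.node (.leaf 54224001666) (.leaf 390305273736)) (.leaf 157840156431))) (.node (.node (.node (.leaf 35970372100) (.leaf 216359093760)) (.leaf 133680948233)) (.node (.node (.leaf 96636823303) (.leaf 59055829131)) (.leaf 362924853509)))) (.node (.node (.node (.node (.leaf 11274304653) (.leaf 30601723280)) (.node (.leaf 295279084172)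 (.leaf 275951735040))) (.node (.node (.leaf 119185392778) (.leaf 504121909379)) (.leaf 298500290048))) (.node (.node (.node (.leaf 29527928974) (.leaf 357019241605)) (.leaf 148713344138)) (.node (.node (.leaf 186831142796) (.leaf 127775335694)) (.leaf 23622381584))))) (.node (.node (.node (.node (.node (.leaf 8589944581) (.leaf 482110110992)) (.node (.leaf 120259161601) (.leaf 200789751683))) (.node (.node (.leaf 63350812162) (.leaf 227633388686)) (.leaf 361851060617))) (.node (.node (.node (.leaf 90194337800) (.leaf 418222532236)) (.leaf 404800764426)) (.node (.node (.leaf 247497540485) (.leaf 102542392202)) (.leaf 120796032400)))) (.node (.node (.node (.node (.leaf 25769805442) (.leaf 433791806986)) (.node (.leaf 235686417029) (.leaf 389768328074))) (.node (.node (.leaf 92341850638) (.leaf 11811169672)) (.leaf 168040709135))) (.node (.node (.node (.leaf 40265352580) (.leaf 498753196680)) (.leaf 270583029377)) (.node (.node (.leaf 110595477505) (.leaf 149787008521)) (.leaf 225485872899))))))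
def dF_50 : BT := .node (.node (.node (.node (.node (.node (.node (.leaf 536873231) (.leaf 245886908175)) (.node (.leaf 129922833410) (.leaf 165356296967))) (.node (.node (.leaf 74088224267) (.leaf 502511294095)) (.leaf 178241174281))) (.node (.node (.node (.leaf 22548579847) (.leaf 264140559503)) (.leaf 374199115648)) (.node (.node (.leaf 96099950976) (.leaf 52613370507)) (.leaf 463319713159)))) (.node (.node (.node (.node (.leaf 55297718144) (.leaf 33286080400)) (.node (.leaf 125091004417) (.leaf 255013743626))) (.node (.node (.leaf 70330137863) (.leaf 352724311944)) (.leaf 303332136704))) (.node (.node (.node (.leaf 28991056645) (.leaf 438086735620)) (.leaf 185757435142)) (.node (.node (.leaf 226559589380) (.leaf 119185382158)) (.leaf 179314908432))))) (.node (.node (.node (.node (.node (.leaf 5905588360) (.leaf 245350069376)) (.node (.leaf 202937281165) (.leaf 191126140557))) (.node (.node (.leaf 118111643531) (.leaf 462782847758)) (.leaf 275951760131))) (.node (.node (.node (.leaf 23622343042) (.leaf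 466004028673)) (.leaf 139049661706)) (.node (.node (.leaf 214748392070) (.leaf 97710518919)) (.leaf 209916569872)))) (.node (.node (.node (.node (.leaf 52613366288) (.leaf 318364533002)) (.node (.leaf 309237731078) (.leaf 360240429958))) (.node (.node (.leaf 221727739648) (.leaf 7516193038)) (.leaf 201326704770))) (.node (.node (.node (.leaf 37580996234) (.leaf 282931089798)) (.leaf 151934572551)) (.node (.node (.leaf 137439022083) (.leaf 142270824712)) (.leaf 401042617872)))))) (.node (.node (.node (.node (.node (.node (.leaf 3758101390) (.leaf 198642260233)) (.node (.leaf 114353578892) (.leaf 173946229007))) (.node (.node (.leaf 54760873868) (.leaf 344134375558)) (.leaf 223338409099))) (.node (.node (.node (.leaf 40802210818) (.leaf 331249464332)) (.leaf 380104698630)) (.node (.node (.leaf 97710566796) (.leaf 70330117389)) (.leaf 330712599948)))) (.node (.node (.node (.node (.leaf 48318399243) (.leaf 429496832144)) (.node (.leaf 347355563266) (.leaf 304942725902))) (.node (.node (.leaf 99858040842) (.leaf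 498753200521)) (.leaf 355945473800))) (.node (.node (.node (.leaf 33286026376) (.leaf 193810517764)) (.leaf 198105468814)) (.node (.node (.leaf 104153023630) (.leaf 130996517642)) (.leaf 53687202064))))) (.node (.node (.node (.node (.node (.leaf 7516204174) (.leaf 366146064643)) (.node (.leaf 266824921989) (.leaf 215285263617))) (.node (.node (.leaf 192736703488) (.leaf 376346631554)) (.leaf 347892387465))) (.node (.node (.node (.leaf 107374208001) (.leaf 382789051393)) (.leaf 142270889609)) (.node (.node (.leaf 100394923399) (.leaf 112206091529)) (.leaf 449360990223)))) (.node (.node (.node (.node (.leaf 60129556368) (.leaf 381715321093)) (.node (.leaf 187904907022) (.leaf 427349282176))) (.node (.node (.leaf 163745682830) (.leaf 22011728527)) (.leaf 201863577094))) (.node (.node (.node (.leaf 42412837262) (.leaf 489089520643)) (.leaf 153008315145)) (.node (.node (.leaf 294742201098) (.leaf 151934482312)) (.leaf 239981409680))))))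
def dF_51 : BT := .node dF_49 dF_50
def dF_52 : BT := .node dF_48 dF_51
def dF_53 : BT := .node (.node (.node (.node (.node (.node (.node (.leaf 1073742345) (.leaf 276488585744)) (.node (.leaf 295815943816) (.leaf 154082022793))) (.node (.node (.leaf 69793254923) (.leaf 191126164741)) (.leaf 155155799424))) (.node (.node (.node (.leaf 46707771148) (.leaf 330712594446)) (.node (.leaf 268972415493) (.leaf 449360990469))) (.node (.node (.leaf 95026207240) (.leaf 30601649283)) (.leaf 264677474571)))) (.node (.node (.node (.node (.leaf 10200559874) (.leaf 194884174351)) (.node (.leaf 120796035205) (.leaf 228707104395))) (.node (.node (.leaf 69256394639) (.leaf 244813258378)) (.leaf 329638783368))) (.node (.node (.node (.leaf 30601667972) (.leaf 272730462728)) (.leaf 193810497931)) (.node (.node (.leaf 191126090627) (.leaf 115427288458)) (.leaf 451508473744))))) (.node (.node (.node (.node (.node (.leaf 5368715650) (.leaf 237833896711)) (.node (.leaf 114890450312) (.leaf 181999317129))) (.node (.node (.leaf 108984836619)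 (.leaf 352724310412)) (.leaf 461709094528))) (.node (.node (.node (.leaf 42412823815) (.leaf 393526475536)) (.leaf 389768375936)) (.node (.node (.leaf 99858051462) (.leaf 93952422410)) (.leaf 363998511247)))) (.node (.node (.node (.node (.leaf 17179887756) (.leaf 326954428808)) (.node (.leaf 150323939330) (.leaf 330175686028))) (.node (.node (.leaf 89657494286) (.leaf 1073743631)) (.leaf 465467128200))) (.node (.node (.node (.leaf 112206050828) (.leaf 194884259853)) (.leaf 332323197580)) (.node (.node (.leaf 108984862850) (.leaf 134217819791)) (.leaf 18790531472)))))) (.node (.node (.node (.node (.node (.node (.leaf 1610616204) (.leaf 169114364304)) (.node (.leaf 113816706696) (.leaf 167503808898))) (.node (.node (.leaf 63887677581) (.leaf 195421132673)) (.leaf 202937312395))) (.node (.node (.node (.leaf 43486564749) (.leaf 487478850827)) (.leaf 153008300805)) (.node (.node (.leaf 96099951885) (.leaf 57982085135)) (.leaf 375272884367)))) (.node (.node (.node (.node (.leaf 11274304393) (.leaf 295279043338))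 (.node (.leaf 126164746760) (.leaf 270583026572))) (.node (.node (.leaf 87510008833) (.leaf 515933069447)) (.leaf 402653280003))) (.node (.node (.node (.leaf 29527928449) (.leaf 381178431752)) (.leaf 250181946115)) (.node (.node (.leaf 102005538692) (.leaf 125627873678)) (.leaf 337691884304))))) (.node (.node (.node (.node (.node (.leaf 6442460682) (.leaf 264677392386)) (.node (.leaf 118111677828) (.leaf 199179201926))) (.node (.node (.leaf 175556832268) (.leaf 509490617359)) (.leaf 242665764363))) (.node (.node (.node (.leaf 24159215236) (.leaf 365072276366)) (.leaf 144418371726)) (.node (.node (.leaf 143881451523) (.leaf 100931770894)) (.leaf 297963392139)))) (.node (.node (.node (.node (.leaf 32749127045) (.leaf 433791808514)) (.node (.leaf 128849105423) (.leaf 375272854400))) (.node (.node (.leaf 121869750533) (.leaf 11274298123)) (.leaf 253403183755))) (.node (.node (.node (.leaf 40265352192) (.leaf 348966212235)) (.leaf 198105464073)) (.node (.node (.leaf 109521735310) (.leaf 148713278478)) (.leaf 130459676560))))))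
def dF_54 : BT := .node (.node (.node (.node (.node (.node (.node (.leaf 1073743630) (.leaf 353797965316)) (.node (.leaf 271119882762) (.leaf 163745697161))) (.node (.node (.leaf 51539645450) (.leaf 487478908428)) (.leaf 258771886733))) (.node (.node (.node (.leaf 27917294086) (.leaf 347355563279)) (.leaf 132607204870)) (.node (.node (.leaf 98247434241) (.leaf 44560288654)) (.leaf 171798807810)))) (.node (.node (.node (.node (.leaf 53687105025) (.leaf 377420368005)) (.node (.leaf 330712563594) (.leaf 250181881219))) (.node (.node (.leaf 153545128843) (.leaf 449361076097)) (.leaf 248571314572))) (.node (.node (.node (.leaf 28454185231) (.leaf 344134366862)) (.leaf 143881504005)) (.node (.node (.leaf 103079279363) (.leaf 118648522120)) (.leaf 46170909328))))) (.node (.node (.node (.node (.node (.leaf 5905588101) (.leaf 198642349064)) (.node (.leaf 117037935110) (.leaf 189515533827))) (.node (.node (.leaf 155155736205) (.leaf 223875291909)) (.leaf 164819481096))) (.node (.node (.node (.leaf 37580986253) (.leaf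 234075804941)) (.leaf 209916621447)) (.node (.node (.leaf 178778075280) (.leaf 97173648010)) (.leaf 403190134412)))) (.node (.node (.node (.node (.leaf 22011728132) (.leaf 292057846532)) (.node (.leaf 128312233486) (.leaf 359703598083))) (.node (.node (.leaf 91804978444) (.leaf 6979327874)) (.leaf 244813230092))) (.node (.node (.node (.leaf 35433512199) (.leaf 184683712896)) (.leaf 151397701510)) (.node (.node (.leaf 129922829060) (.leaf 141734014597)) (.leaf 11811194896)))))) (.node (.node (.node (.node (.node (.node (.leaf 2684359055) (.leaf 97710545808)) (.node (.leaf 252329370889) (.leaf 171261857547))) (.node (.node (.leaf 54760873475) (.leaf 345208117378)) (.leaf 221727796235))) (.node (.node (.node (.leaf 52613370635) (.leaf 331249422982)) (.leaf 136902175119)) (.node (.node (.leaf 98247437319) (.leaf 67645744399)) (.leaf 290984152331)))) (.node (.node (.node (.node (.leaf 12348047753) (.leaf 245350046350)) (.node (.leaf 323733243014) (.leaf 298500273032))) (.node (.node (.leaf 151934518797) (.leaf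 408022016392)) (.leaf 325343870215))) (.node (.node (.node (.leaf 49392153345) (.leaf 303332183809)) (.leaf 149250215689)) (.node (.node (.leaf 103079281292) (.leaf 130459676038)) (.leaf 37581056400))))) (.node (.node (.node (.node (.node (.leaf 7516203916) (.leaf 303332142344)) (.node (.leaf 210453475978) (.leaf 202937241483))) (.node (.node (.leaf 63887684103) (.leaf 234612710663)) (.leaf 367219772038))) (.node (.node (.node (.leaf 26306699789) (.leaf 262529985806)) (.leaf 175020014849)) (.node (.node (.leaf 163208819841) (.leaf 109521679754)) (.leaf 114890488976)))) (.node (.node (.node (.node (.leaf 80530656656) (.leaf 287226049288)) (.node (.leaf 129385977231) (.leaf 412316945666))) (.node (.node (.leaf 92878722311) (.leaf 16106130831)) (.leaf 372588503816))) (.node (.node (.node (.leaf 48855287940) (.leaf 187368068104)) (.leaf 151397701902)) (.node (.node (.leaf 224412111363) (.leaf 151397668231)) (.leaf 305479665156))))))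
def dF_55 : BT := .node dF_53 dF_54
def dF_56 : BT := .node (.node (.node (.node (.node (.node (.node (.leaf 3758097286) (.leaf 192736690308)) (.node (.leaf 111132350350) (.leaf 155692671620))) (.node (.node (.leaf 45634064649) (.leaf 504121906567)) (.leaf 263603724301))) (.node (.node (.node (.leaf 1073758992) (.leaf 336618145168)) (.node (.leaf 175020006147) (.leaf 490163233921))) (.node (.node (.leaf 95563079044) (.leaf 37580966538)) (.leaf 345208111887)))) (.node (.node (.node (.node (.leaf 12884915072) (.leaf 398358262928)) (.node (.leaf 120259164943) (.leaf 240518209410))) (.node (.node (.leaf 69793266053) (.leaf 248034483980)) (.leaf 392452738183))) (.node (.node (.node (.leaf 28454184970) (.leaf 226559583110)) (.leaf 199179207298)) (.node (.node (.leaf 100931795204) (.leaf 117037933829)) (.leaf 311385226508))))) (.node (.node (.node (.node (.node (.leaf 5368716428) (.leaf 236223302661)) (.node (.leaf 178241218571) (.leaf 185757394061))) (.node (.node (.leaf 153545123084) (.leaf 499290069507)) (.leaf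 163745738758))) (.node (.node (.node (.leaf 44560307973) (.leaf 486942026889)) (.leaf 138512789636)) (.node (.node (.leaf 215822163457) (.leaf 96099947009)) (.leaf 401042606217)))) (.node (.node (.node (.node (.leaf 19864243597) (.leaf 427349281550)) (.node (.leaf 217432804097) (.leaf 335007528065))) (.node (.node (.leaf 91268107274) (.leaf 5368716429)) (.leaf 226559628302))) (.node (.node (.node (.leaf 109521697161) (.leaf 397821464719)) (.leaf 150323959182)) (.node (.node (.leaf 107911121408) (.leaf 138512789640)) (.leaf 1610616848)))))) (.node (.node (.node (.node (.node (.node (.leaf 16106131206) (.leaf 201326677895)) (.node (.leaf 117037932673) (.leaf 170725006338))) (.node (.node (.leaf 119185382277) (.leaf 390305273858)) (.leaf 160524511372))) (.node (.node (.node (.leaf 30064778242) (.leaf 272193640970)) (.leaf 134217819528)) (.node (.node (.leaf 98247436548) (.leaf 59592673804)) (.leaf 277025507723)))) (.node (.node (.node (.node (.leaf 11811175942) (.leaf 362387913478)) (.node (.leaf 296352826253)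 (.leaf 292594710144))) (.node (.node (.leaf 119722263818) (.leaf 495531974916)) (.leaf 412853802512))) (.node (.node (.node (.leaf 46707798401) (.leaf 175556906625)) (.leaf 148713344270)) (.node (.node (.leaf 102542409990) (.leaf 128312192778)) (.leaf 26306742032))))) (.node (.node (.node (.node (.node (.leaf 6979332361) (.leaf 186294297092)) (.node (.leaf 120796032896) (.leaf 201326613389))) (.node (.node (.leaf 133144030981) (.leaf 462782848139)) (.leaf 275414823044))) (.node (.node (.node (.leaf 44560310531) (.leaf 402116349576)) (.leaf 388694637323)) (.node (.node (.leaf 99858051592) (.leaf 103079251724)) (.leaf 179851844744)))) (.node (.node (.node (.node (.leaf 30601649411) (.leaf 381715274764)) (.node (.leaf 129385976583) (.leaf 395673904001))) (.node (.node (.leaf 92878721792) (.leaf 12348041867)) (.leaf 258771882248))) (.node (.node (.node (.leaf 41339094665) (.leaf 297963475712)) (.leaf 170725039877)) (.node (.node (.leaf 287762878597) (.leaf 150323910921)) (.leaf 224412159120))))))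
def dF_57 : BT := .node (.node (.node (.node (.node (.node (.node (.leaf 5368711691) (.leaf 224949021953)) (.node (.leaf 117037931648) (.leaf 165893165441))) (.node (.node (.leaf 55297742597) (.leaf 365609211528)) (.leaf 365609166211))) (.node (.node (.node (.leaf 29527916812) (.leaf 276488585088)) (.leaf 143881494656)) (.node (.node (.leaf 139586495116) (.leaf 54223985415)) (.leaf 302795310607)))) (.node (.node (.node (.node (.leaf 11274303744) (.leaf 61740238480)) (.node (.leaf 125091004676) (.leaf 263603671427))) (.node (.node (.leaf 75161976718) (.leaf 275414900739)) (.leaf 441307928711))) (.node (.node (.node (.leaf 58518957070) (.leaf 212064054277)) (.leaf 144418375439)) (.node (.node (.leaf 228170202243) (.leaf 120259164815)) (.leaf 32212336400))))) (.node (.node (.node (.node (.node (.leaf 8053072387) (.leaf 245350051085)) (.node (.leaf 117037935500) (.leaf 193810492811))) (.node (.node (.leaf 59055843589) (.leaf 501974424455)) (.leaf 165356352516))) (.node (.node (.node (.leaf 91268078345) (.leaf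 462782844297)) (.leaf 139049661966)) (.node (.node (.leaf 223875228160) (.leaf 99858032007)) (.leaf 181462411151)))) (.node (.node (.node (.node (.leaf 23085451139) (.leaf 293131615498)) (.node (.leaf 216895934349) (.leaf 363461650312))) (.node (.node (.leaf 216895901573) (.leaf 9126805770)) (.leaf 250181957899))) (.node (.node (.node (.leaf 39728480514) (.leaf 347892470283)) (.leaf 409095683337)) (.node (.node (.leaf 130996571400) (.leaf 143881488772)) (.leaf 219580241674)))))) (.node (.node (.node (.node (.node (.node (.leaf 4831843718) (.leaf 432181164033)) (.node (.leaf 117037933571) (.leaf 178241217803))) (.node (.node (.leaf 56371486991) (.leaf 466004072712)) (.leaf 223875280139))) (.node (.node (.node (.leaf 22548599948) (.leaf 272193609733)) (.leaf 137975917700)) (.node (.node (.leaf 105226759816) (.leaf 88583724297)) (.leaf 175020035589)))) (.node (.node (.node (.node (.leaf 13958661391) (.leaf 28991106064)) (.node (.leaf 184683677195) (.leaf 310848311183))) (.node (.node (.leaf 100931782922) (.leaf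 411243241989)) (.leaf 165893224335))) (.node (.node (.node (.leaf 35970381185) (.leaf 284541702028)) (.leaf 189515534466)) (.node (.node (.leaf 280246683274) (.leaf 132607200519)) (.leaf 9126843920))))) (.node (.node (.node (.node (.node (.leaf 8053075471) (.leaf 357556117008)) (.node (.leaf 119185421710) (.leaf 215822129422))) (.node (.node (.leaf 67645781253) (.leaf 359703633289)) (.leaf 427886197389))) (.node (.node (.node (.leaf 42949689096) (.leaf 443455464451)) (.leaf 193273626507)) (.node (.node (.leaf 186294269698) (.leaf 114353532166)) (.leaf 261456241933)))) (.node (.node (.node (.node (.leaf 55297706380) (.leaf 472983329671)) (.node (.leaf 190052390916) (.leaf 430570558723))) (.node (.node (.leaf 163745683083) (.leaf 25232934278)) (.leaf 359166754573))) (.node (.node (.node (.leaf 43486579587) (.leaf 235149579405)) (.leaf 153008315407)) (.node (.node (.leaf 111132349699) (.leaf 153008273167)) (.leaf 236223240586))))))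
def dF_58 : BT := .node dF_56 dF_57
def dF_59 : BT := .node dF_55 dF_58
def dF_60 : BT := .node dF_52 dF_59
def dF_61 : BT := .node dF_45 dF_60
def dF_62 : BT := .node dF_30 dF_61
def dF_63 : BT := .node (.node (.node (.node (.node (.node (.node (.leaf 2) (.leaf 215822222608)) (.node (.leaf 111132349958) (.leaf 153545144836))) (.node (.node (.leaf 43486579846) (.leaf 235686450314)) (.leaf 153545186435))) (.node (.node (.node (.leaf 25232934531) (.leaf 472983332740)) (.node (.leaf 130459719822) (.leaf 430570514696))) (.node (.node (.leaf 93952464650) (.leaf 26306697864)) (.leaf 327491370889)))) (.node (.node (.node (.node (.leaf 9663688204) (.leaf 357556125698)) (.node (.leaf 252866278788) (.leaf 221727745163))) (.node (.node (.leaf 67645781382) (.leaf 304942800389)) (.leaf 212064038537))) (.node (.node (.node (.leaf 35970376841) (.leaf 443455455625)) (.leaf 375809736706)) (.node (.node (.leaf 100394923789) (.leaf 114353546890)) (.leaf 319438240784))))) (.node (.node (.node (.node (.node (.leaf 4831843848)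 (.leaf 432181147912)) (.node (.leaf 168577541255) (.leaf 178778056078))) (.node (.node (.leaf 57445228931) (.leaf 505195649292)) (.leaf 165893221632))) (.node (.node (.node (.leaf 41339081859) (.leaf 272193622790)) (.leaf 139049659520)) (.node (.node (.leaf 98247438095) (.leaf 89657470208)) (.leaf 293131636235)))) (.node (.node (.node (.node (.leaf 17716757898) (.leaf 449360990222)) (.node (.leaf 126701618826) (.leaf 314606381839))) (.node (.node (.leaf 89657493893) (.leaf 500900684296)) (.leaf 166430095366))) (.node (.node (.node (.leaf 121869727110) (.leaf 289373540226)) (.leaf 180388728972)) (.node (.node (.leaf 125627860874) (.leaf 133144073345)) (.leaf 47781528848)))))) (.node (.node (.node (.node (.node (.node (.leaf 5905582731) (.leaf 224948974726)) (.node (.leaf 176630603019) (.leaf 165893189897))) (.node (.node (.leaf 102542382857) (.leaf 402116433666)) (.leaf 155692671749))) (.node (.node (.node (.leaf 66035134864) (.leaf 275951754638)) (.leaf 133144076552)) (.node (.node (.leaf 97173693187) (.leaf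 54760839936)) (.leaf 170188195464)))) (.node (.node (.node (.node (.leaf 61203298688) (.leaf 300110881674)) (.node (.leaf 293131600140) (.leaf 263603704077))) (.node (.node (.leaf 77846331535) (.leaf 515396198407)) (.leaf 441307935245))) (.node (.node (.node (.leaf 44560313481) (.leaf 210453440517)) (.leaf 144955246479)) (.node (.node (.leaf 101468667144) (.leaf 120795994882)) (.leaf 124017181968))))) (.node (.node (.node (.node (.node (.leaf 5905588877) (.leaf 170188152208)) (.node (.leaf 124017257480) (.leaf 194884237195))) (.node (.node (.leaf 59055843719) (.leaf 367219825548)) (.leaf 237833925643))) (.node (.node (.node (.leaf 25232956296) (.leaf 381715305488)) (.leaf 139586533129)) (.node (.node (.leaf 221727709826) (.leaf 99858017546)) (.leaf 398895182608)))) (.node (.node (.node (.node (.leaf 23085450637) (.leaf 363461710094)) (.node (.leaf 235686416258) (.leaf 367219789067))) (.node (.node (.leaf 129385943053) (.leaf 10200553611)) (.leaf 166430095759))) (.node (.node (.node (.leaf 39728480645) (.leaf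 418759430670)) (.leaf 343597433864)) (.node (.node (.leaf 146565827968) (.leaf 144418371716)) (.leaf 22548631056))))))
def dF_64 : BT := .node (.node (.node (.node (.node (.node (.node (.leaf 2147484683) (.leaf 192736690191)) (.node (.leaf 299574040458) (.leaf 155692601223))) (.node (.node (.leaf 115964154125) (.leaf 275414898060)) (.leaf 154082058376))) (.node (.node (.node (.leaf 52613363984) (.leaf 336618105866)) (.node (.leaf 134217816836) (.leaf 496068816514))) (.node (.node (.leaf 96636820864) (.leaf 39728463621)) (.leaf 346818724614)))) (.node (.node (.node (.node (.leaf 25769817099) (.leaf 392452670734)) (.node (.leaf 120796035982) (.leaf 240518255623))) (.node (.node (.leaf 119722260876) (.leaf 438086786818)) (.leaf 396747637904))) (.node (.node (.node (.leaf 111669176322) (.leaf 461709096583)) (.leaf 333396935309)) (.node (.node (.leaf 226559588610) (.leaf 117037871368)) (.leaf 117037886864))))) (.node (.node (.node (.node (.node (.leaf 5368716557) (.leaf 359703597572)) (.node (.leaf 115427321992)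 (.leaf 186831163787))) (.node (.node (.leaf 58518971779) (.leaf 222264679049)) (.leaf 191126155277))) (.node (.node (.node (.leaf 35970373389) (.leaf 234075827338)) (.leaf 299574063238)) (.node (.node (.leaf 164819394054) (.leaf 96099946126)) (.leaf 404263876354)))) (.node (.node (.node (.node (.leaf 19864243854) (.leaf 324806946832)) (.node (.leaf 352187403137) (.leaf 337691874700))) (.node (.node (.leaf 146565811330) (.leaf 5905585284)) (.leaf 449897927689))) (.node (.node (.node (.leaf 37580995080) (.leaf 180388745478)) (.leaf 150323959311)) (.node (.node (.leaf 107911121537) (.leaf 138512741518)) (.leaf 5008)))))) (.node (.node (.node (.node (.node (.node (.leaf 14495518479) (.leaf 201326632847)) (.node (.leaf 306016493824) (.leaf 170725024133))) (.node (.node (.leaf 54224002060) (.leaf 228707129354)) (.leaf 161061382671))) (.node (.node (.node (.leaf 37580984960) (.leaf 488552609792)) (.leaf 134754690694)) (.node (.node (.leaf 96636823950) (.leaf 61740169094)) (.leaf 171798809231)))) (.node (.node (.node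 (.node (.leaf 11811176072) (.leaf 362387906313)) (.node (.leaf 333933790085) (.leaf 293131564034))) (.node (.node (.leaf 181462418702) (.leaf 432181207303)) (.leaf 395673956624))) (.node (.node (.node (.leaf 30601671050) (.leaf 215285354120)) (.leaf 148713344399)) (.node (.node (.leaf 102005539214) (.leaf 128849067008)) (.leaf 280246629520))))) (.node (.node (.node (.node (.node (.leaf 7516203399) (.leaf 186294237575)) (.node (.leaf 179851833355) (.leaf 201863490694))) (.node (.node (.leaf 63350812559) (.leaf 227633388687)) (.leaf 216895937929))) (.node (.node (.node (.leaf 25232957706) (.leaf 402116358669)) (.leaf 141734018060)) (.node (.node (.leaf 102542406400) (.leaf 104153004937)) (.leaf 326417543056)))) (.node (.node (.node (.node (.leaf 59592685571) (.leaf 229780806277)) (.node (.leaf 293131604739) (.leaf 397821389063))) (.node (.node (.leaf 92878721921) (.leaf 12348041615)) (.leaf 449361054728))) (.node (.node (.node (.leaf 40265352975) (.leaf 296889733893)) (.leaf 274341104264)) (.node (.node (.leaf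 110595477764) (.leaf 150323898253)) (.leaf 229780789386))))))
def dF_65 : BT := .node dF_63 dF_64
def dF_66 : BT := .node (.node (.node (.node (.node (.node (.node (.leaf 2147484165) (.leaf 216895965584)) (.node (.leaf 298500297985) (.leaf 154081988751))) (.node (.node (.leaf 44023451264) (.leaf 372588533003)) (.leaf 252329434636))) (.node (.node (.node (.leaf 77846301072) (.leaf 472446470920)) (.node (.leaf 132070333060) (.leaf 461709041027))) (.node (.node (.leaf 97710562048) (.leaf 30601643276)) (.leaf 418759426441)))) (.node (.node (.node (.node (.leaf 10200560004) (.leaf 380104696464)) (.node (.leaf 181462448395) (.leaf 235149498887))) (.node (.node (.leaf 118111647757) (.leaf 511101230722)) (.leaf 250181901962))) (.node (.node (.node (.leaf 27917313421) (.leaf 239444474756)) (.leaf 296352842245)) (.node (.node (.leaf 132607162498) (.leaf 115427273358)) (.leaf 202937252879))))) (.node (.node (.node (.node (.node (.leaf 5368715781) (.leaf 95563062800)) (.node (.leaf 178241218190) (.leaf 181999343629)))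 (.node (.node (.leaf 110058578571) (.leaf 433791818118)) (.leaf 189515542157))) (.node (.node (.node (.leaf 54760854921) (.leaf 364535381120)) (.leaf 137975918348)) (.node (.node (.leaf 258234970501) (.leaf 95026203139)) (.leaf 390842056837)))) (.node (.node (.node (.node (.leaf 75698817295) (.leaf 326954435595)) (.node (.leaf 127775361418) (.leaf 330712527112))) (.node (.node (.leaf 90194365324) (.leaf 2147485833)) (.leaf 285615404944))) (.node (.node (.node (.leaf 123480340103) (.leaf 243202641934)) (.leaf 151934571266)) (.node (.node (.leaf 284004780166) (.leaf 137439016578)) (.leaf 75161976976)))))) (.node (.node (.node (.node (.node (.node (.leaf 14495518084) (.leaf 304942762766)) (.node (.leaf 251792531211) (.leaf 167503827589))) (.node (.node (.leaf 54224001408) (.leaf 344671246211)) (.leaf 321048913165))) (.node (.node (.node (.leaf 59055821198) (.leaf 271119875713)) (.leaf 271119901452)) (.node (.node (.leaf 96099952143) (.leaf 58518953230)) (.leaf 377957238916)))) (.node (.node (.node (.node (.leaf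 12884917250) (.leaf 346281794950)) (.node (.leaf 294742213132) (.leaf 272730510210))) (.node (.node (.leaf 149250163724) (.leaf 515396198541)) (.leaf 402653262085))) (.node (.node (.node (.leaf 29527928579) (.leaf 357019241738)) (.leaf 247497591565)) (.node (.node (.leaf 178778079105) (.leaf 126701615497)) (.leaf 332323173904))))) (.node (.node (.node (.node (.node (.leaf 11811169806) (.leaf 264677429381)) (.node (.leaf 119722290561) (.leaf 199179155470))) (.node (.node (.leaf 63350811904) (.leaf 367756696588)) (.leaf 170725036552))) (.node (.node (.node (.leaf 24159215367) (.leaf 343060544520)) (.leaf 140660275598)) (.node (.node (.leaf 142807710208) (.leaf 101468667535)) (.leaf 337691883265)))) (.node (.node (.node (.node (.leaf 55834577794) (.leaf 345744978951)) (.node (.leaf 200789807623) (.leaf 381178411521))) (.node (.node (.leaf 92341850506) (.leaf 11274297743)) (.leaf 332860078853))) (.node (.node (.node (.leaf 141733954688) (.leaf 497142583948)) (.leaf 292057811720)) (.node (.node (.leaf 110595477376)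 (.leaf 149250183177)) (.leaf 224949022096))))))
def dF_67 : BT := .node (.node (.node (.node (.node (.node (.node (.leaf 536872973) (.leaf 353797975303)) (.node (.leaf 113279834889) (.leaf 164819426315))) (.node (.node (.leaf 51539645580) (.leaf 501437552137)) (.leaf 154618929798))) (.node (.node (.node (.leaf 66572005776) (.leaf 333933784591)) (.leaf 372588502529)) (.node (.node (.leaf 236223258752) (.leaf 46707772430)) (.leaf 170188195203)))) (.node (.node (.node (.node (.leaf 10737432200) (.leaf 374199115024)) (.node (.leaf 212064092034) (.leaf 253403157504))) (.node (.node (.leaf 154081999883) (.leaf 382789083011)) (.leaf 371514710793))) (.node (.node (.node (.leaf 28991056385) (.leaf 402116425348)) (.leaf 167503824131)) (.node (.node (.leaf 215822170890) (.leaf 118648549519)) (.leaf 52613458576))))) (.node (.node (.node (.node (.node (.leaf 6979329933) (.leaf 431107399056)) (.node (.leaf 168577542787) (.leaf 190052333445))) (.node (.node (.leaf 120259126920) (.leaf 243202644737)) (.leaf 234612699787)))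 (.node (.node (.node (.leaf 46170920964) (.leaf 234075811591)) (.leaf 138512790286)) (.node (.node (.leaf 177704333712) (.leaf 97173640719)) (.leaf 199179210624)))) (.node (.node (.node (.node (.leaf 25232953607) (.leaf 343060571918)) (.node (.leaf 128312233615) (.leaf 359703551878))) (.node (.node (.leaf 91804978703) (.leaf 6979327365)) (.leaf 241592023181))) (.node (.node (.node (.leaf 37580995977) (.leaf 347355599243)) (.leaf 337691907980)) (.node (.node (.leaf 107911121797) (.leaf 141734013711)) (.leaf 40265418640)))))) (.node (.node (.node (.node (.node (.node (.leaf 3221230222) (.leaf 255013727490)) (.node (.leaf 114353578504) (.leaf 173409387145))) (.node (.node (.leaf 54760873605) (.leaf 226559645834)) (.leaf 333396945924))) (.node (.node (.node (.leaf 24159212426) (.leaf 331249417610)) (.leaf 137439046281)) (.node (.node (.leaf 98784308358) (.leaf 69793254795)) (.leaf 199716097411)))) (.node (.node (.node (.node (.leaf 12884918790) (.leaf 221727709582)) (.node (.leaf 324270114053) (.leaf 299574010755)))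 (.node (.node (.leaf 88583751306) (.leaf 393526501773)) (.leaf 325343851405))) (.node (.node (.node (.leaf 32212284173) (.leaf 296352861962)) (.leaf 151397699457)) (.node (.node (.leaf 171261887243) (.leaf 130996561152)) (.leaf 37581056272))))) (.node (.node (.node (.node (.node (.leaf 8053074826) (.leaf 303332165133)) (.node (.leaf 326417593088) (.leaf 202937252878))) (.node (.node (.leaf 65498297103) (.leaf 234612710784)) (.leaf 198105402504))) (.node (.node (.node (.leaf 26306700046) (.leaf 361851104904)) (.leaf 142270889349)) (.node (.node (.leaf 100394923268) (.leaf 110595467143)) (.leaf 258771868809)))) (.node (.node (.node (.node (.leaf 86436224784) (.leaf 381715329802)) (.node (.leaf 129922848264) (.leaf 418759384073))) (.node (.node (.leaf 92878722442) (.leaf 18253611662)) (.leaf 228707107465))) (.node (.node (.node (.leaf 42412837004) (.leaf 382252209162)) (.leaf 439160510858)) (.node (.node (.leaf 110595478154) (.leaf 151934569985)) (.leaf 309774629384))))))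
def dF_68 : BT := .node dF_66 dF_67
def dF_69 : BT := .node dF_65 dF_68
def dF_70 : BT := .node (.node (.node (.node (.node (.node (.node (.leaf 1610613124) (.leaf 277562327824)) (.node (.leaf 173946246787) (.leaf 153545105295))) (.node (.node (.leaf 43486580110) (.leaf 315143345285)) (.leaf 154618928384))) (.node (.node (.node (.leaf 49392136080) (.leaf 212064053646)) (.node (.leaf 293668477451) (.leaf 438086710401))) (.node (.node (.leaf 95026206981) (.leaf 28991057167)) (.leaf 264140603531)))) (.node (.node (.node (.node (.leaf 20937977864) (.leaf 194884225040)) (.node (.leaf 119722292999) (.leaf 225485857154))) (.node (.node (.leaf 140660225551) (.leaf 504658779663)) (.leaf 249108142604))) (.node (.node (.node (.leaf 34896635144) (.leaf 268435538313)) (.leaf 391378993289)) (.node (.node (.leaf 134217761794) (.leaf 114890450190)) (.leaf 177704314511))))) (.node (.node (.node (.node (.node (.leaf 4831844494) (.leaf 250181880718)) (.node (.leaf 258771854602) (.leaf 181462396427))) (.node (.node (.leaf 162135056897)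 (.leaf 345744988546)) (.leaf 226559634955))) (.node (.node (.node (.leaf 42412823810) (.leaf 389768316040)) (.leaf 139586530560)) (.node (.node (.leaf 99858051202) (.leaf 91268067722)) (.leaf 393526412292)))) (.node (.node (.node (.node (.leaf 16106145804) (.leaf 314606381838)) (.node (.leaf 127775361029) (.leaf 327491328521))) (.node (.node (.leaf 90731235976) (.leaf 911)) (.leaf 296352842249))) (.node (.node (.node (.leaf 126701565442) (.leaf 221727805445)) (.leaf 149787087369)) (.node (.node (.leaf 283467909126) (.leaf 133680948367)) (.leaf 1610662160)))))) (.node (.node (.node (.node (.node (.node (.leaf 2684357641) (.leaf 310848311182)) (.node (.leaf 113816706567) (.leaf 166430085772))) (.node (.node (.leaf 63350806541) (.leaf 408022013707)) (.leaf 155692672006))) (.node (.node (.node (.leaf 35433493897) (.leaf 285615370254)) (.leaf 286689157642)) (.node (.node (.leaf 96099951884) (.leaf 55297728783)) (.leaf 170188195725)))) (.node (.node (.node (.node (.leaf 12348045955) (.leaf 284541627400)) (.node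 (.leaf 293668471181) (.leaf 267361817225))) (.node (.node (.leaf 87510008704) (.leaf 275414900750)) (.leaf 367756662404))) (.node (.node (.node (.leaf 52613377417) (.leaf 395137075470)) (.leaf 421443766794)) (.node (.node (.leaf 103079280261) (.leaf 122943453066)) (.leaf 439697287312))))) (.node (.node (.node (.node (.node (.leaf 6442460163) (.leaf 265214267022)) (.node (.leaf 227633343744) (.leaf 198642298245))) (.node (.node (.leaf 125090966411) (.leaf 223875292169)) (.leaf 241592022411))) (.node (.node (.node (.leaf 24159214848) (.leaf 365072277511)) (.leaf 403190151178)) (.node (.node (.leaf 253403100930) (.leaf 100394902671)) (.leaf 297963392262)))) (.node (.node (.node (.node (.leaf 61203298832) (.leaf 318364561798)) (.node (.leaf 186831163662) (.leaf 372588471561))) (.node (.node (.leaf 108984848650) (.leaf 11274301696)) (.leaf 185757448835))) (.node (.node (.node (.leaf 41339093768) (.leaf 184683713159)) (.leaf 328565076993)) (.node (.node (.leaf 109521735053) (.leaf 148713278853)) (.leaf 57445305616))))))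
def dF_71 : BT := .node (.node (.node (.node (.node (.node (.node (.leaf 536872582) (.leaf 187904850304)) (.node (.leaf 176093731211) (.leaf 163208815744))) (.node (.node (.leaf 71403868939) (.leaf 489089521159)) (.leaf 201863569931))) (.node (.node (.node (.leaf 68182622224) (.leaf 175556824196)) (.leaf 132607204740)) (.node (.node (.leaf 235149516672) (.leaf 42412818184)) (.leaf 171261936770)))) (.node (.node (.node (.node (.leaf 53150233985) (.leaf 382789077120)) (.node (.leaf 340376239754) (.leaf 245886962059))) (.node (.node (.leaf 121332873868) (.leaf 495531974411)) (.leaf 248571300354))) (.node (.node (.node (.leaf 112206047362) (.leaf 344134366863)) (.leaf 333396935687)) (.node (.node (.leaf 102542408322) (.leaf 118111645704)) (.leaf 12348079632))))) (.node (.node (.node (.node (.node (.leaf 10737425931) (.leaf 240518284432)) (.node (.leaf 150860802440) (.leaf 187904863630))) (.node (.node (.leaf 154618865164) (.leaf 327491377794)) (.leaf 460098482563))) (.node (.node (.node (.leaf 45634049925) (.leaf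 234075819011)) (.leaf 138512790156)) (.node (.node (.leaf 113279815810) (.leaf 97173686529)) (.leaf 415001311120)))) (.node (.node (.node (.node (.leaf 33286017155) (.leaf 409095705220)) (.node (.leaf 128312233225) (.leaf 347892397448))) (.node (.node (.leaf 91268107405) (.leaf 6442456323)) (.leaf 244813230720))) (.node (.node (.node (.leaf 35433511938) (.leaf 244813254927)) (.leaf 297426589322)) (.node (.node (.leaf 139586505473) (.leaf 140123317646)) (.leaf 6442486288)))))) (.node (.node (.node (.node (.node (.node (.leaf 18253615362) (.leaf 256087485456)) (.node (.leaf 215285309830) (.leaf 171261878274))) (.node (.node (.leaf 99858029835) (.leaf 344134375429)) (.leaf 163208866816))) (.node (.node (.node (.leaf 45634048652) (.leaf 331249455745)) (.leaf 135291561999)) (.node (.node (.leaf 166966913934) (.leaf 63887664271)) (.leaf 285078572043)))) (.node (.node (.node (.node (.leaf 11811176461) (.leaf 253403183233)) (.node (.leaf 125627876485) (.leaf 297426527114))) (.node (.node (.leaf 87510009358) (.leaf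 318364574082)) (.leaf 425201844609))) (.node (.node (.node (.leaf 122943468162) (.leaf 395137109637)) (.leaf 149250215428)) (.node (.node (.leaf 170725016075) (.leaf 129922791936)) (.leaf 105226723984))))) (.node (.node (.node (.node (.node (.leaf 44560296586) (.leaf 245886962320)) (.node (.leaf 120259162368) (.leaf 202400408845))) (.node (.node (.leaf 133144031499) (.leaf 270583061775)) (.leaf 367219773568))) (.node (.node (.node (.leaf 45634052611) (.leaf 490163228681)) (.leaf 141734018191)) (.node (.node (.leaf 214748427146) (.leaf 107911116423)) (.leaf 315143322886)))) (.node (.node (.node (.node (.leaf 48318394000) (.leaf 302795305603)) (.node (.leaf 187368035470) (.leaf 409095710087))) (.node (.node (.leaf 92878722180) (.leaf 14495515020)) (.leaf 384936528004))) (.node (.node (.node (.leaf 40802224013) (.leaf 286152315788)) (.leaf 360777331331)) (.node (.node (.leaf 284004782602) (.leaf 150860830735)) (.leaf 229243918478))))))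
def dF_72 : BT := .node dF_70 dF_71
def dF_73 : BT := .node (.node (.node (.node (.node (.node (.node (.leaf 781) (.leaf 215285350928)) (.node (.leaf 284004783880) (.leaf 155155730319))) (.node (.node (.leaf 44023451783) (.leaf 191126164740)) (.leaf 154082058241))) (.node (.node (.node (.leaf 4240) (.leaf 297426512008)) (.node (.leaf 133680945799) (.leaf 472983324940))) (.node (.node (.leaf 95026207887) (.leaf 33286003847)) (.leaf 238370800271)))) (.node (.node (.node (.node (.leaf 10200560264) (.leaf 193273559174)) (.node (.leaf 120259164814) (.leaf 236223288333))) (.node (.node (.leaf 69793265923) (.leaf 501437554317)) (.leaf 397284568464))) (.node (.node (.node (.leaf 27917313679) (.leaf 268435572618)) (.leaf 143344632454)) (.node (.node (.leaf 100931795073) (.leaf 117037910144)) (.leaf 311385227011))))) (.node (.node (.node (.node (.node (.leaf 5368716169) (.leaf 235149538180)) (.node (.leaf 117037934468) (.leaf 185757431685))) (.node (.node (.leaf 153008252045) (.leaf 462245976583)) (.leaf 163745738628)))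 (.node (.node (.node (.leaf 23085471498) (.leaf 364535413772)) (.leaf 393526472586)) (.node (.node (.leaf 236760112899) (.leaf 95563069704)) (.leaf 39728493840)))) (.node (.node (.node (.node (.leaf 18253630478) (.leaf 427349293576)) (.node (.leaf 128312232706) (.leaf 333933803650))) (.node (.node (.leaf 98247429000) (.leaf 3758096398)) (.leaf 211527228552))) (.node (.node (.node (.leaf 34896640133) (.leaf 195421130883)) (.leaf 150323959050)) (.node (.node (.leaf 284541651206) (.leaf 137975870341)) (.leaf 13958645520)))))) (.node (.node (.node (.node (.node (.node (.leaf 3758100106) (.leaf 102542450448)) (.node (.leaf 153545154570) (.leaf 170188158089))) (.node (.node (.leaf 54224001796) (.leaf 394063370127)) (.leaf 205621667720))) (.node (.node (.node (.leaf 46707790343) (.leaf 472983389840)) (.leaf 134754690181)) (.node (.node (.leaf 96636823690) (.leaf 59055821199)) (.leaf 376883497225)))) (.node (.node (.node (.node (.leaf 11274304783) (.leaf 366145992846)) (.node (.leaf 173409387273) (.leaf 282931050890)))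 (.node (.node (.leaf 180925547662) (.leaf 291521028362)) (.leaf 412316923396))) (.node (.node (.node (.leaf 87509987466) (.leaf 357019244046)) (.leaf 403190156419)) (.node (.node (.leaf 102005538953) (.leaf 128312195843)) (.leaf 255550567056))))) (.node (.node (.node (.node (.node (.leaf 9126815621) (.leaf 361851100548)) (.node (.leaf 142807739916) (.leaf 200789784331))) (.node (.node (.leaf 63350812292) (.leaf 229780872322)) (.leaf 440771114758))) (.node (.node (.node (.leaf 24159215759) (.leaf 418222495239)) (.leaf 187368045191)) (.node (.node (.leaf 242665705222) (.leaf 103079229056)) (.leaf 435402345104)))) (.node (.node (.node (.node (.leaf 33286003975) (.leaf 210453440516)) (.node (.leaf 250181931649) (.leaf 392452684167))) (.node (.node (.leaf 130996556300) (.leaf 11811169807)) (.leaf 170188192897))) (.node (.node (.node (.leaf 40265352710) (.leaf 392452756225)) (.leaf 376346599046)) (.node (.node (.leaf 137975894018) (.leaf 150323891585)) (.leaf 225485805070))))))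
def dF_74 : BT := .node (.node (.node (.node (.node (.node (.node (.leaf 1073744139) (.leaf 225485805952)) (.node (.leaf 128849091591) (.leaf 165356292363))) (.node (.node (.leaf 53150258956) (.leaf 239444547202)) (.leaf 188978636808))) (.node (.node (.node (.leaf 44023429001) (.leaf 263603723657)) (.leaf 132607205391)) (.node (.node (.leaf 96099951236) (.leaf 53150242059)) (.leaf 170188195335)))) (.node (.node (.node (.node (.leaf 10737432589) (.leaf 28454230288)) (.node (.leaf 292057858061) (.leaf 262529929606))) (.node (.node (.leaf 201863511300) (.leaf 504658780043)) (.leaf 383862729104))) (.node (.node (.node (.leaf 114353531781) (.leaf 282931014670)) (.leaf 143881504265)) (.node (.node (.leaf 101468667015) (.leaf 119722281480)) (.leaf 44023522576))))) (.node (.node (.node (.node (.node (.leaf 7516201346) (.leaf 245350086277)) (.node (.leaf 213674699529) (.leaf 193273622155))) (.node (.node (.leaf 118648514571) (.leaf 390305274630)) (.leaf 235686441739))) (.node (.node (.node (.leaf 23622343173) (.leaf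 466004049670)) (.leaf 143344629006)) (.node (.node (.leaf 165356283139) (.leaf 98247437326)) (.leaf 181462426242)))) (.node (.node (.node (.node (.leaf 52613352333) (.leaf 318364494725)) (.node (.leaf 309237731079) (.leaf 360777330818))) (.node (.node (.leaf 92341849986) (.leaf 8053068934)) (.leaf 335007561984))) (.node (.node (.node (.leaf 38117867407) (.leaf 184683713025)) (.leaf 202937309321)) (.node (.node (.leaf 137439022082) (.leaf 142807733768)) (.leaf 195421045519)))))) (.node (.node (.node (.node (.node (.node (.leaf 4831843458) (.leaf 332323134224)) (.node (.leaf 154082026378) (.leaf 176630554624))) (.node (.node (.leaf 54760873869) (.leaf 216359098626)) (.leaf 333396946048))) (.node (.node (.node (.leaf 24696083461) (.leaf 272193609100)) (.leaf 137439046540)) (.node (.node (.leaf 98247437706) (.leaf 87510001540)) (.leaf 379030942736)))) (.node (.node (.node (.node (.leaf 13421790221) (.leaf 429496777224)) (.node (.leaf 283467924872) (.leaf 310848298756))) (.node (.node (.leaf 214748416128) (.leaf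 517006811649)) (.leaf 345744941573))) (.node (.node (.node (.leaf 33286026505) (.leaf 175556906889)) (.leaf 428959961098)) (.node (.node (.leaf 104689894670) (.leaf 132070331269)) (.leaf 231391368592))))) (.node (.node (.node (.node (.node (.leaf 17716751624) (.leaf 365609181328)) (.node (.leaf 120259163139) (.leaf 215285283597))) (.node (.node (.leaf 67645781122) (.leaf 490163264908)) (.leaf 427886152966))) (.node (.node (.node (.leaf 67108873616) (.leaf 382789051398)) (.leaf 408021991168)) (.node (.node (.leaf 100394923528) (.leaf 113279775488)) (.leaf 261993019024)))) (.node (.node (.node (.node (.leaf 55297717264) (.leaf 381715275782)) (.node (.leaf 130996590471) (.leaf 428959960586))) (.node (.node (.leaf 93952464393) (.leaf 23085471631)) (.leaf 261993119371))) (.node (.node (.node (.leaf 69256382987) (.leaf 190589293574)) (.leaf 368293550978)) (.node (.node (.leaf 175019987851) (.leaf 151934482189)) (.leaf 236223257744))))))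
def dF_75 : BT := .node dF_73 dF_74
def dF_76 : BT := .node dF_72 dF_75
def dF_77 : BT := .node dF_69 dF_76
def dF_78 : BT := .node (.node (.node (.node (.node (.node (.node (.leaf 265) (.leaf 24159257616)) (.node (.leaf 173409375884) (.leaf 153545121674))) (.node (.node (.leaf 122943474953) (.leaf 467077813391)) (.leaf 165356346508))) (.node (.node (.node (.leaf 53687106704) (.leaf 248034404738)) (.node (.leaf 131533461903) (.leaf 432181143818))) (.node (.node (.leaf 94489335823) (.leaf 28454166284)) (.leaf 263603732491)))) (.node (.node (.node (.node (.leaf 47244652298) (.leaf 357556059015)) (.node (.leaf 180925576715) (.leaf 222801469185))) (.node (.node (.leaf 67645781516) (.leaf 412316982793)) (.leaf 249108214529))) (.node (.node (.node (.leaf 40802215168) (.leaf 268435547138)) (.leaf 327491354637)) (.node (.node (.leaf 187904855683) (.leaf 114353531791)) (.leaf 448824119440))))) (.node (.node (.node (.node (.node (.leaf 10200553230) (.leaf 250181880719)) (.node (.leaf 201863537804) (.leaf 179851798798)))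 (.node (.node (.leaf 107374223755) (.leaf 466540943622)) (.leaf 289910402441))) (.node (.node (.node (.leaf 41339081863) (.leaf 272193609101)) (.leaf 137975917831)) (.node (.node (.leaf 98784309134) (.leaf 90194325902)) (.leaf 294742248961)))) (.node (.node (.node (.node (.leaf 15032403597) (.leaf 314606399497)) (.node (.leaf 301721536268) (.leaf 318364528776))) (.node (.node (.leaf 89657494023) (.leaf 408022016527)) (.leaf 465467160589))) (.node (.node (.node (.leaf 61740184974) (.leaf 294742249352)) (.leaf 292057878790)) (.node (.node (.leaf 283467909120) (.leaf 133680944001)) (.leaf 52076490768)))))) (.node (.node (.node (.node (.node (.node (.leaf 1073744774) (.leaf 310848375049)) (.node (.leaf 113816706437) (.leaf 165893170319))) (.node (.node (.leaf 91804964747) (.leaf 462782846726)) (.leaf 156229542789))) (.node (.node (.node (.leaf 22548579842) (.leaf 359703596943)) (.leaf 134754689538)) (.node (.node (.leaf 96099951754) (.leaf 54760854793)) (.leaf 170188195724)))) (.node (.node (.node (.node (.leaf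 33822882315) (.leaf 349502993678)) (.node (.leaf 125091004806) (.leaf 265214316806))) (.node (.node (.leaf 82141299215) (.leaf 375272890378)) (.leaf 375809726472))) (.node (.node (.node (.leaf 28991057166) (.leaf 316753886339)) (.leaf 146565859338)) (.node (.node (.leaf 102542409221) (.leaf 120795969290)) (.leaf 59055851024))))) (.node (.node (.node (.node (.node (.leaf 35970360074) (.leaf 478888881296)) (.node (.leaf 118111677699) (.leaf 197568543118))) (.node (.node (.leaf 60666456716) (.leaf 506806262656)) (.leaf 165356352777))) (.node (.node (.node (.leaf 97710529546) (.leaf 365072305923)) (.leaf 140123404167)) (.node (.node (.leaf 243202573186) (.leaf 99858003598)) (.leaf 392452707336)))) (.node (.node (.node (.node (.leaf 53687094148) (.leaf 233002054538)) (.node (.leaf 128849105033) (.leaf 371514730378))) (.node (.node (.leaf 129922814093) (.leaf 10737420803)) (.leaf 310311500296))) (.node (.node (.node (.leaf 40802222728) (.leaf 200789840392)) (.leaf 328565074062)) (.node (.node (.leaf 289373490566)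 (.leaf 146565805576)) (.leaf 22548630928))))))
def dF_79 : BT := .node (.node (.node (.node (.node (.node (.node (.leaf 536872322) (.leaf 190052381705)) (.node (.leaf 111669221518) (.leaf 155692574990))) (.node (.node (.leaf 44560323086) (.leaf 190589294082)) (.leaf 155692671362))) (.node (.node (.node (.leaf 52613352069) (.leaf 436476093328)) (.leaf 134754688128)) (.node (.node (.leaf 97173691904) (.leaf 40265351813)) (.leaf 267898700683)))) (.node (.node (.node (.node (.leaf 10737431811) (.leaf 438086707596)) (.node (.leaf 122406649102) (.leaf 243202566403))) (.node (.node (.leaf 150860773899) (.leaf 250181967622)) (.leaf 398358310537))) (.node (.node (.node (.leaf 57982085134) (.leaf 228707066753)) (.leaf 333933806595)) (.node (.node (.leaf 100931795336) (.leaf 117037875597)) (.leaf 156229472528))))) (.node (.node (.node (.node (.node (.leaf 9126813057) (.leaf 359703596942)) (.node (.leaf 115427322252) (.leaf 187368035595))) (.node (.node (.leaf 58518971908) (.leaf 227096517254)) (.leaf 164282609935)))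 (.node (.node (.node (.leaf 45634049921) (.leaf 466004030338)) (.leaf 138512790026)) (.node (.node (.leaf 113279815558) (.leaf 96636792586)) (.leaf 404263876230)))) (.node (.node (.node (.node (.leaf 20937985934) (.leaf 318364569100)) (.node (.leaf 245886962689) (.leaf 345208060424))) (.node (.node (.leaf 146565811334) (.leaf 5905585548)) (.leaf 395137049864))) (.node (.node (.node (.leaf 63350798987) (.leaf 221727805705)) (.leaf 150860830340)) (.node (.node (.leaf 149250181762) (.leaf 140123401603)) (.leaf 196494788496)))))) (.node (.node (.node (.node (.node (.node (.leaf 2147487759) (.leaf 24696175120)) (.node (.leaf 114353578369) (.leaf 170725035789))) (.node (.node (.leaf 54224002061) (.leaf 402116433934)) (.leaf 162135124751))) (.node (.node (.node (.leaf 37580984965) (.leaf 488552589316)) (.leaf 135291561735)) (.node (.node (.leaf 97173695241) (.leaf 63350798859)) (.leaf 172872551311)))) (.node (.node (.node (.node (.leaf 11811176332) (.leaf 362387896334)) (.node (.leaf 296889697292) (.leaf 294742209671)))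 (.node (.node (.leaf 120259134858) (.leaf 472446525708)) (.leaf 425201812608))) (.node (.node (.node (.leaf 31675413002) (.leaf 303332183694)) (.leaf 193810500998)) (.node (.node (.leaf 103079281031) (.leaf 129385936257)) (.leaf 55297770640))))) (.node (.node (.node (.node (.node (.leaf 8053074439) (.leaf 368830347152)) (.node (.leaf 119722291328) (.leaf 201863490445))) (.node (.node (.leaf 188978606208) (.leaf 234612710657)) (.leaf 293131619848))) (.node (.node (.node (.leaf 26306699658) (.leaf 490163232131)) (.leaf 227633363974)) (.node (.node (.leaf 154082013959) (.leaf 105226711946)) (.leaf 197568531717)))) (.node (.node (.node (.node (.leaf 71940715777) (.leaf 382789016204)) (.node (.leaf 129385976841) (.leaf 403190102403))) (.node (.node (.leaf 92878722050) (.leaf 12884914439)) (.leaf 372588497038))) (.node (.node (.node (.leaf 46707804037) (.leaf 210453517186)) (.leaf 222801518472)) (.node (.node (.leaf 285615395203) (.leaf 150860768133)) (.leaf 107911099024))))))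
def dF_80 : BT := .node dF_78 dF_79
def dF_81 : BT := .node (.node (.node (.node (.node (.node (.node (.leaf 2684355200) (.leaf 273267318414)) (.node (.leaf 296352814594) (.leaf 155155730690))) (.node (.node (.leaf 44023451523) (.leaf 292594767119)) (.leaf 155692670721))) (.node (.node (.node (.leaf 18253615760) (.leaf 389231481872)) (.node (.leaf 270583028365) (.leaf 472446483074))) (.node (.node (.leaf 95026207629) (.leaf 33286001793)) (.leaf 169114452495)))) (.node (.node (.node (.node (.leaf 10200560134) (.leaf 193273598210)) (.node (.leaf 297426565517) (.leaf 236223224449))) (.node (.node (.leaf 149250160779) (.leaf 326954507910)) (.leaf 238907615373))) (.node (.node (.node (.leaf 31675409924) (.leaf 239444478348)) (.leaf 333933806093)) (.node (.node (.leaf 103079278465) (.leaf 116501036291)) (.leaf 311385207312))))) (.node (.node (.node (.node (.node (.leaf 5368715911) (.leaf 215822219405)) (.node (.leaf 154618898186) (.leaf 184683673995))) (.node (.node (.leaf 111132320651) (.leaf 418222561669)) (.leaf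 163745738499))) (.node (.node (.node (.leaf 34896631308) (.leaf 364535380740)) (.leaf 343597477635)) (.node (.node (.leaf 232465156624) (.leaf 95563035394)) (.leaf 389768316036)))) (.node (.node (.node (.node (.leaf 74625075978) (.leaf 326954413711)) (.node (.leaf 130996587008) (.leaf 333396932743))) (.node (.node (.leaf 104153009028) (.leaf 2684354572)) (.leaf 315143305231))) (.node (.node (.node (.leaf 127775307648) (.leaf 264677478409)) (.leaf 198642340747)) (.node (.node (.leaf 284541651200) (.leaf 137438999560)) (.leaf 48855361680)))))) (.node (.node (.node (.node (.node (.node (.leaf 1610616333) (.leaf 265751143568)) (.node (.leaf 304942751744) (.leaf 167503785359))) (.node (.node (.leaf 95563061771) (.leaf 223338420103)) (.leaf 157303285258))) (.node (.node (.node (.leaf 24696082947) (.leaf 294742247174)) (.leaf 133680948104)) (.node (.node (.leaf 96636823302) (.leaf 59055821449)) (.leaf 362924853508)))) (.node (.node (.node (.node (.leaf 36507237387) (.leaf 346281768078)) (.node (.leaf 345744949898)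 (.leaf 274341110155))) (.node (.node (.leaf 87510008963) (.leaf 466540945536)) (.leaf 402653246988))) (.node (.node (.node (.leaf 29527928839) (.leaf 357019240706)) (.leaf 148713344009)) (.node (.node (.leaf 176630595462) (.leaf 127775323525)) (.leaf 98784271504))))) (.node (.node (.node (.node (.node (.leaf 6442460941) (.leaf 264677405199)) (.node (.leaf 118111677959) (.leaf 200789751682))) (.node (.node (.leaf 128312192395) (.leaf 360777374727)) (.leaf 216895879176))) (.node (.node (.node (.leaf 24159215630) (.leaf 418222532237)) (.leaf 141197146638)) (.node (.node (.leaf 247497540484) (.leaf 102542381312)) (.leaf 337691833605)))) (.node (.node (.node (.node (.leaf 25769811984) (.leaf 360777307022)) (.node (.leaf 129385976451) (.leaf 384936507019))) (.node (.node (.leaf 163208810894) (.leaf 11811172743)) (.leaf 256624409483))) (.node (.node (.node (.leaf 138512729355) (.leaf 498753196676)) (.leaf 228170227328)) (.node (.node (.leaf 150860795779) (.leaf 149787041160)) (.leaf 225485872898))))))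
def dF_82 : BT := .node (.node (.node (.node (.node (.node (.node (.leaf 7516194954) (.leaf 354334860560)) (.node (.leaf 116501060608) (.leaf 165356296966))) (.node (.node (.leaf 52076516879) (.leaf 502511294094)) (.leaf 178241229448))) (.node (.node (.node (.leaf 22548579846) (.leaf 324270110479)) (.leaf 132607205262)) (.node (.node (.leaf 165356298507) (.leaf 52613377289)) (.leaf 461709100420)))) (.node (.node (.node (.node (.leaf 10737432460) (.leaf 30601723408)) (.node (.leaf 248034443140) (.leaf 255013730565))) (.node (.node (.leaf 70330137862) (.leaf 268435578759)) (.leaf 303332136075))) (.node (.node (.node (.leaf 28991056644) (.leaf 212064054276)) (.leaf 167503824130)) (.node (.node (.leaf 226559589381) (.leaf 119185365515)) (.leaf 58518991760))))) (.node (.node (.node (.node (.node (.leaf 6979330050) (.leaf 245350116368)) (.node (.leaf 178778090123) (.leaf 191126140556))) (.node (.node (.leaf 59055843200) (.leaf 462782847759)) (.leaf 275951760130))) (.node (.node (.node (.leaf 95026174208) (.leaf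 234075770895)) (.leaf 150323950470)) (.node (.node (.leaf 258771822087) (.leaf 97710518918)) (.leaf 336081219088)))) (.node (.node (.node (.node (.leaf 22011709069) (.leaf 425201817870)) (.node (.leaf 319438278400) (.leaf 360240430337))) (.node (.node (.leaf 92341849857) (.leaf 7516203917)) (.leaf 201326704771))) (.node (.node (.node (.leaf 35970383502) (.leaf 397821464964)) (.leaf 398358321152)) (.node (.node (.leaf 107911121927) (.leaf 142270878855)) (.leaf 404263831182)))))) (.node (.node (.node (.node (.node (.node (.leaf 4294972173) (.leaf 238907603216)) (.node (.leaf 177704346382) (.leaf 173946244491))) (.node (.node (.leaf 102005513995) (.leaf 461709105294)) (.leaf 163208866949))) (.node (.node (.node (.leaf 40802210817) (.leaf 331249464333)) (.leaf 384936536835)) (.node (.node (.leaf 99321179398) (.leaf 70330117388)) (.leaf 330712599949)))) (.node (.node (.node (.node (.leaf 12884919052) (.leaf 329101897358)) (.node (.leaf 336618145024) (.leaf 304942741258))) (.node (.node (.leaf 89657493504) (.leaf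 460098494854)) (.leaf 425201819141))) (.node (.node (.node (.leaf 60666442763) (.leaf 395673980674)) (.leaf 329101971340)) (.node (.node (.leaf 103616152591) (.leaf 130996516232)) (.leaf 164282521360))))) (.node (.node (.node (.node (.node (.leaf 13421784078) (.leaf 366146064642)) (.node (.leaf 266824921988) (.leaf 210990291471))) (.node (.node (.leaf 67645780993) (.leaf 512711843207)) (.leaf 347892434952))) (.node (.node (.node (.leaf 27917313027) (.leaf 490163233792)) (.leaf 392452734475)) (.node (.node (.leaf 100394923398) (.leaf 111669163534)) (.leaf 449361028875)))) (.node (.node (.node (.node (.leaf 10737431824) (.leaf 381715304194)) (.node (.leaf 130459719431) (.leaf 425201818629))) (.node (.node (.leaf 107911107980) (.leaf 22011708805)) (.leaf 202937318915))) (.node (.node (.node (.leaf 42949708044) (.leaf 489089520642)) (.leaf 352187423369)) (.node (.node (.leaf 112206091016) (.leaf 151934503557)) (.leaf 241055152269))))))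
def dF_83 : BT := .node dF_81 dF_82
def dF_84 : BT := .node dF_80 dF_83
def dF_85 : BT := .node (.node (.node (.node (.node (.node (.node (.leaf 523) (.leaf 218506499854)) (.node (.leaf 294205331087) (.leaf 154082021640))) (.node (.node (.leaf 59592707593) (.leaf 188978681095)) (.leaf 359703616907))) (.node (.node (.node (.leaf 46707780624) (.leaf 472446478464)) (.node (.leaf 268972415492) (.leaf 449360990468))) (.node (.node (.leaf 97173690753) (.leaf 30601649282)) (.leaf 169114452233)))) (.node (.node (.node (.node (.leaf 13958656139) (.leaf 194884224009)) (.node (.leaf 120796035204) (.leaf 228707104649))) (.node (.node (.leaf 69256394508) (.leaf 292594769416)) (.leaf 180388655112))) (.node (.node (.node (.leaf 90731210113) (.leaf 469225242128)) (.leaf 142807761295)) (.node (.node (.leaf 191126090626) (.leaf 115427273987)) (.leaf 155155800464))))) (.node (.node (.node (.node (.node (.leaf 10200553739) (.leaf 237833896710)) (.node (.leaf 114890450183) (.leaf 181999266440))) (.node (.node (.leaf 92878709257)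 (.leaf 352724310413)) (.leaf 163745738369))) (.node (.node (.node (.leaf 42412823814) (.leaf 193273561097)) (.leaf 137975918218)) (.node (.node (.leaf 101468664065) (.leaf 93415551502)) (.leaf 394600207120)))) (.node (.node (.node (.node (.leaf 72477591689) (.leaf 326954471427)) (.node (.leaf 139049650182) (.leaf 330175685127))) (.node (.node (.leaf 89657494157) (.leaf 1073744909)) (.leaf 467077773316))) (.node (.node (.node (.leaf 126164694538) (.leaf 333396955146)) (.leaf 332323197581)) (.node (.node (.leaf 284004780160) (.leaf 134217791114)) (.leaf 4294987664)))))) (.node (.node (.node (.node (.node (.node (.leaf 1073745167) (.leaf 215285327497)) (.node (.leaf 115427319296) (.leaf 167503783937))) (.node (.node (.leaf 63887677580) (.leaf 193273649036)) (.leaf 155155801231))) (.node (.node (.node (.leaf 29527921034) (.leaf 273267353481)) (.leaf 133680947971)) (.node (.node (.leaf 139586495749) (.leaf 57982085259)) (.leaf 275414894731)))) (.node (.node (.node (.node (.leaf 34896624395) (.leaf 295279072904))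 (.node (.leaf 125091004938) (.leaf 268972384267))) (.node (.node (.leaf 179851805582) (.leaf 504121909378)) (.leaf 402653267201))) (.node (.node (.node (.leaf 29527928320) (.leaf 303332149508)) (.leaf 148713343749)) (.node (.node (.leaf 170188144395) (.leaf 125627873925)) (.leaf 338765552528))))) (.node (.node (.node (.node (.node (.leaf 6442460553) (.leaf 264677429377)) (.node (.leaf 165893188868) (.leaf 199179204483))) (.node (.node (.leaf 125627837451) (.leaf 508416875521)) (.leaf 262529988102))) (.node (.node (.node (.leaf 24159215107) (.leaf 365072276493)) (.leaf 140660275338)) (.node (.node (.leaf 143881451522) (.leaf 100931754251)) (.leaf 297963460618)))) (.node (.node (.node (.node (.leaf 32749133712) (.leaf 316753886350)) (.node (.leaf 361851081098) (.leaf 374199068553))) (.node (.node (.leaf 121869750532) (.leaf 11274302343)) (.leaf 167503837831))) (.node (.node (.node (.leaf 140123341706) (.leaf 499826938510)) (.leaf 328565095693)) (.node (.node (.leaf 173946244619) (.leaf 148713285901)) (.leaf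 34896697744))))))
def dF_86 : BT := .node (.node (.node (.node (.node (.node (.node (.leaf 3758098185) (.leaf 353797970947)) (.node (.leaf 114890447361) (.leaf 163745724039))) (.node (.node (.leaf 47781549070) (.leaf 487478908429)) (.leaf 260919370373))) (.node (.node (.node (.leaf 28454165125) (.leaf 298500297743)) (.leaf 375272856966)) (.node (.node (.leaf 235686387712) (.leaf 44023451919)) (.leaf 169651324175)))) (.node (.node (.node (.node (.leaf 10737432071) (.leaf 377420368004)) (.node (.leaf 210990350215) (.leaf 250181881218))) (.node (.node (.leaf 200789769088) (.leaf 263066869644)) (.leaf 248571320843))) (.node (.node (.node (.leaf 111669176458) (.leaf 461709096582)) (.leaf 143881504004)) (.node (.node (.leaf 103079279362) (.leaf 118111629199)) (.leaf 6979359376))))) (.node (.node (.node (.node (.node (.leaf 5905588100) (.leaf 198642353040)) (.node (.leaf 115427322382) (.leaf 189515533826))) (.node (.node (.leaf 115427288715) (.leaf 223875291908)) (.leaf 202400444808))) (.node (.node (.node (.leaf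 37580986252) (.leaf 466004004875)) (.leaf 209916621446)) (.node (.node (.leaf 114353555462) (.leaf 97173641353)) (.leaf 403190109448)))) (.node (.node (.node (.node (.leaf 22011728133) (.leaf 292057846533)) (.node (.leaf 186294291854) (.leaf 359703598082))) (.node (.node (.leaf 162135067915) (.leaf 6442461071)) (.leaf 244813230093))) (.node (.node (.node (.leaf 35433512198) (.leaf 418759430404)) (.leaf 397284579200)) (.node (.node (.leaf 137439021831) (.leaf 141734014596)) (.leaf 40802289808)))))) (.node (.node (.node (.node (.node (.node (.leaf 3758100748) (.leaf 54224022416)) (.node (.leaf 307090235781) (.leaf 171261873289))) (.node (.node (.leaf 54760873474) (.leaf 316753959049)) (.leaf 165893221383))) (.node (.node (.node (.leaf 59055821577) (.leaf 331249412101)) (.leaf 387084019978)) (.node (.node (.leaf 98247437318) (.leaf 67645768331)) (.leaf 174483164431)))) (.node (.node (.node (.node (.leaf 43486560523) (.leaf 245350119312)) (.node (.leaf 323733243015) (.leaf 297963436685))) (.node (.node (.leaf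 151934518796) (.leaf 460098494855)) (.leaf 325343820032))) (.node (.node (.node (.leaf 30601671439) (.leaf 193810517765)) (.leaf 149250215560)) (.node (.node (.leaf 217432785546) (.leaf 130459676417)) (.leaf 5905612688))))) (.node (.node (.node (.node (.node (.leaf 12348041995) (.leaf 303332180112)) (.node (.leaf 120796033665) (.leaf 202937309193))) (.node (.node (.leaf 63887684102) (.leaf 433791819012)) (.leaf 367219791364))) (.node (.node (.node (.leaf 26306699788) (.leaf 222264667402)) (.leaf 142270889219)) (.node (.node (.leaf 222264620171) (.leaf 109521681288)) (.leaf 315143304077)))) (.node (.node (.node (.node (.leaf 74625074832) (.leaf 287226049165)) (.node (.leaf 365609178378) (.leaf 411243192835))) (.node (.node (.leaf 92878722310) (.leaf 16106127884)) (.leaf 344134326792))) (.node (.node (.node (.leaf 41339095182) (.leaf 210453517187)) (.leaf 328565076871)) (.node (.node (.leaf 224412111362) (.leaf 151397668230)) (.leaf 305479621904))))))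
def dF_87 : BT := .node dF_85 dF_86
def dF_88 : BT := .node (.node (.node (.node (.node (.node (.node (.leaf 3758097284) (.leaf 390842069904)) (.node (.leaf 175556859662) (.leaf 155692601475))) (.node (.node (.leaf 121869734152) (.leaf 275951768969)) (.leaf 263603724300))) (.node (.node (.node (.leaf 536882448) (.leaf 297426511759)) (.node (.leaf 134217816833) (.leaf 487478839429))) (.node (.node (.leaf 95563078915) (.leaf 35970353806)) (.leaf 267361829643)))) (.node (.node (.node (.node (.leaf 10200560524) (.leaf 393526412430)) (.node (.leaf 212064090762) (.leaf 239444491787))) (.node (.node (.leaf 69793266052) (.leaf 499290070667)) (.leaf 392452738182))) (.node (.node (.node (.leaf 28454184841) (.leaf 226559583111)) (.leaf 352187417227)) (.node (.node (.leaf 165356304519) (.leaf 117037933828)) (.leaf 311385210890))))) (.node (.node (.node (.node (.node (.leaf 10737425422) (.leaf 236223302660)) (.node (.leaf 117574805509) (.leaf 185757394060))) (.node (.node (.leaf 113816675595) (.leaf 402116434432)) (.leaf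 190589284236))) (.node (.node (.node (.leaf 44560307972) (.leaf 227633336201)) (.leaf 149250207751)) (.node (.node (.leaf 215822129792) (.leaf 96099946624)) (.leaf 401042667920)))) (.node (.node (.node (.node (.leaf 75698818442) (.leaf 427349288973)) (.node (.leaf 215285320460) (.leaf 335007552128))) (.node (.node (.leaf 90194365454) (.leaf 5368710403)) (.leaf 226559628809))) (.node (.node (.node (.leaf 35970382216) (.leaf 193810518156)) (.leaf 199179212046)) (.node (.node (.leaf 173409372555) (.leaf 137975870478)) (.leaf 77846285712)))))) (.node (.node (.node (.node (.node (.node (.leaf 16106131204) (.leaf 201326677894)) (.node (.leaf 305479622784) (.leaf 170724977537))) (.node (.node (.leaf 54224001927) (.leaf 265214351369)) (.leaf 454729771146))) (.node (.node (.node (.leaf 52613370382) (.leaf 488552618511)) (.leaf 190589265163)) (.node (.node (.leaf 96636823820) (.leaf 59592700555)) (.leaf 170725067151)))) (.node (.node (.node (.node (.leaf 38654721419) (.leaf 362387951365)) (.node (.leaf 336618144647)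 (.leaf 286689154305))) (.node (.node (.leaf 87510009093) (.leaf 297963479299)) (.leaf 243202586121))) (.node (.node (.node (.leaf 104152985984) (.leaf 185757419919)) (.leaf 197568597134)) (.node (.node (.leaf 186831143173) (.leaf 128312179207)) (.leaf 4831863696))))) (.node (.node (.node (.node (.node (.leaf 6979332232) (.leaf 186294294288)) (.node (.leaf 118111678350) (.leaf 201326613388))) (.node (.node (.leaf 63350812423) (.leaf 510027488394)) (.leaf 275414823045))) (.node (.node (.node (.leaf 44560310530) (.leaf 402116352135)) (.leaf 141734017800)) (.node (.node (.leaf 258771822082) (.leaf 103079228170)) (.leaf 179851776389)))) (.node (.node (.node (.node (.leaf 61740169222) (.leaf 381715274765)) (.node (.leaf 129385976582) (.leaf 393526424586))) (.node (.node (.leaf 163208811147) (.leaf 12348043781)) (.leaf 325343886473))) (.node (.node (.node (.leaf 68182640264) (.leaf 412316979983)) (.leaf 226022743810)) (.node (.node (.leaf 285615394950) (.leaf 150323901575)) (.leaf 289373447566))))))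
def dF_89 : BT := .node (.node (.node (.node (.node (.node (.node (.leaf 10200549888) (.leaf 224948951680)) (.node (.leaf 113279835278) (.leaf 165356264975))) (.node (.node (.leaf 55297742596) (.leaf 287226058374)) (.leaf 365609166210))) (.node (.node (.node (.leaf 61740169603) (.leaf 276488625549)) (.leaf 133144076417)) (.node (.node (.leaf 139586495117) (.leaf 54223985414)) (.leaf 271119926795)))) (.node (.node (.node (.node (.leaf 10737432719) (.leaf 301184595472)) (.node (.leaf 292594729100) (.leaf 263603671426))) (.node (.node (.leaf 74088234767) (.leaf 275414900738)) (.leaf 441307928710))) (.node (.node (.node (.leaf 88583728137) (.leaf 282931014659)) (.leaf 194884241035)) (.node (.node (.leaf 176630594693) (.leaf 120259127305)) (.leaf 10737462032))))) (.node (.node (.node (.node (.node (.leaf 8053072386) (.leaf 245350051084)) (.node (.leaf 155692641162) (.leaf 193810493065))) (.node (.node (.leaf 59055843588) (.leaf 244813257602)) (.leaf 236760183691))) (.node (.node (.node (.leaf 24696085256) (.leaf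 466004038797)) (.leaf 139049661837)) (.node (.node (.leaf 242128834704) (.leaf 99858032006)) (.leaf 181462470921)))) (.node (.node (.node (.node (.leaf 23085451138) (.leaf 428959905934)) (.node (.leaf 275951734666) (.leaf 361851057927))) (.node (.node (.leaf 216895901572) (.leaf 9126806024)) (.leaf 267361827081))) (.node (.node (.node (.leaf 137438986368) (.leaf 402653303306)) (.leaf 181999343756)) (.node (.node (.leaf 108447993102) (.leaf 143881491584)) (.leaf 219580243848)))))) (.node (.node (.node (.node (.node (.node (.leaf 6442456321) (.leaf 473520247440)) (.node (.leaf 117037933570) (.leaf 177704314510))) (.node (.node (.leaf 105763610763) (.leaf 466540943623)) (.leaf 227633376517))) (.node (.node (.node (.leaf 53150241806) (.leaf 272193597442)) (.leaf 389768375306)) (.node (.node (.leaf 98247437966) (.leaf 88583714568)) (.leaf 175020035588)))) (.node (.node (.node (.node (.leaf 13958661261) (.leaf 429496765198)) (.node (.leaf 125627876879) (.leaf 310848344461))) (.node (.node (.leaf 89657493763) (.leaf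 411243241988)) (.leaf 244813248267))) (.node (.node (.node (.leaf 88046859648) (.leaf 294205378442)) (.leaf 189515534467)) (.node (.node (.leaf 106300507790) (.leaf 132607200518)) (.leaf 48855361808))))) (.node (.node (.node (.node (.node (.leaf 9126817164) (.leaf 365609124999)) (.node (.leaf 119185421577) (.leaf 215822146058))) (.node (.node (.leaf 67645781252) (.leaf 360777375108)) (.leaf 427886152843))) (.node (.node (.node (.leaf 39728463631) (.leaf 443455464450)) (.leaf 142270889871)) (.node (.node (.leaf 102542407425) (.leaf 113279813775)) (.leaf 321048867728)))) (.node (.node (.node (.node (.leaf 55297706631) (.leaf 472983330831)) (.node (.leaf 190052390917) (.leaf 430570558722))) (.node (.node (.leaf 92878722703) (.leaf 24696064398)) (.leaf 222264672015))) (.node (.node (.node (.leaf 43486579586) (.leaf 190589293704)) (.leaf 304405912460)) (.node (.node (.leaf 111132349698) (.leaf 153008273166)) (.leaf 236223241735))))))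
def dF_90 : BT := .node dF_88 dF_89
def dF_91 : BT := .node dF_87 dF_90
def dF_92 : BT := .node dF_84 dF_91
def dF_93 : BT := .node dF_77 dF_92
def dF_94 : BT := .node (.node (.node (.node (.node (.node (.node (.leaf 6) (.leaf 89657483280)) (.node (.leaf 111132350089) (.leaf 153545105928))) (.node (.node (.leaf 43486579978) (.leaf 235149579404)) (.leaf 240518274187))) (.node (.node (.node (.leaf 86973089168) (.leaf 210990332553)) (.node (.leaf 130996590862) (.leaf 432181163136))) (.node (.node (.leaf 93952464782) (.leaf 26306675854)) (.leaf 263066805256)))) (.node (.node (.node (.node (.leaf 19327364744) (.leaf 357556112644)) (.node (.leaf 119185421839) (.leaf 222264611335))) (.node (.node (.leaf 143881450891) (.leaf 287226060291)) (.leaf 442918561808))) (.node (.node (.node (.leaf 27917313290) (.leaf 268435546880)) (.leaf 395137089547)) (.node (.node (.leaf 186831113862) (.leaf 114353552653)) (.leaf 201863498889))))) (.node (.node (.node (.node (.node (.leaf 4831844106) (.leaf 432181131534)) (.node (.leaf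 177704346763) (.leaf 179851791372))) (.node (.node (.leaf 173409345925) (.leaf 486942038286)) (.leaf 227633376516))) (.node (.node (.node (.leaf 25232954501) (.leaf 272730480009)) (.leaf 355945507975)) (.node (.node (.leaf 167503785739) (.leaf 89657490317)) (.leaf 335007567366)))) (.node (.node (.node (.node (.leaf 48855270920) (.leaf 314606470657)) (.node (.leaf 126701618958) (.leaf 315143253512))) (.node (.node (.leaf 170188130702) (.leaf 390305276426)) (.leaf 330712594437))) (.node (.node (.node (.leaf 111669179789) (.leaf 497679454084)) (.leaf 293668491520)) (.node (.node (.leaf 184683661198) (.leaf 133144067977)) (.leaf 1073850384)))))) (.node (.node (.node (.node (.node (.node (.leaf 1073744645) (.leaf 376883454352)) (.node (.leaf 200789794060) (.leaf 165893196172))) (.node (.node (.leaf 53150258957) (.leaf 394063369988)) (.leaf 316217074445))) (.node (.node (.node (.leaf 53150223107) (.leaf 186831163663)) (.leaf 133144076681)) (.node (.node (.leaf 96099951496) (.leaf 54760855810)) (.leaf 170188195593))))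 (.node (.node (.node (.node (.leaf 11274304004) (.leaf 349503047184)) (.node (.leaf 233002057991) (.leaf 264677391627))) (.node (.node (.leaf 81604428174) (.leaf 501974425608)) (.leaf 305479640713))) (.node (.node (.node (.leaf 28991057037) (.leaf 210453440526)) (.leaf 145492117518)) (.node (.node (.leaf 101468667404) (.leaf 120795983364)) (.leaf 30064852240))))) (.node (.node (.node (.node (.node (.leaf 9126814466) (.leaf 302795272456)) (.node (.leaf 203474152588) (.leaf 195421108363))) (.node (.node (.leaf 59055843855) (.leaf 508953746318)) (.leaf 165356352648))) (.node (.node (.node (.leaf 23622343694) (.leaf 365072280577)) (.leaf 380104701824)) (.node (.node (.leaf 221727709574) (.leaf 99858026764)) (.leaf 392452707332)))) (.node (.node (.node (.node (.leaf 53687094274) (.leaf 233002077198)) (.node (.leaf 217432805255) (.leaf 367756659983))) (.node (.node (.leaf 92341850246) (.leaf 10200553231)) (.leaf 166966966793))) (.node (.node (.node (.leaf 39728480775) (.leaf 500363809283)) (.leaf 345744943233))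 (.node (.node (.leaf 122943507844) (.leaf 144418371727)) (.leaf 90194352016))))))
def dF_95 : BT := .node (.node (.node (.node (.node (.node (.node (.leaf 536872193) (.leaf 190052333697)) (.node (.leaf 112742963209) (.leaf 155692588300))) (.node (.node (.leaf 46170935689) (.leaf 462245975428)) (.leaf 154082058505))) (.node (.node (.node (.leaf 52613352065) (.leaf 336618091790)) (.leaf 132070333449)) (.node (.node (.leaf 95563079175) (.leaf 39728463630)) (.leaf 169651323784)))) (.node (.node (.node (.node (.leaf 26843559051) (.leaf 438086712584)) (.node (.leaf 151934549128) (.leaf 240518227979))) (.node (.node (.leaf 69793266183) (.leaf 291521027844)) (.leaf 193273562376))) (.node (.node (.node (.leaf 30064797702) (.leaf 372588471181)) (.leaf 143344632844)) (.node (.node (.leaf 184146786566) (.leaf 117037882635)) (.leaf 116501036432))))) (.node (.node (.node (.node (.node (.leaf 5368716686) (.leaf 359703585160)) (.node (.leaf 312458946820) (.leaf 187368042118))) (.node (.node (.leaf 154081994125) (.leaf 357556148877))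 (.leaf 163745738895))) (.node (.node (.node (.leaf 53687113486) (.leaf 466004061326)) (.leaf 138512789768)) (.node (.node (.leaf 233002029059) (.leaf 96636778242)) (.leaf 404263831172)))) (.node (.node (.node (.node (.leaf 20401114895) (.leaf 292057894410)) (.node (.leaf 128312232966) (.leaf 343597457931))) (.node (.node (.leaf 105226751108) (.leaf 5905586054)) (.leaf 374199129101))) (.node (.node (.node (.leaf 34896640655) (.leaf 498753196289)) (.leaf 181462472205)) (.node (.node (.leaf 132607183498) (.leaf 139586483598)) (.leaf 18790486288)))))) (.node (.node (.node (.node (.node (.node (.leaf 3221229451) (.leaf 54760860176)) (.node (.leaf 201326665997) (.leaf 170725015947))) (.node (.node (.leaf 90731224073) (.leaf 264677480460)) (.leaf 161598253711))) (.node (.node (.node (.leaf 26306695811) (.leaf 488552619138)) (.leaf 287762900618)) (.node (.node (.leaf 166430042635) (.leaf 61740185099)) (.leaf 172335680271)))) (.node (.node (.node (.node (.leaf 11811176201) (.leaf 362387939724)) (.node (.leaf 125627876353)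 (.leaf 294205330696))) (.node (.node (.leaf 87510009223) (.leaf 510027489545)) (.leaf 425201844231))) (.node (.node (.node (.leaf 30064800141) (.leaf 333396954761)) (.leaf 194884242818)) (.node (.node (.leaf 235149525379) (.leaf 128849105295)) (.leaf 24696075408))))) (.node (.node (.node (.node (.node (.leaf 6979332620) (.leaf 186294251279)) (.node (.leaf 118648549509) (.leaf 201863499915))) (.node (.node (.leaf 132070289419) (.leaf 486942039307)) (.leaf 360240471689))) (.node (.node (.node (.leaf 24696086797) (.leaf 418222494991)) (.leaf 228707105794)) (.node (.node (.leaf 155155755779) (.leaf 105226759176)) (.leaf 197568599312)))) (.node (.node (.node (.node (.leaf 30601648524) (.leaf 463319708303)) (.node (.leaf 137439040260) (.leaf 402653266951))) (.node (.node (.leaf 132607169420) (.leaf 12884914691)) (.leaf 367756658816))) (.node (.node (.node (.leaf 40802224012) (.leaf 428959978247)) (.leaf 362924826381)) (.node (.node (.leaf 110595477894) (.leaf 150323890831)) (.leaf 134754631184))))))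
def dF_96 : BT := .node dF_94 dF_95
def dF_97 : BT := .node (.node (.node (.node (.node (.node (.node (.leaf 1610613263) (.leaf 273267359504)) (.node (.leaf 296352814343) (.leaf 154618929806))) (.node (.node (.leaf 153008246528) (.leaf 470835909901)) (.leaf 153545186953))) (.node (.node (.node (.leaf 18790486800) (.leaf 395673895944)) (.node (.leaf 272730512003) (.leaf 467077780491))) (.node (.node (.leaf 95026207628) (.leaf 31675386378)) (.leaf 355408658831)))) (.node (.node (.node (.node (.leaf 11811172737) (.leaf 380104637454)) (.node (.leaf 120259164549) (.leaf 235686417423))) (.node (.node (.leaf 69793265793) (.leaf 347892473476)) (.leaf 238907616644))) (.node (.node (.node (.leaf 42412828160) (.leaf 239444490505)) (.leaf 199179207175)) (.node (.node (.leaf 227096424066) (.leaf 116501028737)) (.leaf 313532640144))))) (.node (.node (.node (.node (.node (.leaf 6442457600) (.leaf 215822209672)) (.node (.leaf 116501063428) (.leaf 184146805387))) (.node (.node (.leaf 110595449611) (.leaf 345744988547)) (.leaf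 180388736642))) (.node (.node (.node (.leaf 23085471240) (.leaf 364535414274)) (.leaf 140660272897)) (.node (.node (.leaf 164819394307) (.leaf 95026202887)) (.leaf 390842095113)))) (.node (.node (.node (.node (.leaf 17179888143) (.leaf 326954487693)) (.node (.leaf 185757419918) (.leaf 333396894853))) (.node (.node (.leaf 145492069250) (.leaf 2147487501)) (.leaf 363461657864))) (.node (.node (.node (.leaf 34896639744) (.leaf 221727805444)) (.leaf 432181187338)) (.node (.node (.leaf 107374250125) (.leaf 137438999556)) (.leaf 72477681552)))))) (.node (.node (.node (.node (.node (.node (.leaf 8053067144) (.leaf 265214267023)) (.node (.leaf 177167474574) (.leaf 167503785351))) (.node (.node (.leaf 54224001537) (.leaf 390305273733)) (.leaf 157840156041))) (.node (.node (.node (.leaf 35970372096) (.leaf 234612651267)) (.leaf 153008300804)) (.node (.node (.leaf 96636823170) (.leaf 59055823362)) (.leaf 170725067020)))) (.node (.node (.node (.node (.leaf 12348046340) (.leaf 346281779592)) (.node (.leaf 125091005070)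 (.leaf 272730487310))) (.node (.node (.leaf 180388676622) (.leaf 504121909391)) (.leaf 402653247241))) (.node (.node (.node (.leaf 29527928709) (.leaf 357019202049)) (.leaf 250181946114)) (.node (.node (.leaf 222801493899) (.leaf 126701543182)) (.leaf 252866312976))))) (.node (.node (.node (.node (.node (.leaf 8053073540) (.leaf 264677385351)) (.node (.leaf 166430059906) (.leaf 199716083723))) (.node (.node (.leaf 63350812033) (.leaf 418222562304)) (.leaf 186831101705))) (.node (.node (.node (.leaf 25232957321) (.leaf 323196368526)) (.leaf 404263893386)) (.node (.node (.leaf 138512730758) (.leaf 102005517832)) (.leaf 337691916291)))) (.node (.node (.node (.node (.leaf 55834577542) (.leaf 468151499022)) (.node (.leaf 186831163915) (.leaf 382252153347))) (.node (.node (.leaf 130459685261) (.leaf 11811172739)) (.leaf 167503838095))) (.node (.node (.node (.leaf 40265352450) (.leaf 282931090048)) (.leaf 375272857229)) (.node (.node (.leaf 149787053958) (.leaf 149250215439)) (.leaf 225485836944))))))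
def dF_98 : BT := .node (.node (.node (.node (.node (.node (.node (.leaf 536873102) (.leaf 353797970572)) (.node (.leaf 176630602638) (.leaf 165356265474))) (.node (.node (.leaf 52076516620) (.leaf 364535469706)) (.leaf 154618876681))) (.node (.node (.node (.leaf 53150223111) (.leaf 333933801225)) (.leaf 132607205000)) (.node (.node (.leaf 95563079951) (.leaf 48855256074)) (.leaf 270583055755)))) (.node (.node (.node (.node (.leaf 10737432329) (.leaf 374199057166)) (.node (.leaf 210990350214) (.leaf 253403131275))) (.node (.node (.leaf 70330137733) (.leaf 265214353285)) (.leaf 176630600840))) (.node (.node (.node (.leaf 28991056514) (.leaf 202400409351)) (.leaf 165893211405)) (.node (.node (.leaf 101468666882) (.leaf 119185365765)) (.leaf 213137764624))))) (.node (.node (.node (.node (.node (.leaf 5905588231) (.leaf 91268128528)) (.node (.leaf 117574806150) (.leaf 190589265035))) (.node (.node (.leaf 89120614153) (.leaf 286689188621)) (.leaf 167503835904))) (.node (.node (.node (.leaf 23622342784) (.leaf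 235686417672)) (.leaf 139049661314)) (.node (.node (.leaf 177704295686) (.leaf 97710534404)) (.leaf 199179155471)))) (.node (.node (.node (.node (.leaf 22011709318) (.leaf 343597466245)) (.node (.leaf 186294292107) (.leaf 359703551756))) (.node (.node (.leaf 127775329933) (.leaf 6979327117)) (.leaf 240518281359))) (.node (.node (.node (.leaf 35433512463) (.leaf 395673981325)) (.leaf 150860830734)) (.node (.node (.leaf 190589242254) (.leaf 142270884613)) (.leaf 400505709968)))))) (.node (.node (.node (.node (.node (.node (.leaf 3221230351) (.leaf 255013723142)) (.node (.leaf 114353578762) (.leaf 173409372175))) (.node (.node (.leaf 54760873734) (.leaf 285615446156)) (.leaf 165893221382))) (.node (.node (.node (.leaf 54760854414) (.leaf 331249441295)) (.leaf 140123400960)) (.node (.node (.leaf 97173695759) (.leaf 70330118793)) (.leaf 199716097410)))) (.node (.node (.node (.node (.leaf 45097173515) (.leaf 329101912456)) (.node (.leaf 298500310285) (.leaf 302795234945))) (.node (.node (.leaf 213137803018) (.leaf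 411243241871)) (.leaf 324270114056))) (.node (.node (.node (.leaf 122406597514) (.leaf 395673980686)) (.leaf 377420353411)) (.node (.node (.leaf 103079281550) (.leaf 130996533126)) (.leaf 11274321552))))) (.node (.node (.node (.node (.node (.leaf 7516204045) (.leaf 366146030336)) (.node (.leaf 119185421185) (.leaf 210453475466))) (.node (.node (.leaf 141733966731) (.leaf 376346631555)) (.leaf 347892446982))) (.node (.node (.node (.leaf 26843571087) (.leaf 364535440399)) (.leaf 143344631168)) (.node (.node (.leaf 258771842305) (.leaf 111132349710)) (.leaf 449361060624)))) (.node (.node (.node (.node (.leaf 31138520208) (.leaf 381715331200)) (.node (.leaf 129922848522) (.leaf 418759383693))) (.node (.node (.leaf 93415593353) (.leaf 22011708801)) (.leaf 171261935104))) (.node (.node (.node (.leaf 41339095311) (.leaf 486942037004)) (.leaf 182536215053)) (.node (.node (.leaf 175019987598) (.leaf 151934527747)) (.leaf 241055152392))))))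
def dF_99 : BT := .node dF_97 dF_98
def dF_100 : BT := .node dF_96 dF_99
def dF_101 : BT := .node (.node (.node (.node (.node (.node (.node (.leaf 536871304) (.leaf 217432760206)) (.node (.leaf 299037169285) (.leaf 154081988870))) (.node (.node (.leaf 151397633418) (.leaf 249108223111)) (.leaf 153545186695))) (.node (.node (.node (.leaf 48855265040) (.leaf 472446481422)) (.node (.leaf 267361802764) (.leaf 443992330500))) (.node (.node (.leaf 95026207110) (.leaf 30064794888)) (.leaf 418759426188)))) (.node (.node (.node (.node (.leaf 9663688847) (.leaf 194884171524)) (.node (.leaf 119722293257) (.leaf 226559560329))) (.node (.node (.leaf 67645781647) (.leaf 287226060290)) (.leaf 210453478024))) (.node (.node (.node (.leaf 27917313420) (.leaf 268435521039)) (.leaf 142807761161)) (.node (.node (.leaf 190052348806) (.leaf 115427286784)) (.leaf 178778079616))))) (.node (.node (.node (.node (.node (.leaf 24696068234) (.leaf 237833924098)) (.node (.leaf 214748439812) (.leaf 181462403725))) (.node (.node (.leaf 59592712709)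 (.leaf 470835911051)) (.leaf 188978671116))) (.node (.node (.node (.leaf 26306696452) (.leaf 299037168143)) (.leaf 137975917960)) (.node (.node (.leaf 99858051332) (.leaf 92341850639)) (.leaf 393526423174)))) (.node (.node (.node (.node (.leaf 74625075215) (.leaf 326954463888)) (.node (.leaf 139049650183) (.leaf 330175666949))) (.node (.node (.leaf 102542396042) (.leaf 536873103)) (.leaf 187368028162))) (.node (.node (.node (.leaf 122943469062) (.leaf 296889733128)) (.leaf 151397700226)) (.node (.node (.leaf 173409372174) (.leaf 134217755016)) (.leaf 76772544528)))))) (.node (.node (.node (.node (.node (.node (.leaf 1073745037) (.leaf 215285351940)) (.node (.leaf 238370758147) (.leaf 166430011150))) (.node (.node (.leaf 53687130249) (.leaf 390305273614)) (.leaf 437549900808))) (.node (.node (.node (.leaf 61740168717) (.leaf 273267356935)) (.leaf 190052393611)) (.node (.node (.leaf 98247435523) (.leaf 57445213707)) (.leaf 273804281867)))) (.node (.node (.node (.node (.leaf 12348045954) (.leaf 284541608974))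 (.node (.leaf 210990350720) (.leaf 268435513099))) (.node (.node (.leaf 148713292685) (.leaf 507880005761)) (.leaf 368293533320))) (.node (.node (.node (.leaf 70330117517) (.leaf 395137075471)) (.leaf 197031725707)) (.node (.node (.leaf 101468667663) (.leaf 125091005071)) (.leaf 200252886288))))) (.node (.node (.node (.node (.node (.leaf 6442460295) (.leaf 264677428240)) (.node (.leaf 144418352391) (.leaf 198642340495))) (.node (.node (.leaf 175019961228) (.leaf 262529997832)) (.leaf 460635354624))) (.node (.node (.node (.leaf 99858013568) (.leaf 365072331530)) (.leaf 145492113544)) (.node (.node (.leaf 139586472579) (.leaf 100931787521)) (.leaf 297963463688)))) (.node (.node (.node (.node (.leaf 61203286661) (.leaf 330175721870)) (.node (.leaf 130996588930) (.leaf 374199104643))) (.node (.node (.leaf 108447977740) (.leaf 11274301701)) (.leaf 198642350725))) (.node (.node (.node (.leaf 39728481166) (.leaf 418759430785)) (.leaf 328565096194)) (.node (.node (.leaf 123480378884) (.leaf 148713290122)) (.leaf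 288836564368))))))
def dF_102 : BT := .node (.node (.node (.node (.node (.node (.node (.leaf 536872714) (.leaf 417685653904)) (.node (.leaf 113279834629) (.leaf 163208810895))) (.node (.node (.leaf 75161965448) (.leaf 503585035784)) (.leaf 154618929795))) (.node (.node (.node (.leaf 22011721353) (.leaf 296352814607)) (.leaf 372051631489)) (.node (.node (.leaf 165356298126) (.leaf 42412803598)) (.leaf 268972442763)))) (.node (.node (.node (.node (.leaf 11811173760) (.leaf 382788992142)) (.node (.leaf 183609933579) (.leaf 249108182148))) (.node (.node (.leaf 153008257803) (.leaf 291521027854)) (.leaf 248571258630))) (.node (.node (.node (.leaf 31675410566) (.leaf 346281850498)) (.leaf 143344632975)) (.node (.node (.leaf 100931795597) (.leaf 118111643914)) (.leaf 156766309264))))) (.node (.node (.node (.node (.node (.leaf 5905587969) (.leaf 239444542480)) (.node (.leaf 115427322253) (.leaf 188978589193))) (.node (.node (.leaf 58518972039) (.leaf 509490616964)) (.leaf 233002086795))) (.node (.node (.node (.leaf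 26306697095) (.leaf 234075771397)) (.leaf 140660273794)) (.node (.node (.leaf 115427297283) (.leaf 97173687939)) (.leaf 403190099204)))) (.node (.node (.node (.node (.leaf 22011728129) (.leaf 428959976969)) (.node (.leaf 353798016384) (.leaf 353797989642))) (.node (.node (.leaf 147102682375) (.leaf 6442456327)) (.leaf 244813186054))) (.node (.node (.node (.leaf 35433512068) (.leaf 181999358208)) (.leaf 150860830473)) (.node (.node (.leaf 190052371214) (.leaf 140660225541)) (.leaf 147639502352)))))) (.node (.node (.node (.node (.node (.node (.leaf 18253615366) (.leaf 97173658640)) (.node (.leaf 215285309831) (.leaf 171261906694))) (.node (.node (.leaf 168577506688) (.leaf 199179229320)) (.leaf 166966963203))) (.node (.node (.node (.leaf 22011728655) (.leaf 331249441923)) (.leaf 135828433038)) (.node (.node (.leaf 149787044868) (.leaf 67645744389)) (.leaf 230317739145)))) (.node (.node (.node (.node (.leaf 11811176591) (.leaf 253403110410)) (.node (.leaf 297963439244) (.leaf 297963392904))) (.node (.node (.leaf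 122406618633) (.leaf 404263920001)) (.leaf 325343875338))) (.node (.node (.node (.leaf 31675413132) (.leaf 175556906758)) (.leaf 424128122369)) (.node (.node (.leaf 218506527368) (.leaf 129922791310)) (.leaf 5905612560))))) (.node (.node (.node (.node (.node (.leaf 9663687431) (.leaf 245886921994)) (.node (.leaf 118648549897) (.leaf 202937232514))) (.node (.node (.leaf 63887683973) (.leaf 273267416322)) (.leaf 367219798018))) (.node (.node (.node (.leaf 37580988935) (.leaf 222264667909)) (.leaf 192736754827)) (.node (.node (.leaf 100394923138) (.leaf 108447937934)) (.leaf 315143328010)))) (.node (.node (.node (.node (.leaf 81067527696) (.leaf 229243990661)) (.node (.leaf 130996589828) (.leaf 409095709197))) (.node (.node (.leaf 133680911501) (.leaf 16106139017)) (.leaf 292594691337))) (.node (.node (.node (.leaf 141197084680) (.leaf 462245974926)) (.leaf 360777307023)) (.node (.node (.leaf 283467911692) (.leaf 151397644292)) (.leaf 384936489482))))))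
def dF_103 : BT := .node dF_101 dF_102
def dF_104 : BT := .node (.node (.node (.node (.node (.node (.node (.leaf 3758097280) (.leaf 389768379536)) (.node (.leaf 282931042061) (.leaf 155692588929))) (.node (.node (.leaf 154081988740) (.leaf 189515552136)) (.leaf 443992350724))) (.node (.node (.node (.leaf 2147502096) (.leaf 297426556683)) (.node (.leaf 132070333191) (.leaf 487478863104))) (.node (.node (.leaf 164819426443) (.leaf 34896640527)) (.leaf 169651323653)))) (.node (.node (.node (.node (.leaf 10200560393) (.leaf 193273561231)) (.node (.leaf 120796035719) (.leaf 237833896583))) (.node (.node (.leaf 119185389837) (.leaf 327491378831)) (.leaf 392452670082))) (.node (.node (.node (.leaf 57445213835) (.leaf 268972392073)) (.leaf 187368047233)) (.node (.node (.leaf 165356304518) (.leaf 117037886338)) (.leaf 311385207687))))) (.node (.node (.node (.node (.node (.leaf 24696069120) (.leaf 95026266768)) (.node (.leaf 316217042826) (.leaf 185757419911))) (.node (.node (.leaf 58518971649) (.leaf 357019277836))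 (.leaf 228170248075))) (.node (.node (.node (.leaf 46707791618) (.leaf 270582992905)) (.leaf 150860820480)) (.node (.node (.leaf 236760112646) (.leaf 95563073806)) (.leaf 401579538960)))) (.node (.node (.node (.node (.leaf 77846301835) (.leaf 427349348235)) (.node (.leaf 265214315274) (.leaf 333933800844))) (.node (.node (.leaf 162135067534) (.leaf 4831844495)) (.leaf 181462399752))) (.node (.node (.node (.leaf 34896640263) (.leaf 333933826186)) (.leaf 151397700869)) (.node (.node (.leaf 107374250383) (.leaf 137975911687)) (.leaf 12884939664)))))) (.node (.node (.node (.node (.node (.node (.leaf 16106131200) (.leaf 446139752336)) (.node (.leaf 201326665742) (.leaf 170188130703))) (.node (.node (.leaf 96636803851) (.leaf 193273649037)) (.leaf 160524511242))) (.node (.node (.node (.leaf 44560306701) (.leaf 216359066121)) (.leaf 133680948495)) (.node (.node (.leaf 97710565509) (.leaf 59592685443)) (.leaf 360240498959)))) (.node (.node (.node (.node (.leaf 11811175810) (.leaf 362387913984)) (.node (.leaf 295815955213)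 (.leaf 285615384450))) (.node (.node (.leaf 97173685381) (.leaf 294742253824)) (.leaf 296889677318))) (.node (.node (.node (.leaf 59055829259) (.leaf 357019244171)) (.leaf 397284576391)) (.node (.node (.leaf 154082017536) (.leaf 128312193285)) (.leaf 4831863568))))) (.node (.node (.node (.node (.node (.leaf 6442461199) (.leaf 361851057548)) (.node (.leaf 118111678088) (.leaf 200789772429))) (.node (.node (.leaf 129385934475) (.leaf 262529997956)) (.leaf 275414867338))) (.node (.node (.node (.leaf 24696086796) (.leaf 402116418320)) (.leaf 363998575243)) (.node (.node (.leaf 215285288706) (.leaf 103079254530)) (.leaf 211527182224)))) (.node (.node (.node (.node (.leaf 61740169223) (.leaf 228170248842)) (.node (.leaf 293131604614) (.leaf 392452669707))) (.node (.node (.leaf 92341850767) (.leaf 12348044163)) (.leaf 314606468239))) (.node (.node (.node (.leaf 139586471435) (.leaf 395137110794)) (.leaf 320512024321)) (.node (.node (.leaf 110595477635) (.leaf 150323901827)) (.leaf 289373460616))))))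
def dF_105 : BT := .node (.node (.node (.node (.node (.node (.node (.leaf 4831840651) (.leaf 225485836039)) (.node (.leaf 113279835149) (.leaf 165356300301))) (.node (.node (.leaf 68182644482) (.leaf 285615445636)) (.leaf 363461682570))) (.node (.node (.node (.leaf 30601658633) (.leaf 360240487818)) (.leaf 374735986688)) (.node (.node (.leaf 140660236934) (.leaf 53687113611)) (.leaf 317827696129)))) (.node (.node (.node (.node (.leaf 55834589184) (.leaf 28454230416)) (.node (.leaf 125091004547) (.leaf 262529929355))) (.node (.node (.leaf 71403879951) (.leaf 381178470286)) (.leaf 306016511753))) (.node (.node (.node (.leaf 28991056906) (.leaf 282931014020)) (.leaf 143881504399)) (.node (.node (.leaf 228170202242) (.leaf 119722241550)) (.leaf 183073010064))))) (.node (.node (.node (.node (.node (.leaf 11274297742) (.leaf 245350046343)) (.node (.leaf 116501064590) (.leaf 193810435078))) (.node (.node (.leaf 59055843459) (.leaf 223875292040)) (.leaf 164819481487))) (.node (.node (.node (.leaf 23622343303) (.leaf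 187368035471)) (.leaf 140660274564)) (.node (.node (.leaf 113816656130) (.leaf 99858032258)) (.leaf 181462463110)))) (.node (.node (.node (.node (.leaf 28454178956) (.leaf 344671207438)) (.node (.leaf 128849104773) (.leaf 361851031424))) (.node (.node (.leaf 128849072013) (.leaf 8053063820)) (.leaf 167503837445))) (.node (.node (.node (.leaf 39728480256) (.leaf 244813255172)) (.leaf 199716083851)) (.node (.node (.leaf 109521734792) (.leaf 142807756174)) (.leaf 421980546704)))))) (.node (.node (.node (.node (.node (.node (.leaf 4831843588) (.leaf 210990328336)) (.node (.leaf 201863537550) (.leaf 176630553998))) (.node (.node (.leaf 103616126987) (.leaf 466540943617)) (.leaf 163208867079))) (.node (.node (.node (.leaf 40802210823) (.leaf 272193639040)) (.leaf 137439046541)) (.node (.node (.leaf 97710566797) (.leaf 87509972750)) (.leaf 330712513545)))) (.node (.node (.node (.node (.leaf 13421790351) (.leaf 429496772620)) (.node (.leaf 282931053962) (.leaf 310848343817))) (.node (.node (.leaf 169114388622) (.leaf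 418222563842)) (.leaf 244276377227))) (.node (.node (.node (.leaf 111132308749) (.leaf 284541702029)) (.leaf 152471441537)) (.node (.node (.leaf 136365278598) (.leaf 132070287625)) (.leaf 49392135568))))) (.node (.node (.node (.node (.node (.leaf 18253622664) (.leaf 365609125377)) (.node (.leaf 184146801664) (.leaf 215285262735))) (.node (.node (.leaf 142807708811) (.leaf 376346631566)) (.leaf 427886224392))) (.node (.node (.node (.leaf 40265327882) (.leaf 270582995592)) (.leaf 394063347467)) (.node (.node (.leaf 100394923788) (.leaf 113279786378)) (.leaf 28991069456)))) (.node (.node (.node (.node (.leaf 55297706883) (.leaf 472983329670)) (.node (.leaf 200789809155) (.leaf 428959936653))) (.node (.node (.leaf 134754653708) (.leaf 23622343311)) (.leaf 226022768385))) (.node (.node (.node (.leaf 43486579457) (.leaf 275414897664)) (.leaf 361851100039)) (.node (.node (.leaf 111132349569) (.leaf 153008292872)) (.leaf 236223241987))))))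
def dF_106 : BT := .node dF_104 dF_105
def dF_107 : BT := .node dF_103 dF_106
def dF_108 : BT := .node dF_100 dF_107
def dF_109 : BT := .node (.node (.node (.node (.node (.node (.node (.leaf 1610613120) (.leaf 278636009104)) (.node (.leaf 142807733765) (.leaf 153545105421))) (.node (.node (.leaf 120795991308) (.leaf 443992364163)) (.leaf 153545186565))) (.node (.node (.node (.leaf 12884905104) (.leaf 248034440202)) (.node (.leaf 132070332930) (.leaf 432181123853))) (.node (.node (.leaf 95026206851) (.leaf 28991042305)) (.leaf 170725064704)))) (.node (.node (.node (.node (.leaf 8589946767) (.leaf 357556114954)) (.node (.leaf 119722292867) (.leaf 223875224064))) (.node (.node (.leaf 68182652425) (.leaf 302795316749)) (.leaf 249108139779))) (.node (.node (.node (.leaf 30064796933) (.leaf 268435492612)) (.leaf 375809736707)) (.node (.node (.leaf 133144019975) (.leaf 114890443273)) (.leaf 177704347920))))) (.node (.node (.node (.node (.node (.leaf 8053069696) (.leaf 250718766224)) (.node (.leaf 114890450179) (.leaf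 180388728332))) (.node (.node (.leaf 57445229068) (.leaf 221727807880)) (.leaf 188441800077))) (.node (.node (.node (.leaf 22548600078) (.leaf 192736690312)) (.leaf 286689160449)) (.node (.node (.leaf 255550615434) (.leaf 90731236495)) (.leaf 393526496770)))) (.node (.node (.node (.node (.leaf 15569274766) (.leaf 314606402700)) (.node (.leaf 341449983879) (.leaf 323196361353))) (.node (.node (.leaf 170725001742) (.leaf 389768405517)) (.leaf 330712594436))) (.node (.node (.node (.leaf 88583730688) (.leaf 179851874307)) (.leaf 391915868419)) (.node (.node (.leaf 108447991811) (.leaf 133680944007)) (.leaf 3758116880)))))) (.node (.node (.node (.node (.node (.node (.leaf 6979324811) (.leaf 310848344588)) (.node (.leaf 114890448256) (.leaf 166430011523))) (.node (.node (.leaf 108984834057) (.leaf 348966213384)) (.leaf 155155801102))) (.node (.node (.node (.leaf 63350774280) (.leaf 274341098894)) (.leaf 368293536260)) (.node (.node (.leaf 97710564483) (.leaf 54760854415)) (.leaf 171261937541)))) (.node (.node (.node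 (.node (.leaf 11274304134) (.leaf 283467882894)) (.node (.leaf 215822188933) (.leaf 265214278410))) (.node (.node (.leaf 85899395855) (.leaf 276488642569)) (.leaf 377420338822))) (.node (.node (.node (.leaf 115964144906) (.leaf 193810483457)) (.leaf 146565859598)) (.node (.node (.leaf 101468667534) (.leaf 121869711246)) (.leaf 43486648848))))) (.node (.node (.node (.node (.node (.leaf 11274298251) (.leaf 200789793807)) (.node (.leaf 143881481485) (.leaf 198642312577))) (.node (.node (.leaf 61740198792) (.leaf 244813257603)) (.leaf 165356352911))) (.node (.node (.node (.leaf 53150243977) (.leaf 365072322821)) (.leaf 139586533390)) (.node (.node (.leaf 245886908167) (.leaf 100394887563)) (.leaf 392452716301)))) (.node (.node (.node (.node (.leaf 53687093901) (.leaf 425201873290)) (.node (.leaf 130459717890) (.leaf 371514750095))) (.node (.node (.leaf 92341850376) (.leaf 10737432461)) (.leaf 268972440192))) (.node (.node (.node (.leaf 40265351822) (.leaf 418759430662)) (.leaf 328565074569)) (.node (.node (.leaf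 224412110218) (.leaf 146565768846)) (.leaf 110058563088))))))
def dF_110 : BT := .node (.node (.node (.node (.node (.node (.node (.leaf 536872452) (.leaf 358629800208)) (.node (.leaf 112206092558) (.leaf 162135067787))) (.node (.node (.leaf 45634065038) (.leaf 202400454145)) (.leaf 312458977677))) (.node (.node (.node (.leaf 41339070224) (.leaf 175556859650)) (.leaf 132070333711)) (.node (.node (.leaf 95563079433) (.leaf 40802192142)) (.leaf 268435571723)))) (.node (.node (.node (.node (.leaf 10737431940) (.leaf 438086700174)) (.node (.leaf 123480391183) (.leaf 245350059658))) (.node (.node (.leaf 120259131916) (.leaf 462782848776)) (.leaf 248571334912))) (.node (.node (.node (.leaf 45634054272) (.leaf 228707066757)) (.leaf 144418374661)) (.node (.node (.leaf 100931795465) (.leaf 118111629444)) (.leaf 6979359504))))) (.node (.node (.node (.node (.node (.leaf 5368716815) (.leaf 222801491338)) (.node (.leaf 116501064070) (.leaf 187904904456))) (.node (.node (.leaf 114890417675) (.leaf 357556148876)) (.leaf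 164819480964))) (.node (.node (.node (.leaf 48855275395) (.leaf 466004005252)) (.leaf 140123402755)) (.node (.node (.leaf 115427299201) (.leaf 96636814479)) (.leaf 352187414544)))) (.node (.node (.node (.node (.leaf 79456915467) (.leaf 409095753230)) (.node (.leaf 129922845696) (.leaf 345208055693))) (.node (.node (.leaf 218506513546) (.leaf 5905589007)) (.leaf 327491295880))) (.node (.node (.node (.leaf 35433511809) (.leaf 353261179149)) (.leaf 395673966209)) (.node (.node (.leaf 107911121666) (.leaf 140123317637)) (.leaf 11811207056)))))) (.node (.node (.node (.node (.node (.node (.leaf 2684358926) (.leaf 26306734864)) (.node (.leaf 242665726338) (.leaf 171261848704))) (.node (.node (.leaf 99321158795) (.leaf 390305273859)) (.leaf 162671995791))) (.node (.node (.node (.leaf 48855274119) (.leaf 488552608912)) (.leaf 134754690958)) (.node (.node (.leaf 97710566278) (.leaf 63887664649)) (.leaf 173409422351)))) (.node (.node (.node (.node (.leaf 12884918149) (.leaf 255013723150)) (.node (.leaf 347892433923)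 (.leaf 296352836997))) (.node (.node (.leaf 150860776844) (.leaf 495531974926)) (.leaf 425201864973))) (.node (.node (.node (.leaf 105226728064) (.leaf 303332183687)) (.leaf 179851857293)) (.node (.node (.leaf 102005539343) (.leaf 129385935879)) (.leaf 55297821456))))) (.node (.node (.node (.node (.node (.leaf 9126816390) (.leaf 223875232906)) (.node (.leaf 118648549639) (.leaf 202400440971))) (.node (.node (.leaf 63887683842) (.leaf 382252211468)) (.leaf 187904908808))) (.node (.node (.node (.leaf 48855278080) (.leaf 366146053128)) (.leaf 390305250315)) (.node (.node (.leaf 99858051982) (.leaf 107374250255)) (.leaf 325343847824)))) (.node (.node (.node (.node (.leaf 56908331020) (.leaf 463319708302)) (.node (.leaf 130459718788) (.leaf 404263843338))) (.node (.node (.leaf 133144040461) (.leaf 12884902156)) (.leaf 294742214786))) (.node (.node (.node (.leaf 41339094922) (.leaf 227096515466)) (.leaf 360777342860)) (.node (.node (.leaf 149787054464) (.leaf 150860773513)) (.leaf 35433572240))))))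
def dF_111 : BT := .node dF_109 dF_110
def dF_112 : BT := .node (.node (.node (.node (.node (.node (.node (.leaf 2684355204) (.leaf 216359018126)) (.node (.leaf 142807733764) (.leaf 155155741706))) (.node (.node (.leaf 44023451653) (.leaf 357019276544)) (.leaf 153545187215))) (.node (.node (.node (.leaf 81604383628) (.leaf 296352837771)) (.node (.leaf 272730512002) (.leaf 472983333888))) (.node (.node (.leaf 98784304128) (.leaf 33286004483)) (.leaf 169651323521)))) (.node (.node (.node (.node (.leaf 12348043777) (.leaf 193273561092)) (.node (.leaf 125627873666) (.leaf 236223224071))) (.node (.node (.leaf 118648518797) (.leaf 487478910600)) (.leaf 240518228104))) (.node (.node (.node (.leaf 109521692166) (.leaf 316753954688)) (.leaf 297963454977)) (.node (.node (.leaf 100394924047) (.leaf 116501036039)) (.leaf 311385207809))))) (.node (.node (.node (.node (.node (.leaf 6979328640) (.leaf 269509237264)) (.node (.leaf 202400409358) (.leaf 185757396355))) (.node (.node (.leaf 58518971520) (.leaf 262529997321))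 (.leaf 190052413197))) (.node (.node (.node (.leaf 35433502348) (.leaf 364535381126)) (.leaf 137975918478)) (.node (.node (.leaf 216895871107) (.leaf 95563078662)) (.leaf 140123342224)))) (.node (.node (.node (.node (.leaf 17716759439) (.leaf 427349291138)) (.node (.leaf 127775361679) (.leaf 333396932493))) (.node (.node (.leaf 145492069254) (.leaf 3758096906)) (.leaf 233002079376))) (.node (.node (.node (.leaf 34896640003) (.leaf 179851874439)) (.leaf 150323958792)) (.node (.node (.leaf 109521733891) (.leaf 137438999438)) (.leaf 536883216)))))) (.node (.node (.node (.node (.node (.node (.leaf 1610616462) (.leaf 177167425552)) (.node (.leaf 240518242306) (.leaf 170188106497))) (.node (.node (.leaf 54224001667) (.leaf 324270151561)) (.leaf 204011054859))) (.node (.node (.node (.leaf 35970372101) (.leaf 271656740880)) (.leaf 133680948366)) (.node (.node (.leaf 96636823432) (.leaf 59055836556)) (.leaf 171261937926)))) (.node (.node (.node (.node (.leaf 13421788290) (.leaf 366146049424)) (.node (.leaf 295279084173)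 (.leaf 275951734539))) (.node (.node (.leaf 149787034765) (.leaf 501974425732)) (.leaf 297426548225))) (.node (.node (.node (.leaf 88046858376) (.leaf 357019201671)) (.leaf 151397698688)) (.node (.node (.leaf 186831142797) (.leaf 127775335695)) (.leaf 54224075792))))) (.node (.node (.node (.node (.node (.leaf 6442461070) (.leaf 446676685072)) (.node (.leaf 144418352643) (.leaf 200789807494))) (.node (.node (.leaf 63350812163) (.leaf 460098493568)) (.leaf 222801514377))) (.node (.node (.node (.leaf 26306699273) (.leaf 323196368527)) (.leaf 141734017668)) (.node (.node (.leaf 253403100931) (.leaf 102542380814)) (.leaf 212600940176)))) (.node (.node (.node (.node (.leaf 25769805443) (.leaf 360777363082)) (.node (.leaf 233002062477) (.leaf 392452707712))) (.node (.node (.leaf 93952463368) (.leaf 11811170187)) (.leaf 257698151435))) (.node (.node (.node (.leaf 40265352581) (.leaf 185757455113)) (.leaf 227096485508)) (.node (.node (.leaf 291520974848) (.leaf 149787044110)) (.leaf 225485824520))))))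
def dF_113 : BT := .node (.node (.node (.node (.node (.node (.node (.leaf 2147485961) (.leaf 356482316816)) (.node (.leaf 129922833411) (.leaf 165356300552))) (.node (.node (.leaf 52613387919) (.leaf 287226058369)) (.leaf 285615400464))) (.node (.node (.node (.leaf 44023428748) (.leaf 418759394315)) (.leaf 134754688897)) (.node (.node (.leaf 96099951105) (.leaf 52613370383)) (.leaf 463319713158)))) (.node (.node (.node (.node (.leaf 12884916097) (.leaf 126701565584)) (.node (.leaf 343060594688) (.leaf 258771806987))) (.node (.node (.leaf 201863511301) (.leaf 395137113993)) (.leaf 303332137602))) (.node (.node (.node (.leaf 28991056774) (.leaf 299574010766)) (.leaf 143881504136)) (.node (.node (.leaf 228170202113) (.leaf 119185382159)) (.leaf 260382406800))))) (.node (.node (.node (.node (.node (.leaf 5905588489) (.leaf 245350045697)) (.node (.leaf 202937281164) (.leaf 191126107790))) (.node (.node (.leaf 59055843329) (.leaf 234075839232)) (.leaf 268972438278))) (.node (.node (.node (.leaf 23622343043) (.leaf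 466004005888)) (.leaf 140123403524)) (.node (.node (.leaf 258771822086) (.leaf 97710529162)) (.leaf 181462418432)))) (.node (.node (.node (.node (.leaf 52613352454) (.leaf 318364525070)) (.node (.leaf 307090247436) (.leaf 360240429959))) (.node (.node (.leaf 128312200972) (.leaf 8053069186)) (.leaf 241592023180))) (.node (.node (.node (.leaf 37580996366) (.leaf 397821464968)) (.leaf 437549897738)) (.node (.node (.leaf 134217796618) (.leaf 142270884617)) (.leaf 195421045508)))))) (.node (.node (.node (.node (.node (.node (.leaf 4294972431) (.leaf 198642350351)) (.node (.leaf 116501062530) (.leaf 175019987723))) (.node (.node (.leaf 55297744777) (.leaf 229244000384)) (.leaf 187368057997))) (.node (.node (.node (.leaf 40802210819) (.leaf 489089512457)) (.leaf 380104698631)) (.node (.node (.leaf 104153017736) (.leaf 70330117263)) (.leaf 198642355590)))) (.node (.node (.node (.node (.leaf 12884919183) (.leaf 429496774786)) (.node (.leaf 324270114052) (.leaf 310848311810))) (.node (.node (.leaf 168577517582) (.leaf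 408022016388)) (.leaf 344671199754))) (.node (.node (.node (.leaf 110595437709) (.leaf 193810517768)) (.leaf 149250215950)) (.node (.node (.leaf 105226765450) (.leaf 130996510862)) (.leaf 23085504528))))) (.node (.node (.node (.node (.node (.leaf 9126816906) (.leaf 366145994886)) (.node (.leaf 119185421318) (.leaf 215285277834))) (.node (.node (.leaf 142270837771) (.leaf 504121908619)) (.leaf 199716081801))) (.node (.node (.node (.leaf 107374208005) (.leaf 374199116804)) (.leaf 392989605515)) (.node (.node (.leaf 177704334721) (.leaf 112206034442)) (.leaf 260919300368)))) (.node (.node (.node (.node (.leaf 59592685958) (.leaf 381715321092)) (.node (.leaf 129922848654) (.leaf 427349315849))) (.node (.node (.leaf 92878722574) (.leaf 22548600079)) (.leaf 201863577095))) (.node (.node (.node (.leaf 146028923274) (.leaf 188978680836)) (.leaf 153008315278)) (.node (.node (.leaf 110595478415) (.leaf 151934484746)) (.leaf 235149570960))))))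
def dF_114 : BT := .node dF_112 dF_113
def dF_115 : BT := .node dF_111 dF_114
def dF_116 : BT := .node (.node (.node (.node (.node (.node (.node (.leaf 2147484161) (.leaf 276488560394)) (.node (.leaf 199716050180) (.leaf 154082000138))) (.node (.node (.leaf 59055836685) (.leaf 191126164737)) (.leaf 153545186824))) (.node (.node (.node (.leaf 14495518224) (.leaf 472446493193)) (.node (.leaf 175020005894) (.leaf 460635296128))) (.node (.node (.leaf 95026207369) (.leaf 30601649926)) (.leaf 169114452364)))) (.node (.node (.node (.node (.leaf 10200559875) (.leaf 419296278416)) (.node (.leaf 211527219338) (.leaf 235149483520))) (.node (.node (.leaf 69793265664) (.leaf 337691926144)) (.leaf 468688365840))) (.node (.node (.node (.leaf 30601667973) (.leaf 272730480394)) (.leaf 143344632322)) (.node (.node (.leaf 134217761795) (.leaf 115427294220)) (.leaf 312995790096))))) (.node (.node (.node (.node (.node (.leaf 5368715651) (.leaf 237833877770)) (.node (.leaf 114890450441) (.leaf 181999319691))) (.node (.node (.leaf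 57445229069) (.leaf 244276386191)) (.leaf 227096505995))) (.node (.node (.node (.leaf 90194334986) (.leaf 393526412297)) (.leaf 140123401857)) (.node (.node (.leaf 99858051463) (.leaf 93952415118)) (.leaf 391378988048)))) (.node (.node (.node (.node (.leaf 16643016973) (.leaf 326954461321)) (.node (.leaf 127775361160) (.leaf 330175686029))) (.node (.node (.leaf 91268107016) (.leaf 1610616205)) (.leaf 317827659784))) (.node (.node (.node (.leaf 112206050829) (.leaf 194884259852)) (.leaf 198642340494)) (.node (.node (.leaf 108984862851) (.leaf 134754614154)) (.leaf 82141269008)))))) (.node (.node (.node (.node (.node (.node (.leaf 14495518080) (.leaf 304942793104)) (.node (.leaf 113816706825) (.leaf 167503808899))) (.node (.node (.leaf 53687130383) (.leaf 505732519808)) (.leaf 155692672270))) (.node (.node (.node (.leaf 43486564748) (.leaf 271119873295)) (.leaf 272730514183)) (.node (.node (.leaf 96099952014) (.leaf 58518953985)) (.leaf 383325948032)))) (.node (.node (.node (.node (.leaf 35433495435) (.leaf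 295279027982)) (.node (.leaf 284541665801) (.leaf 270583026573))) (.node (.node (.leaf 209916576768) (.leaf 512711843979)) (.leaf 402653264256))) (.node (.node (.node (.leaf 118111628928) (.leaf 352724278030)) (.leaf 150323956481)) (.node (.node (.leaf 102005538693) (.leaf 125627873679)) (.leaf 337691847050))))) (.node (.node (.node (.node (.node (.leaf 7516202500) (.leaf 264677392387)) (.node (.leaf 118111677829) (.leaf 199179201927))) (.node (.node (.leaf 175556832269) (.leaf 360777374726)) (.leaf 263603729923))) (.node (.node (.node (.leaf 24159215237) (.leaf 365072276367)) (.leaf 140123404429)) (.node (.node (.leaf 142807709703) (.leaf 100931770895)) (.leaf 297963403791)))) (.node (.node (.node (.node (.leaf 32749127308) (.leaf 433791808515)) (.node (.leaf 202937291265) (.leaf 380104650116))) (.node (.node (.leaf 224412094726) (.leaf 11274301964)) (.leaf 166966966925))) (.node (.node (.node (.leaf 137438987275) (.leaf 347355599498)) (.leaf 375272821641)) (.node (.node (.leaf 220654014081) (.leaf 148713278479))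 (.leaf 369904073488))))))
def dF_117 : BT := .node (.node (.node (.node (.node (.node (.node (.leaf 536872844) (.leaf 353797965317)) (.node (.leaf 216359049734) (.leaf 163745682955))) (.node (.node (.leaf 48855291022) (.leaf 200789841412)) (.leaf 258771886732))) (.node (.node (.node (.leaf 57982072325) (.leaf 347892446991)) (.leaf 132607204871)) (.node (.node (.leaf 95563079693) (.leaf 45634030474)) (.leaf 270046184715)))) (.node (.node (.node (.node (.leaf 28454172171) (.leaf 377420296330)) (.node (.leaf 291520987021) (.leaf 250181892362))) (.node (.node (.leaf 70330137602) (.leaf 272730546048)) (.leaf 248571314573))) (.node (.node (.node (.leaf 57982085387) (.leaf 402116425349)) (.leaf 185757435143)) (.node (.node (.leaf 235149523718) (.leaf 118648545801)) (.leaf 88583721744))))) (.node (.node (.node (.node (.node (.leaf 8589942662) (.leaf 149787048336)) (.node (.leaf 117037935111) (.leaf 189515521931))) (.node (.node (.leaf 155155736204) (.leaf 229244001027)) (.leaf 234075828747))) (.node (.node (.node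 (.leaf 23085471759) (.leaf 234075804940)) (.leaf 324270125706)) (.node (.node (.leaf 178778037506) (.leaf 97173658379)) (.leaf 403190134413)))) (.node (.node (.node (.node (.leaf 86436237444) (.leaf 430570558094)) (.node (.leaf 130996588033) (.leaf 359703597444))) (.node (.node (.leaf 91268107662) (.leaf 6979327875)) (.leaf 348429334530))) (.node (.node (.node (.leaf 35433512334) (.leaf 397821464965)) (.leaf 151397701511)) (.node (.node (.leaf 129922829061) (.leaf 141734014600)) (.leaf 67645768080)))))) (.node (.node (.node (.node (.node (.node (.leaf 16106131851) (.leaf 255013796496)) (.node (.leaf 252329401994) (.leaf 171261868942))) (.node (.node (.leaf 100931771915) (.leaf 344134375559)) (.leaf 185757445133))) (.node (.node (.node (.leaf 46170919693) (.leaf 331249422983)) (.leaf 192199879051)) (.node (.node (.leaf 97173695501) (.leaf 68182640779)) (.leaf 175020035456)))) (.node (.node (.node (.node (.leaf 44023431563) (.leaf 221727745552)) (.node (.leaf 125627876614) (.leaf 299037168393))) (.node (.node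 (.leaf 88046880398) (.leaf 506269393291)) (.leaf 325343870214))) (.node (.node (.node (.leaf 70330118921) (.leaf 395673980675)) (.leaf 149250215818)) (.node (.node (.leaf 103079281293) (.leaf 130459676039)) (.leaf 135828386576))))) (.node (.node (.node (.node (.node (.leaf 14495525768) (.leaf 303332128266)) (.node (.leaf 118648550159) (.leaf 202937232012))) (.node (.node (.leaf 134217773579) (.leaf 234612710662)) (.leaf 367219772039))) (.node (.node (.node (.leaf 25232958095) (.leaf 222264610958)) (.leaf 292057873675)) (.node (.node (.leaf 186294269068) (.leaf 109521672718)) (.leaf 317290784016)))) (.node (.node (.node (.node (.leaf 30601662599) (.leaf 287225983374)) (.node (.leaf 131533460869) (.leaf 412316945667))) (.node (.node (.leaf 134217782541) (.leaf 18253614858)) (.leaf 333396928016))) (.node (.node (.node (.leaf 48855287941) (.leaf 190589293575)) (.leaf 151934572810)) (.node (.node (.leaf 294205329924) (.leaf 151397613838)) (.leaf 305479665157))))))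
def dF_118 : BT := .node dF_116 dF_117
def dF_119 : BT := .node (.node (.node (.node (.node (.node (.node (.leaf 1610613642) (.leaf 192736690309)) (.node (.leaf 294205331336) (.leaf 155692671621))) (.node (.node (.leaf 116501025034) (.leaf 376346629515)) (.leaf 265214337031))) (.node (.node (.node (.leaf 22011715216) (.leaf 336618092040)) (.node (.leaf 292594735883) (.leaf 490163232644))) (.node (.node (.leaf 95563079045) (.leaf 37580965262)) (.leaf 180925612800)))) (.node (.node (.node (.node (.leaf 25232946059) (.leaf 193810432271)) (.node (.leaf 121332906759) (.leaf 240518209411))) (.node (.node (.leaf 150323902859) (.leaf 293131640577)) (.leaf 392452731658))) (.node (.node (.node (.leaf 44560312320) (.leaf 228707066756)) (.leaf 185757434501)) (.node (.node (.leaf 100931795205) (.leaf 117037886086)) (.leaf 311385226509))))) (.node (.node (.node (.node (.node (.leaf 25232940160) (.leaf 170725023248)) (.node (.leaf 202400409613) (.leaf 186294237451))) (.node (.node (.leaf 153545123085) (.leaf 508953745924))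 (.leaf 163745738759))) (.node (.node (.node (.leaf 24696084230) (.leaf 235149569160)) (.leaf 138512789637)) (.node (.node (.leaf 215822129286) (.leaf 96099946118)) (.leaf 401042604815)))) (.node (.node (.node (.node (.leaf 19327372815) (.leaf 427349281551)) (.node (.leaf 128312232836) (.leaf 335007524105))) (.node (.node (.leaf 90731236494) (.leaf 5368716687)) (.leaf 229780853760))) (.node (.node (.node (.leaf 63350798734) (.leaf 397821464718)) (.leaf 151934571908)) (.node (.node (.leaf 132070312458) (.leaf 138512729225)) (.leaf 2147487376)))))) (.node (.node (.node (.node (.node (.node (.leaf 12884905737) (.leaf 201326616840)) (.node (.leaf 241055113346) (.leaf 170725006339))) (.node (.node (.leaf 97173674891) (.leaf 229244000263)) (.leaf 159987640591))) (.node (.node (.node (.leaf 31675391362) (.leaf 488552618510)) (.leaf 134217819657)) (.node (.node (.leaf 98247436549) (.leaf 59592700303)) (.leaf 171261938191)))) (.node (.node (.node (.node (.leaf 11811175943) (.leaf 362387913479)) (.node (.leaf 296352826252)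 (.leaf 292594710148))) (.node (.node (.leaf 150323905805) (.leaf 495531974917)) (.leaf 298500320392))) (.node (.node (.node (.leaf 121869726082) (.leaf 395673980544)) (.leaf 151934569728)) (.node (.node (.leaf 102542409991) (.leaf 128312178958)) (.leaf 24696179600))))) (.node (.node (.node (.node (.node (.leaf 6979332490) (.leaf 186294297093)) (.node (.leaf 209916604298) (.leaf 201326632846))) (.node (.node (.leaf 129922805515) (.leaf 380104727692)) (.leaf 275414843527))) (.node (.node (.node (.leaf 35970375942) (.leaf 402116367626)) (.leaf 141734017929)) (.node (.node (.leaf 99858051721) (.leaf 103079251725)) (.leaf 179851842185)))) (.node (.node (.node (.node (.leaf 30601649410) (.leaf 228170193550)) (.node (.leaf 137439040261) (.leaf 395673932810))) (.node (.node (.leaf 132070298381) (.leaf 12348043532)) (.leaf 372588497545))) (.node (.node (.node (.leaf 140660213387) (.leaf 367756694275)) (.leaf 170725039876)) (.node (.node (.leaf 287762878596) (.leaf 150323902474)) (.leaf 224412082702))))))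
def dF_120 : BT := .node (.node (.node (.node (.node (.node (.node (.leaf 1073744514) (.leaf 224948974978)) (.node (.leaf 304405879946) (.leaf 165893170310))) (.node (.node (.leaf 68182644486) (.leaf 192736777996)) (.leaf 154618929934))) (.node (.node (.node (.leaf 29527916813) (.leaf 276488582532)) (.leaf 142270881926)) (.node (.node (.leaf 96099951366) (.leaf 54223985291)) (.leaf 306016536068)))) (.node (.node (.node (.node (.leaf 32749140235) (.leaf 185220494736)) (.node (.leaf 125091004677) (.leaf 263603670923))) (.node (.node (.leaf 76772589582) (.leaf 505195651073)) (.leaf 441307944202))) (.node (.node (.node (.leaf 28991057036) (.leaf 297963403790)) (.leaf 195421112075)) (.node (.node (.leaf 228170202119) (.leaf 120795983744)) (.leaf 5368738832))))) (.node (.node (.node (.node (.node (.leaf 6979330564) (.leaf 246423801488)) (.node (.leaf 117037935501) (.leaf 194884176898))) (.node (.node (.leaf 119722256651) (.leaf 509490617226)) (.leaf 165356352517))) (.node (.node (.node (.leaf 54223985422) (.leaf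 490163232130)) (.leaf 400505796106)) (.node (.node (.leaf 223875193217) (.leaf 99858010760)) (.leaf 435939216016)))) (.node (.node (.node (.node (.leaf 23085450884) (.leaf 293131587598)) (.node (.leaf 216895934348) (.leaf 363461649929))) (.node (.node (.leaf 92341850116) (.leaf 9126817165)) (.leaf 238907668751))) (.node (.node (.node (.leaf 39728480515) (.leaf 496605712908)) (.leaf 292057813129)) (.node (.node (.leaf 109521734922) (.leaf 143881488773)) (.leaf 219580224654)))))) (.node (.node (.node (.node (.node (.node (.leaf 4831843719) (.leaf 432181124100)) (.node (.leaf 114353579151) (.leaf 178241204494))) (.node (.node (.leaf 106837352715) (.leaf 270583060746)) (.leaf 187904929037))) (.node (.node (.node (.leaf 41339081857) (.leaf 272193609732)) (.leaf 137975917701)) (.node (.node (.leaf 255013744266) (.leaf 88583713034)) (.leaf 406411398659)))) (.node (.node (.node (.node (.leaf 14495532428) (.leaf 449361060752)) (.node (.leaf 300647794189) (.leaf 314606382340))) (.node (.node (.leaf 169651259662) (.leaf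 511638102534)) (.leaf 168040707971))) (.node (.node (.node (.leaf 126164694402) (.leaf 284004831118)) (.leaf 198105469067)) (.node (.node (.leaf 106837378831) (.leaf 132607189385)) (.leaf 536979984))))) (.node (.node (.node (.node (.node (.leaf 16106139145) (.leaf 357556116224)) (.node (.leaf 120796034434) (.leaf 215822129423))) (.node (.node (.leaf 143344579851) (.leaf 239444549126)) (.leaf 427886164495))) (.node (.node (.node (.leaf 27917313160) (.leaf 443455438350)) (.leaf 142807760897)) (.node (.node (.leaf 186294269699) (.leaf 114353532167)) (.leaf 319975090832)))) (.node (.node (.node (.node (.leaf 25232939024) (.leaf 249108167311)) (.node (.leaf 131533461511) (.leaf 430570558468))) (.node (.node (.leaf 135291524748) (.leaf 25232934279)) (.leaf 169114451844))) (.node (.node (.node (.leaf 43486579716) (.leaf 268972446849)) (.leaf 200789826571)) (.node (.node (.leaf 111132349828) (.leaf 153545140226)) (.leaf 236223223950))))))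
def dF_121 : BT := .node dF_119 dF_120
def dF_122 : BT := .node dF_118 dF_121
def dF_123 : BT := .node dF_115 dF_122
def dF_124 : BT := .node dF_108 dF_123
def dF_125 : BT := .node dF_93 dF_124
def dF_126 : BT := .node dF_62 dF_125
def dF : BT := dF_126
def dP_0 : BT := .node (.node (.node (.node (.node (.node (.node (.leaf 0) (.leaf 24328)) (.node (.leaf 9472) (.leaf 34049))) (.node (.node (.leaf 2829) (.leaf 29825)) (.node (.leaf 18318) (.leaf 40326)))) (.node (.node (.node (.leaf 1414) (.leaf 27148)) (.node (.leaf 13071) (.leaf 36737))) (.node (.node (.leaf 5774) (.leaf 31631)) (.node (.leaf 22796) (.leaf 65666))))) (.node (.node (.node (.node (.leaf 527) (.leaf 26369)) (.node (.leaf 10500) (.leaf 35598))) (.node (.node (.leaf 5135) (.leaf 30728)) (.node (.leaf 22020) (.leaf 42882)))) (.node (.node (.node (.leaf 2190) (.leaf 28175)) (.node (.leaf 15232) (.leaf 39046))) (.node (.node (.leaf 7046) (.leaf 33025)) (.leaf 23695))))) (.node (.node (.node (.node (.node (.leaf 141) (.leaf 25610)) (.node (.leaf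 9742) (.leaf 34702))) (.node (.node (.leaf 3852) (.leaf 30468)) (.node (.leaf 21376) (.leaf 40591)))) (.node (.node (.node (.leaf 1551) (.leaf 27407)) (.node (.leaf 14081) (.leaf 37902))) (.node (.node (.leaf 6794) (.leaf 32271)) (.leaf 23049)))) (.node (.node (.node (.node (.leaf 1165) (.leaf 26511)) (.node (.leaf 12808) (.leaf 35982))) (.node (.node (.leaf 5519) (.leaf 30991)) (.node (.leaf 22543) (.leaf 46472)))) (.node (.node (.node (.leaf 2573) (.leaf 28553)) (.node (.leaf 16640) (.leaf 39686))) (.node (.node (.leaf 8322) (.leaf 33294)) (.leaf 23951)))))) (.node (.node (.node (.node (.node (.node (.leaf 15) (.leaf 24719)) (.node (.leaf 9600) (.leaf 34188))) (.node (.node (.leaf 3213) (.leaf 29953)) (.node (.leaf 20865) (.leaf 40457)))) (.node (.node (.node (.leaf 1538) (.leaf 27278)) (.node (.leaf 13839) (.leaf 37006))) (.node (.node (.leaf 6658) (.leaf 31881)) (.leaf 22921)))) (.node (.node (.node (.node (.leaf 1039) (.leaf 26496)) (.node (.leaf 11406) (.leaf 35848))) (.node (.node (.leaf 5386) (.leaf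 30857)) (.node (.leaf 22146) (.leaf 44680)))) (.node (.node (.node (.leaf 2445) (.leaf 28422)) (.node (.leaf 16129) (.leaf 39428))) (.node (.node (.leaf 7695) (.leaf 33160)) (.leaf 23823))))) (.node (.node (.node (.node (.node (.leaf 268) (.leaf 25734)) (.node (.leaf 10372) (.leaf 35465))) (.node (.node (.leaf 4366) (.leaf 30598)) (.node (.leaf 21518) (.leaf 41359)))) (.node (.node (.node (.leaf 1805) (.leaf 27918)) (.node (.leaf 14729) (.leaf 38912))) (.node (.node (.leaf 6922) (.leaf 32782)) (.leaf 23180)))) (.node (.node (.node (.node (.leaf 1290) (.leaf 27020)) (.node (.leaf 12940) (.leaf 36495))) (.node (.node (.leaf 5646) (.leaf 31497)) (.node (.leaf 22670) (.leaf 53385)))) (.node (.node (.node (.leaf 2700) (.leaf 28943)) (.node (.leaf 16770) (.leaf 40079))) (.node (.node (.leaf 8450) (.leaf 33804)) (.leaf 24194))))))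
def dP_1 : BT := .node (.node (.node (.node (.node (.node (.node (.leaf 11) (.leaf 24335)) (.node (.leaf 9478) (.leaf 34178))) (.node (.node (.leaf 2956) (.leaf 29834)) (.node (.leaf 19599) (.leaf 40335)))) (.node (.node (.node (.leaf 1420) (.leaf 27272)) (.node (.leaf 13708) (.leaf 36751))) (.node (.node (.leaf 6030) (.leaf 31758)) (.node (.leaf 22913) (.leaf 92940))))) (.node (.node (.node (.node (.leaf 781) (.leaf 26376)) (.node (.leaf 10638) (.leaf 35721))) (.node (.node (.leaf 5258) (.leaf 30735)) (.node (.leaf 22030) (.leaf 44033)))) (.node (.node (.node (.leaf 2438) (.leaf 28297)) (.node (.leaf 15238) (.leaf 39304))) (.node (.node (.leaf 7182) (.leaf 33034)) (.leaf 23816))))) (.node (.node (.node (.node (.node (.leaf 257) (.leaf 25728)) (.node (.leaf 10255) (.leaf 35214))) (.node (.node (.leaf 4111) (.leaf 30478)) (.node (.leaf 21382) (.leaf 40847)))) (.node (.node (.node (.leaf 1676) (.leaf 27534)) (.node (.leaf 14095) (.leaf 38415))) (.node (.node (.leaf 6913) (.leaf 32776)) (.leaf 23055)))) (.node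 (.node (.node (.node (.leaf 1284) (.leaf 27012)) (.node (.leaf 12929) (.leaf 36367))) (.node (.node (.leaf 5636) (.leaf 31490)) (.node (.leaf 22664) (.leaf 53000)))) (.node (.node (.node (.leaf 2692) (.leaf 28681)) (.node (.leaf 16646) (.leaf 39817))) (.node (.node (.leaf 8334) (.leaf 33678)) (.leaf 24073)))))) (.node (.node (.node (.node (.node (.node (.leaf 132) (.leaf 25231)) (.node (.leaf 9606) (.leaf 34313))) (.node (.node (.leaf 3470) (.leaf 29967)) (.node (.leaf 20878) (.leaf 40582)))) (.node (.node (.node (.leaf 1546) (.leaf 27401)) (.node (.leaf 13956) (.leaf 37390))) (.node (.node (.leaf 6670) (.leaf 32009)) (.leaf 22927)))) (.node (.node (.node (.node (.leaf 1160) (.leaf 26502)) (.node (.leaf 12431) (.leaf 35855))) (.node (.node (.leaf 5512) (.leaf 30984)) (.node (.leaf 22158) (.leaf 45442)))) (.node (.node (.node (.leaf 2566) (.leaf 28431)) (.node (.leaf 16140) (.leaf 39553))) (.node (.node (.leaf 7950) (.leaf 33166)) (.leaf 23944))))) (.node (.node (.node (.node (.node (.leaf 397) (.leaf 25999))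 (.node (.leaf 10383) (.leaf 35588))) (.node (.node (.leaf 4623) (.leaf 30606)) (.node (.leaf 21903) (.leaf 41732)))) (.node (.node (.node (.leaf 1935) (.leaf 28166)) (.node (.leaf 15106) (.leaf 39040))) (.node (.node (.leaf 7040) (.leaf 32905)) (.leaf 23310)))) (.node (.node (.node (.node (.leaf 1295) (.leaf 27142)) (.node (.leaf 13058) (.leaf 36616))) (.node (.node (.leaf 5762) (.leaf 31622)) (.node (.leaf 22790) (.leaf 57094)))) (.node (.node (.node (.leaf 2822) (.leaf 29455)) (.node (.leaf 17039) (.leaf 40204))) (.node (.node (.leaf 8463) (.leaf 33928)) (.leaf 24204))))))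
def dP_2 : BT := .node dP_0 dP_1
def dP_3 : BT := .node (.node (.node (.node (.node (.node (.node (.leaf 9) (.leaf 24332)) (.node (.leaf 9474) (.leaf 34057))) (.node (.node (.leaf 2952) (.leaf 29828)) (.node (.leaf 18959) (.leaf 40329)))) (.node (.node (.node (.leaf 1417) (.leaf 27151)) (.node (.leaf 13455) (.leaf 36745))) (.node (.node (.leaf 5900) (.leaf 31752)) (.node (.leaf 22799) (.leaf 69514))))) (.node (.node (.node (.node (.leaf 654) (.leaf 26372)) (.node (.leaf 10510) (.leaf 35713))) (.node (.node (.leaf 5249) (.leaf 30730)) (.node (.leaf 22024) (.leaf 43014)))) (.node (.node (.node (.leaf 2434) (.leaf 28294)) (.node (.leaf 15234) (.leaf 39183))) (.node (.node (.leaf 7055) (.leaf 33032)) (.leaf 23812))))) (.node (.node (.node (.node (.node (.leaf 143) (.leaf 25614)) (.node (.leaf 9871) (.leaf 34958))) (.node (.node (.leaf 3981) (.leaf 30473)) (.node (.leaf 21378) (.leaf 40716)))) (.node (.node (.node (.leaf 1673) (.leaf 27530)) (.node (.leaf 14084) (.leaf 38159))) (.node (.node (.leaf 6799) (.leaf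 32526)) (.leaf 23052)))) (.node (.node (.node (.node (.leaf 1167) (.leaf 26766)) (.node (.leaf 12815) (.leaf 36110))) (.node (.node (.leaf 5633) (.leaf 31246)) (.node (.leaf 22660) (.leaf 51586)))) (.node (.node (.node (.leaf 2688) (.leaf 28559)) (.node (.leaf 16642) (.leaf 39692))) (.node (.node (.leaf 8326) (.leaf 33422)) (.leaf 24068)))))) (.node (.node (.node (.node (.node (.node (.leaf 129) (.leaf 24974)) (.node (.leaf 9602) (.leaf 34308))) (.node (.node (.leaf 3343) (.leaf 29958)) (.node (.leaf 20868) (.leaf 40463)))) (.node (.node (.node (.leaf 1544) (.leaf 27394)) (.node (.leaf 13953) (.leaf 37134))) (.node (.node (.leaf 6666) (.leaf 31887)) (.leaf 22924)))) (.node (.node (.node (.node (.leaf 1156) (.leaf 26498)) (.node (.leaf 11791) (.leaf 35850))) (.node (.node (.leaf 5390) (.leaf 30862)) (.node (.leaf 22150) (.leaf 45062)))) (.node (.node (.node (.leaf 2562) (.leaf 28425)) (.node (.leaf 16132) (.leaf 39433))) (.node (.node (.leaf 7945) (.leaf 33162)) (.leaf 23940))))) (.node (.node (.node (.node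 (.node (.leaf 271) (.leaf 25870)) (.node (.leaf 10378) (.leaf 35470))) (.node (.node (.leaf 4621) (.leaf 30601)) (.node (.leaf 21647) (.leaf 41615)))) (.node (.node (.node (.leaf 1932) (.leaf 28162)) (.node (.leaf 15104) (.leaf 38918))) (.node (.node (.leaf 6926) (.leaf 32902)) (.leaf 23183)))) (.node (.node (.node (.node (.leaf 1293) (.leaf 27023)) (.node (.leaf 13056) (.leaf 36612))) (.node (.node (.leaf 5760) (.leaf 31503)) (.node (.leaf 22786) (.leaf 54409)))) (.node (.node (.node (.leaf 2703) (.leaf 29198)) (.node (.leaf 16774) (.leaf 40200))) (.node (.node (.leaf 8454) (.leaf 33922)) (.leaf 24200))))))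
def dP_4 : BT := .node (.node (.node (.node (.node (.node (.node (.leaf 13) (.leaf 24463)) (.node (.leaf 9484) (.leaf 34184))) (.node (.node (.leaf 3084) (.leaf 29839)) (.node (.leaf 20495) (.leaf 40452)))) (.node (.node (.node (.leaf 1422) (.leaf 27274)) (.node (.leaf 13832) (.leaf 36878))) (.node (.node (.leaf 6286) (.leaf 31874)) (.leaf 22918)))) (.node (.node (.node (.node (.leaf 783) (.leaf 26382)) (.node (.leaf 11023) (.leaf 35726))) (.node (.node (.leaf 5263) (.leaf 30854)) (.node (.leaf 22144) (.leaf 44297)))) (.node (.node (.node (.leaf 2441) (.leaf 28303)) (.node (.leaf 15631) (.leaf 39308))) (.node (.node (.leaf 7311) (.leaf 33038)) (.leaf 23820))))) (.node (.node (.node (.node (.node (.leaf 260) (.leaf 25730)) (.node (.leaf 10369) (.leaf 35460))) (.node (.node (.leaf 4238) (.leaf 30594)) (.node (.leaf 21390) (.leaf 41103)))) (.node (.node (.node (.leaf 1679) (.leaf 27662)) (.node (.leaf 14479) (.leaf 38671))) (.node (.node (.leaf 6916) (.leaf 32778)) (.leaf 23177)))) (.node (.node (.node (.node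 (.leaf 1288) (.leaf 27017)) (.node (.leaf 12932) (.leaf 36489))) (.node (.node (.leaf 5642) (.leaf 31494)) (.node (.leaf 22666) (.leaf 53380)))) (.node (.node (.node (.leaf 2696) (.leaf 28687)) (.node (.leaf 16768) (.leaf 39823))) (.node (.node (.leaf 8448) (.leaf 33800)) (.leaf 24078)))))) (.node (.node (.node (.node (.node (.node (.leaf 138) (.leaf 25487)) (.node (.leaf 9615) (.leaf 34447))) (.node (.node (.leaf 3598) (.leaf 30222)) (.node (.leaf 21134) (.leaf 40585)))) (.node (.node (.node (.leaf 1549) (.leaf 27404)) (.node (.leaf 13967) (.leaf 37647))) (.node (.node (.leaf 6792) (.leaf 32015)) (.leaf 23046)))) (.node (.node (.node (.node (.leaf 1162) (.leaf 26506)) (.node (.leaf 12684) (.leaf 35977))) (.node (.node (.leaf 5514) (.leaf 30986)) (.node (.leaf 22286) (.leaf 45964)))) (.node (.node (.node (.leaf 2569) (.leaf 28550)) (.node (.leaf 16271) (.leaf 39561))) (.node (.node (.leaf 8320) (.leaf 33289)) (.leaf 23948))))) (.node (.node (.node (.node (.node (.leaf 524) (.leaf 26255)) (.node (.leaf 10497)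 (.leaf 35593))) (.node (.node (.leaf 4879) (.leaf 30721)) (.node (.leaf 22017) (.leaf 41862)))) (.node (.node (.node (.leaf 2062) (.leaf 28169)) (.node (.leaf 15110) (.leaf 39042))) (.node (.node (.leaf 7042) (.leaf 32908)) (.leaf 23439)))) (.node (.node (.node (.node (.leaf 1409) (.leaf 27145)) (.node (.leaf 13062) (.leaf 36622))) (.node (.node (.leaf 5766) (.leaf 31625)) (.node (.leaf 22793) (.leaf 59148)))) (.node (.node (.node (.leaf 2825) (.leaf 29711)) (.node (.leaf 17679) (.leaf 40322))) (.node (.node (.leaf 8974) (.leaf 33932)) (.leaf 24207))))))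
def dP_5 : BT := .node dP_3 dP_4
def dP_6 : BT := .node dP_2 dP_5
def dP_7 : BT := .node (.node (.node (.node (.node (.node (.node (.leaf 8) (.leaf 24329)) (.node (.leaf 9473) (.leaf 34056))) (.node (.node (.leaf 2831) (.leaf 29826)) (.node (.leaf 18575) (.leaf 40328)))) (.node (.node (.node (.leaf 1416) (.leaf 27150)) (.node (.leaf 13199) (.leaf 36744))) (.node (.node (.leaf 5775) (.leaf 31745)) (.node (.leaf 22798) (.leaf 68232))))) (.node (.node (.node (.node (.leaf 652) (.leaf 26370)) (.node (.leaf 10502) (.leaf 35599))) (.node (.node (.leaf 5248) (.leaf 30729)) (.node (.leaf 22022) (.leaf 42886)))) (.node (.node (.node (.leaf 2319) (.leaf 28292)) (.node (.leaf 15233) (.leaf 39055))) (.node (.node (.leaf 7054) (.leaf 33028)) (.leaf 23810))))) (.node (.node (.node (.node (.node (.leaf 142) (.leaf 25612)) (.node (.leaf 9870) (.leaf 34830))) (.node (.node (.leaf 3855) (.leaf 30472)) (.node (.leaf 21377) (.leaf 40713)))) (.node (.node (.node (.leaf 1672) (.leaf 27528)) (.node (.leaf 14082) (.leaf 38030)))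 (.node (.node (.leaf 6798) (.leaf 32398)) (.leaf 23050)))) (.node (.node (.node (.node (.leaf 1166) (.leaf 26638)) (.node (.leaf 12809) (.leaf 35983))) (.node (.node (.leaf 5632) (.leaf 31118)) (.node (.leaf 22658) (.leaf 47496)))) (.node (.node (.node (.leaf 2575) (.leaf 28558)) (.node (.leaf 16641) (.leaf 39689))) (.node (.node (.leaf 8324) (.leaf 33420)) (.leaf 24065)))))) (.node (.node (.node (.node (.node (.node (.leaf 128) (.leaf 24846)) (.node (.leaf 9601) (.leaf 34191))) (.node (.node (.leaf 3215) (.leaf 29956)) (.node (.leaf 20866) (.leaf 40460)))) (.node (.node (.node (.leaf 1542) (.leaf 27279)) (.node (.leaf 13952) (.leaf 37007))) (.node (.node (.leaf 6664) (.leaf 31886)) (.leaf 22922)))) (.node (.node (.node (.node (.leaf 1154) (.leaf 26497)) (.node (.leaf 11662) (.leaf 35849))) (.node (.node (.leaf 5388) (.leaf 30858)) (.node (.leaf 22148) (.leaf 44681)))) (.node (.node (.node (.leaf 2447) (.leaf 28424)) (.node (.leaf 16130) (.leaf 39432))) (.node (.node (.leaf 7944) (.leaf 33161)) (.leaf 23938)))))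 (.node (.node (.node (.node (.node (.leaf 269) (.leaf 25742)) (.node (.leaf 10374) (.leaf 35466))) (.node (.node (.leaf 4495) (.leaf 30600)) (.node (.leaf 21646) (.leaf 41487)))) (.node (.node (.node (.leaf 1806) (.leaf 28047)) (.node (.leaf 14735) (.leaf 38916))) (.node (.node (.leaf 6924) (.leaf 32900)) (.leaf 23182)))) (.node (.node (.node (.node (.leaf 1292) (.leaf 27022)) (.node (.leaf 12943) (.leaf 36610))) (.node (.node (.leaf 5647) (.leaf 31502)) (.node (.leaf 22671) (.leaf 54286)))) (.node (.node (.node (.leaf 2701) (.leaf 29070)) (.node (.leaf 16772) (.leaf 40196))) (.node (.node (.leaf 8452) (.leaf 33807)) (.leaf 24198))))))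
def dP_8 : BT := .node (.node (.node (.node (.node (.node (.node (.leaf 12) (.leaf 24462)) (.node (.leaf 9482) (.leaf 34182))) (.node (.node (.leaf 2959) (.leaf 29838)) (.node (.leaf 20366) (.leaf 40449)))) (.node (.node (.node (.leaf 1421) (.leaf 27273)) (.node (.leaf 13711) (.leaf 36866))) (.node (.node (.leaf 6031) (.leaf 31759)) (.leaf 22916)))) (.node (.node (.node (.node (.leaf 782) (.leaf 26378)) (.node (.leaf 10894) (.leaf 35722))) (.node (.node (.leaf 5262) (.leaf 30850)) (.node (.leaf 22031) (.leaf 44038)))) (.node (.node (.node (.leaf 2440) (.leaf 28302)) (.node (.leaf 15247) (.leaf 39305))) (.node (.node (.leaf 7310) (.leaf 33036)) (.leaf 23817))))) (.node (.node (.node (.node (.node (.leaf 258) (.leaf 25729)) (.node (.leaf 10368) (.leaf 35343))) (.node (.node (.leaf 4236) (.leaf 30479)) (.node (.leaf 21388) (.leaf 40975)))) (.node (.node (.node (.leaf 1678) (.leaf 27535)) (.node (.leaf 14223) (.leaf 38543))) (.node (.node (.leaf 6914) (.leaf 32777)) (.leaf 23176)))) (.node (.node (.node (.node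 (.leaf 1286) (.leaf 27016)) (.node (.leaf 12930) (.leaf 36488))) (.node (.node (.leaf 5638) (.leaf 31492)) (.node (.leaf 22665) (.leaf 53001)))) (.node (.node (.node (.leaf 2694) (.leaf 28686)) (.node (.leaf 16655) (.leaf 39820))) (.node (.node (.leaf 8335) (.leaf 33796)) (.leaf 24076)))))) (.node (.node (.node (.node (.node (.node (.leaf 134) (.leaf 25358)) (.node (.leaf 9612) (.leaf 34319))) (.node (.node (.leaf 3597) (.leaf 30094)) (.node (.leaf 21006) (.leaf 40584)))) (.node (.node (.node (.leaf 1548) (.leaf 27402)) (.node (.leaf 13958) (.leaf 37518))) (.node (.node (.leaf 6671) (.leaf 32014)) (.leaf 23042)))) (.node (.node (.node (.node (.leaf 1161) (.leaf 26505)) (.node (.leaf 12559) (.leaf 35972))) (.node (.node (.leaf 5513) (.leaf 30985)) (.node (.leaf 22159) (.leaf 45449)))) (.node (.node (.node (.leaf 2568) (.leaf 28546)) (.node (.leaf 16143) (.leaf 39560))) (.node (.node (.leaf 7951) (.leaf 33288)) (.leaf 23945))))) (.node (.node (.node (.node (.node (.leaf 398) (.leaf 26126)) (.node (.leaf 10496)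 (.leaf 35592))) (.node (.node (.leaf 4750) (.leaf 30607)) (.node (.leaf 22016) (.leaf 41857)))) (.node (.node (.node (.leaf 2061) (.leaf 28168)) (.node (.leaf 15108) (.leaf 39041))) (.node (.node (.leaf 7041) (.leaf 32906)) (.leaf 23438)))) (.node (.node (.node (.node (.leaf 1408) (.leaf 27144)) (.node (.leaf 13060) (.leaf 36617))) (.node (.node (.leaf 5764) (.leaf 31624)) (.node (.leaf 22792) (.leaf 58378)))) (.node (.node (.node (.leaf 2824) (.leaf 29582)) (.node (.leaf 17295) (.leaf 40207))) (.node (.node (.leaf 8590) (.leaf 33929)) (.leaf 24206))))))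
def dP_9 : BT := .node dP_7 dP_8
def dP_10 : BT := .node (.node (.node (.node (.node (.node (.node (.leaf 10) (.leaf 24334)) (.node (.leaf 9476) (.leaf 34063))) (.node (.node (.leaf 2953) (.leaf 29830)) (.node (.leaf 19470) (.leaf 40332)))) (.node (.node (.node (.leaf 1418) (.leaf 27265)) (.node (.leaf 13698) (.leaf 36750))) (.node (.node (.leaf 5902) (.leaf 31753)) (.node (.leaf 22912) (.leaf 75906))))) (.node (.node (.node (.node (.leaf 655) (.leaf 26374)) (.node (.leaf 10511) (.leaf 35720))) (.node (.node (.leaf 5256) (.leaf 30734)) (.node (.leaf 22026) (.leaf 44032)))) (.node (.node (.node (.leaf 2436) (.leaf 28296)) (.node (.leaf 15236) (.leaf 39300))) (.node (.node (.leaf 7180) (.leaf 33033)) (.leaf 23814))))) (.node (.node (.node (.node (.node (.leaf 256) (.leaf 25615)) (.node (.leaf 10126) (.leaf 35087))) (.node (.node (.leaf 3983) (.leaf 30474)) (.node (.leaf 21380) (.leaf 40719)))) (.node (.node (.node (.leaf 1674) (.leaf 27532)) (.node (.leaf 14086) (.leaf 38286))) (.node (.node (.leaf 6912) (.leaf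 32655)) (.leaf 23054)))) (.node (.node (.node (.node (.leaf 1282) (.leaf 26895)) (.node (.leaf 12928) (.leaf 36238))) (.node (.node (.leaf 5634) (.leaf 31375)) (.node (.leaf 22662) (.leaf 52872)))) (.node (.node (.node (.leaf 2689) (.leaf 28676)) (.node (.leaf 16644) (.leaf 39695))) (.node (.node (.leaf 8330) (.leaf 33550)) (.leaf 24072)))))) (.node (.node (.node (.node (.node (.node (.leaf 130) (.leaf 25102)) (.node (.leaf 9604) (.leaf 34312))) (.node (.node (.leaf 3468) (.leaf 29966)) (.node (.leaf 20870) (.leaf 40578)))) (.node (.node (.node (.leaf 1545) (.leaf 27400)) (.node (.leaf 13954) (.leaf 37263))) (.node (.node (.leaf 6668) (.leaf 32008)) (.leaf 22926)))) (.node (.node (.node (.node (.leaf 1158) (.leaf 26500)) (.node (.leaf 12302) (.leaf 35854))) (.node (.node (.leaf 5391) (.leaf 30863)) (.node (.leaf 22154) (.leaf 45192)))) (.node (.node (.node (.leaf 2564) (.leaf 28430)) (.node (.leaf 16134) (.leaf 39439))) (.node (.node (.leaf 7946) (.leaf 33164)) (.leaf 23942))))) (.node (.node (.node (.node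 (.node (.leaf 396) (.leaf 25998)) (.node (.leaf 10382) (.leaf 35471))) (.node (.node (.leaf 4622) (.leaf 30602)) (.node (.leaf 21774) (.leaf 41728)))) (.node (.node (.node (.leaf 1934) (.leaf 28164)) (.node (.leaf 15105) (.leaf 38927))) (.node (.node (.leaf 6927) (.leaf 32904)) (.leaf 23308)))) (.node (.node (.node (.node (.leaf 1294) (.leaf 27140)) (.node (.leaf 13057) (.leaf 36614))) (.node (.node (.leaf 5761) (.leaf 31620)) (.node (.leaf 22788) (.leaf 55936)))) (.node (.node (.node (.leaf 2818) (.leaf 29326)) (.node (.leaf 16783) (.leaf 40201))) (.node (.node (.leaf 8462) (.leaf 33924)) (.leaf 24201))))))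
def dP_11 : BT := .node (.node (.node (.node (.node (.node (.node (.leaf 14) (.leaf 24590)) (.node (.leaf 9486) (.leaf 34185))) (.node (.node (.leaf 3087) (.leaf 29952)) (.node (.leaf 20864) (.leaf 40456)))) (.node (.node (.node (.leaf 1423) (.leaf 27276)) (.node (.leaf 13833) (.leaf 36879))) (.node (.node (.leaf 6415) (.leaf 31880)) (.leaf 22920)))) (.node (.node (.node (.node (.leaf 910) (.leaf 26383)) (.node (.leaf 11150) (.leaf 35727))) (.node (.node (.leaf 5384) (.leaf 30856)) (.node (.leaf 22145) (.leaf 44552)))) (.node (.node (.node (.leaf 2444) (.leaf 28417)) (.node (.leaf 16128) (.leaf 39311))) (.node (.node (.leaf 7566) (.leaf 33154)) (.leaf 23822))))) (.node (.node (.node (.node (.node (.leaf 262) (.leaf 25732)) (.node (.leaf 10370) (.leaf 35464))) (.node (.node (.leaf 4239) (.leaf 30596)) (.node (.leaf 21516) (.leaf 41231)))) (.node (.node (.node (.leaf 1804) (.leaf 27790)) (.node (.leaf 14728) (.leaf 38799))) (.node (.node (.leaf 6918) (.leaf 32780)) (.leaf 23178)))) (.node (.node (.node (.node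 (.leaf 1289) (.leaf 27018)) (.node (.leaf 12934) (.leaf 36494))) (.node (.node (.leaf 5644) (.leaf 31496)) (.node (.leaf 22668) (.leaf 53384)))) (.node (.node (.node (.leaf 2697) (.leaf 28814)) (.node (.leaf 16769) (.leaf 39951))) (.node (.node (.leaf 8449) (.leaf 33801)) (.leaf 24079)))))) (.node (.node (.node (.node (.node (.node (.leaf 140) (.leaf 25608)) (.node (.leaf 9740) (.leaf 34575))) (.node (.node (.leaf 3726) (.leaf 30351)) (.node (.leaf 21263) (.leaf 40588)))) (.node (.node (.node (.leaf 1550) (.leaf 27406)) (.node (.leaf 14080) (.leaf 37774))) (.node (.node (.leaf 6793) (.leaf 32142)) (.leaf 23048)))) (.node (.node (.node (.node (.leaf 1164) (.leaf 26510)) (.node (.leaf 12687) (.leaf 35978))) (.node (.node (.leaf 5518) (.leaf 30990)) (.node (.leaf 22414) (.leaf 46092)))) (.node (.node (.node (.leaf 2572) (.leaf 28552)) (.node (.leaf 16527) (.leaf 39567))) (.node (.node (.leaf 8321) (.leaf 33290)) (.leaf 23950))))) (.node (.node (.node (.node (.node (.leaf 525) (.leaf 26368)) (.node (.leaf 10498)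 (.leaf 35594))) (.node (.node (.leaf 5006) (.leaf 30724)) (.node (.leaf 22018) (.leaf 41865)))) (.node (.node (.node (.leaf 2063) (.leaf 28174)) (.node (.leaf 15119) (.leaf 39044))) (.node (.node (.leaf 7044) (.leaf 32910)) (.leaf 23566)))) (.node (.node (.node (.node (.leaf 1412) (.leaf 27146)) (.node (.leaf 13068) (.leaf 36623))) (.node (.node (.leaf 5772) (.leaf 31630)) (.node (.leaf 22794) (.leaf 62732)))) (.node (.node (.node (.leaf 2828) (.leaf 29824)) (.node (.leaf 17934) (.leaf 40324))) (.node (.node (.leaf 9103) (.leaf 33935)) (.leaf 24324))))))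
def dP_12 : BT := .node dP_10 dP_11
def dP_13 : BT := .node dP_9 dP_12
def dP_14 : BT := .node dP_6 dP_13
def dP : BT := dP_14
def dRels : List (List ℕ) := [[], [0, 1], [1, 0], [2, 3], [3, 2], [4, 5], [5, 4], [6, 7], [7, 6], [8, 9], [9, 8], [10, 11], [11, 10], [12, 13], [13, 12], [14, 15], [15, 14], [0, 0, 0], [1, 1, 1], [2, 2], [3, 3], [4, 4], [5, 5], [6, 6], [7, 7], [0, 2, 0, 2, 0, 2], [3, 1, 3, 1, 3, 1], [2, 4, 2, 4, 2, 4], [5, 3, 5, 3, 5, 3], [4, 6, 4, 6, 4, 6], [7, 5, 7, 5, 7, 5], [0, 4, 0, 4], [5, 1, 5, 1], [0, 6, 0, 6], [7, 1, 7, 1], [2, 6, 2, 6], [7, 3, 7, 3], [8, 8, 0, 3, 5, 0, 3, 1, 11], [10, 0, 2, 1, 4, 2, 1, 9, 9], [8, 6, 4, 2, 9, 0, 3, 5, 7, 1, 13], [12, 0, 6, 4, 2, 1, 8, 3, 5, 7, 9], [8, 6, 8, 6, 8, 6, 8, 6, 8, 6, 15], [14, 7, 9, 7, 9, 7, 9, 7, 9, 7, 9], [10, 0, 11, 1], [0, 10, 1, 11], [10, 2, 11, 3], [2, 10, 3, 11], [10, 4, 11, 5], [4, 10, 5, 11], [10, 6, 11, 7], [6, 10, 7, 11], [10, 8, 11, 9], [8, 10, 9, 11], [12, 0, 13, 1], [0, 12, 1, 13], [12, 2, 13, 3], [2, 12, 3, 13], [12, 4, 13, 5], [4,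 12, 5, 13], [12, 6, 13, 7], [6, 12, 7, 13], [12, 8, 13, 9], [8, 12, 9, 13], [12, 10, 13, 11], [10, 12, 11, 13], [14, 0, 15, 1], [0, 14, 1, 15], [14, 2, 15, 3], [2, 14, 3, 15], [14, 4, 15, 5], [4, 14, 5, 15], [14, 6, 15, 7], [6, 14, 7, 15], [14, 8, 15, 9], [8, 14, 9, 15], [14, 10, 15, 11], [10, 14, 11, 15], [14, 12, 15, 13], [12, 14, 13, 15], [11, 11, 14], [15, 10, 10]]
def dD : Data := ⟨8, dF, dP, dRels, [0, 2, 4, 6]⟩
def dJ0 : List (List ℕ) := [[1, 0], [1, 0], [1, 0], [1, 0], [0, 0], [0, 0], [0, 0], [45, 1, 13, 1, 12], [47, 1, 13, 3, 12], [49, 1, 13, 5, 12], [51, 1, 13, 7, 12], [39, 1, 14, 17, 19, 14, 17, 15, 13, 8], [54, 3, 11, 12, 23], [0, 0], [40, 8, 27, 0, 2, 1, 4, 2, 1, 10], [45, 3, 27, 0, 26], [47, 3, 27, 2, 26], [49, 3, 27, 4, 26], [51, 3, 27, 6, 26], [82, 0, 27, 12], [0, 0], [55, 1, 41, 1, 40], [57, 1, 41, 3, 40], [59, 1, 41, 5, 40], [61, 1, 41, 7, 40], [0, 0], [0, 0], [67, 1, 53, 1, 52], [69, 1, 53, 3, 52], [71, 1, 53, 5, 52], [73, 1, 53, 7, 52], [77, 1, 53, 26, 39], [0, 0], [77, 3, 65, 12, 38],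 [0, 0], [0, 0], [19, 2, 71, 68], [0, 0], [22, 1, 75], [0, 0], [24, 1, 79], [0, 0], [26, 1, 83], [0, 0], [53, 1, 87, 9, 12], [54, 2, 87, 22, 62], [81, 2, 87, 24], [0, 0], [63, 1, 95, 9, 40], [0, 0], [64, 0, 99, 9, 50], [0, 0], [75, 1, 103, 9, 52], [77, 1, 103, 24, 92], [0, 0], [75, 3, 109, 22, 38], [76, 0, 109, 9, 64], [77, 3, 109, 86, 93], [0, 0], [45, 2, 117, 25, 68], [0, 0], [19, 2, 121, 116], [46, 3, 121, 25, 70], [0, 0], [22, 1, 127], [47, 2, 127, 25, 74], [0, 0], [24, 1, 133], [49, 2, 133, 25, 78], [0, 0], [26, 1, 139], [51, 2, 139, 25, 82], [0, 0], [64, 2, 145, 11, 40], [66, 2, 145, 25, 94], [0, 0], [65, 3, 151, 25, 98], [0, 0], [0, 0], [55, 1, 157, 15, 156], [57, 1, 157, 17, 156], [59, 1, 157, 19, 156], [61, 1, 157, 21, 156], [63, 1, 157, 23, 94], [65, 1, 157, 13, 40], [0, 0], [66, 0, 171, 13, 50], [0, 0], [75, 1, 175, 23, 102], [77, 1, 175, 13, 52], [0, 0], [55, 1, 181, 30, 180], [57, 1, 181, 32, 180], [59, 1, 181, 34, 180], [61, 1, 181, 36, 180], [64, 2, 181, 29, 144], [66, 2, 181, 27, 40], [79,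 2, 181, 39, 156], [0, 0], [65, 3, 197, 27, 50], [80, 3, 197, 39, 170], [0, 0], [0, 0], [0, 0], [67, 1, 207, 43, 206], [69, 1, 207, 45, 206], [71, 1, 207, 47, 206], [73, 1, 207, 49, 206], [77, 1, 207, 192, 195], [79, 1, 207, 41, 52], [0, 0], [77, 3, 221, 168, 194], [0, 0], [0, 0], [80, 2, 227, 51, 52], [0, 0], [77, 3, 231, 172, 200], [79, 3, 231, 51, 64], [0, 0], [0, 0], [77, 3, 239, 67, 202], [0, 0], [22, 1, 243], [0, 0], [24, 1, 247], [34, 3, 247, 69, 80], [0, 0], [26, 1, 253], [36, 3, 253, 69, 84], [0, 0], [0, 0], [0, 0], [45, 1, 263, 69, 86], [81, 2, 263, 118], [0, 0], [55, 1, 269, 69, 94], [0, 0], [0, 0], [67, 1, 275, 69, 102], [77, 1, 275, 118, 266], [0, 0], [77, 3, 281, 262, 267], [0, 0], [22, 1, 285], [0, 0], [24, 1, 289], [34, 3, 289, 73, 248], [19, 2, 293, 251], [0, 0], [26, 1, 297], [36, 3, 297, 73, 254], [19, 2, 301, 257], [0, 0], [0, 0], [0, 0], [45, 1, 309, 73, 262], [46, 2, 309, 71, 86], [81, 2, 309, 124], [0, 0], [55, 1, 317, 73, 268], [56, 2, 317, 71, 94], [0, 0], [56, 0, 323, 73, 272], [0,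 0], [67, 1, 327, 73, 274], [68, 2, 327, 71, 102], [77, 1, 327, 124, 314], [0, 0], [67, 3, 335, 71, 108], [77, 3, 335, 308, 315], [0, 0], [0, 0], [19, 2, 343, 340], [0, 0], [24, 1, 347], [41, 1, 349, 77, 9, 0, 3, 5, 7, 1, 50, 100], [26, 1, 351], [61, 2, 351, 99, 82], [0, 0], [26, 1, 357], [38, 3, 357, 75, 84], [21, 1, 361], [0, 0], [0, 0], [0, 0], [47, 1, 369, 75, 86], [48, 2, 369, 77, 86], [81, 2, 369, 130], [0, 0], [57, 1, 377, 75, 94], [58, 2, 377, 77, 94], [59, 1, 377, 348, 355], [60, 2, 377, 346, 355], [0, 0], [0, 0], [69, 1, 389, 75, 102], [70, 2, 389, 77, 102], [77, 1, 389, 130, 374], [0, 0], [77, 3, 397, 368, 375]]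
def dJ1 : List (List ℕ) := [[0, 0], [22, 1, 401], [0, 0], [26, 1, 405], [0, 0], [0, 0], [0, 0], [49, 1, 413, 79, 86], [50, 2, 413, 81, 86], [81, 2, 413, 136], [0, 0], [59, 1, 421, 79, 94], [60, 2, 421, 81, 94], [0, 0], [59, 3, 427, 81, 98], [0, 0], [71, 1, 431, 79, 102], [72, 2, 431, 81, 102], [77, 1, 431, 136, 418], [0, 0], [77, 3, 439, 412, 419], [0, 0], [0, 0], [0, 0], [51, 1, 447, 83, 86], [52, 2, 447, 85, 86], [81, 2, 447, 142], [0, 0], [61, 1, 455, 83, 94], [62, 2, 455, 85, 94], [0, 0], [73, 1, 461, 83, 102], [74, 2, 461, 85, 102], [77, 1, 461, 142, 452], [0, 0], [73, 3, 469, 85, 108], [74, 0, 469, 83, 108], [77, 3, 469, 446, 453], [0, 0], [63, 1, 477, 89, 156], [64, 2, 477, 91, 218], [65, 1, 477, 87, 94], [80, 1, 477, 93, 144], [0, 0], [64, 0, 487, 89, 170], [79, 0, 487, 93, 150], [0, 0], [77, 1, 493, 87, 102], [0, 0], [63, 1, 497, 97, 204], [0, 0], [75, 1, 501, 97, 206], [77, 1, 501, 148, 484], [79, 1, 501, 95, 102], [0, 0], [75, 3, 509, 166, 194], [77, 3, 509, 482, 485], [80, 0, 509, 95, 108], [0,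 0], [64, 0, 517, 101, 224], [0, 0], [77, 1, 521, 152, 490], [80, 2, 521, 99, 102], [0, 0], [0, 0], [75, 1, 529, 105, 236], [77, 1, 529, 107, 492], [0, 0], [76, 0, 535, 113, 238], [77, 3, 535, 115, 154], [0, 0], [22, 1, 541], [47, 2, 541, 119, 242], [0, 0], [24, 1, 547], [34, 3, 547, 117, 134], [49, 2, 547, 119, 246], [0, 0], [26, 1, 555], [36, 3, 555, 117, 140], [51, 2, 555, 119, 252], [0, 0], [53, 2, 563, 119, 258], [0, 0], [54, 3, 567, 119, 260], [0, 0], [55, 1, 571, 117, 144], [66, 2, 571, 119, 268], [0, 0], [65, 3, 577, 119, 272], [0, 0], [77, 3, 581, 119, 280], [0, 0], [22, 1, 585], [47, 2, 585, 125, 284], [0, 0], [24, 1, 591], [34, 3, 591, 123, 548], [49, 2, 591, 125, 288], [46, 0, 597, 295, 136], [0, 0], [26, 1, 601], [36, 3, 601, 123, 556], [51, 2, 601, 125, 296], [46, 0, 607, 303, 142], [0, 0], [53, 2, 611, 125, 304], [0, 0], [54, 3, 615, 125, 306], [0, 0], [55, 1, 619, 123, 570], [56, 2, 619, 121, 144], [66, 2, 619, 125, 316], [0, 0], [55, 3, 627, 121, 150], [56, 0, 627, 123, 576], [65, 3, 627,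 125, 322], [0, 0], [0, 0], [45, 2, 637, 131, 340], [0, 0], [19, 2, 641, 636], [46, 3, 641, 131, 342], [0, 0], [24, 1, 647], [49, 2, 647, 131, 346], [66, 3, 651, 355, 142], [0, 0], [26, 1, 655], [38, 3, 655, 127, 140], [51, 2, 655, 131, 356], [48, 0, 661, 363, 142], [0, 0], [53, 2, 665, 131, 364], [0, 0], [54, 3, 669, 131, 366], [0, 0], [57, 1, 673, 127, 144], [58, 2, 673, 129, 144], [59, 1, 673, 648, 653], [60, 2, 673, 646, 653], [66, 2, 673, 131, 376], [0, 0], [58, 0, 685, 127, 150], [65, 3, 685, 131, 386], [0, 0], [77, 3, 691, 131, 396], [0, 0], [22, 1, 695], [47, 2, 695, 137, 400], [0, 0], [26, 1, 701], [51, 2, 701, 137, 404], [0, 0], [53, 2, 707, 137, 408], [0, 0], [54, 3, 711, 137, 410], [0, 0], [59, 1, 715, 133, 144], [60, 2, 715, 135, 144], [66, 2, 715, 137, 420], [0, 0], [65, 3, 723, 137, 426], [0, 0], [0, 0], [53, 2, 729, 143, 442], [0, 0], [54, 3, 733, 143, 444], [0, 0], [61, 1, 737, 139, 144], [62, 2, 737, 141, 144], [66, 2, 737, 143, 454], [0, 0], [0, 0], [66, 2, 747, 149, 496], [0, 0], [77, 3,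 751, 149, 508], [0, 0], [65, 3, 755, 153, 516], [0, 0], [77, 3, 759, 153, 526], [79, 3, 759, 151, 154], [0, 0], [0, 0], [63, 1, 767, 167, 496], [65, 1, 767, 169, 204], [0, 0], [75, 1, 773, 167, 500], [77, 1, 773, 169, 206], [0, 0], [66, 0, 779, 173, 224], [0, 0], [77, 1, 783, 179, 236], [0, 0], [66, 2, 787, 193, 204], [79, 2, 787, 195, 766], [0, 0], [75, 3, 793, 191, 750], [80, 0, 793, 181, 202], [0, 0]]
def dJ2 : List (List ℕ) := [[65, 3, 799, 199, 224], [80, 3, 799, 201, 778], [0, 0], [0, 0], [0, 0], [77, 1, 809, 788, 791], [79, 1, 809, 205, 206], [0, 0], [77, 3, 815, 770, 790], [0, 0], [0, 0], [77, 3, 821, 223, 792], [0, 0], [77, 1, 825, 800, 803], [80, 2, 825, 225, 226], [0, 0], [77, 3, 831, 780, 802], [0, 0], [80, 2, 835, 229, 236], [0, 0], [77, 3, 839, 233, 804], [0, 0], [0, 0], [77, 3, 845, 241, 806], [0, 0], [28, 0, 849, 243, 69, 76, 342], [21, 1, 851], [0, 0], [19, 2, 855, 848], [39, 4, 855, 243, 69, 24, 11, 8, 68, 244], [23, 1, 859], [33, 3, 856, 859, 848], [42, 2, 859, 245, 69, 22, 17, 19, 21,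 23, 94, 270], [26, 1, 865], [36, 3, 854, 865, 271, 458], [9, 0, 458, 868], [10, 0, 456, 868], [16, 0, 454, 868], [13, 0, 743, 868, 544], [9, 0, 740, 877], [10, 0, 738, 877], [16, 0, 736, 877], [62, 1, 865, 269, 252], [55, 0, 856, 885, 300], [59, 3, 383, 875, 860, 885], [5, 0, 380, 889], [6, 0, 378, 889], [7, 0, 384, 889], [8, 0, 382, 889], [16, 0, 376, 889], [13, 0, 683, 889, 560], [5, 0, 676, 901], [6, 0, 674, 901], [7, 0, 680, 901], [8, 0, 678, 901], [16, 0, 672, 901], [55, 0, 605, 910, 640], [56, 1, 653, 558, 910, 636], [7, 0, 648, 915], [8, 0, 646, 915], [15, 0, 652, 915], [14, 0, 650, 915, 639], [8, 0, 346, 923], [15, 0, 354, 923], [61, 0, 577, 554, 910, 656], [5, 0, 658, 928], [6, 0, 662, 928], [9, 0, 656, 928], [10, 0, 654, 928], [14, 0, 660, 928, 579], [5, 0, 360, 939], [6, 0, 362, 939], [10, 0, 356, 939], [36, 2, 325, 944, 342], [25, 1, 947], [51, 3, 633, 947, 644], [62, 1, 297, 322, 947], [25, 1, 951], [28, 4, 325, 942, 256, 892, 320], [21, 1, 957], [37, 1, 851, 948, 957], [47, 3, 633, 957, 624],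 [57, 0, 957, 317, 286], [58, 1, 285, 322, 957], [65, 0, 589, 967, 624], [56, 2, 969, 623, 746], [58, 0, 627, 586, 969], [58, 1, 973, 619, 584], [56, 1, 755, 628, 975, 971], [14, 0, 756, 977, 749], [11, 0, 518, 979, 499], [17, 0, 831, 981, 814], [14, 0, 832, 983, 817], [18, 0, 802, 985, 791], [14, 0, 827, 987, 810], [26, 1, 961], [34, 2, 345, 924, 342], [29, 1, 993, 852, 862, 851, 993, 852], [16, 0, 886, 994], [9, 0, 960, 994, 946], [15, 0, 964, 998, 317], [13, 0, 589, 1001, 124], [15, 0, 968, 1003, 626], [9, 0, 950, 1004], [10, 0, 954, 1004], [3, 0, 630, 1004, 621], [5, 0, 931, 1011], [6, 0, 933, 1011], [9, 0, 935, 1011], [10, 0, 937, 1011], [15, 0, 576, 1011], [14, 0, 578, 1011, 575], [5, 0, 941, 1023], [6, 0, 943, 1023], [15, 0, 272, 1023], [9, 0, 945, 1023, 866], [15, 0, 884, 1030, 386], [13, 0, 689, 1032, 560], [15, 0, 684, 1035], [5, 0, 686, 1035, 904], [17, 0, 759, 1039, 750], [14, 0, 760, 1041, 753], [18, 0, 526, 1043, 509], [18, 0, 521, 1045, 500], [15, 0, 524, 1047], [13, 0, 522, 1047, 505], [15,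 0, 486, 1051], [11, 0, 488, 1051, 479], [17, 0, 201, 1055, 194], [17, 0, 805, 1057, 792], [13, 0, 841, 1059, 822], [18, 0, 838, 1061, 821], [18, 0, 230, 1063, 221], [18, 0, 227, 1065, 206], [18, 0, 835, 1067, 818], [15, 0, 836, 1069], [15, 0, 988, 829, 1067, 219], [17, 0, 808, 1073, 53], [17, 0, 815, 1075, 64], [14, 0, 816, 1077, 67], [18, 0, 790, 1079, 39], [11, 0, 768, 1081, 23], [13, 0, 749, 1083, 24], [9, 0, 922, 353, 1045, 458, 868], [15, 0, 927, 1087], [13, 0, 639, 1087, 544], [3, 0, 643, 1091], [4, 0, 636, 1091], [7, 0, 917, 1091], [8, 0, 919, 1091], [15, 0, 921, 1091], [7, 0, 429, 1045, 424], [15, 0, 426, 1103], [13, 0, 725, 1103, 720], [15, 0, 722, 1107], [40, 7, 611, 125, 71, 74, 342, 993, 852, 994, 345, 1087], [49, 3, 645, 993, 644], [59, 3, 997, 993, 996], [31, 3, 291, 296, 1115, 299, 288], [49, 3, 607, 1115, 606], [31, 3, 593, 600, 1119, 603, 590], [36, 3, 594, 1121, 599, 702], [9, 0, 702, 1122], [10, 0, 700, 1122], [14, 0, 704, 1122, 553], [9, 0, 406, 1129], [10, 0, 404, 1129], [63, 0, 1111,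 874, 444], [64, 3, 1111, 1088, 444], [64, 2, 619, 610, 1137], [39, 3, 1114, 301, 888, 379, 320, 624, 1139, 445, 302], [40, 7, 729, 143, 302, 1141, 303, 382, 889, 890, 320], [47, 3, 607, 1141, 606], [57, 3, 912, 1145, 913], [63, 0, 1143, 317, 306], [64, 3, 1143, 966, 1001, 306], [64, 2, 876, 737, 728, 1151], [30, 4, 547, 542, 1098, 127, 134, 696], [5, 0, 696, 1154], [6, 0, 694, 1154], [14, 0, 698, 1154, 553], [5, 0, 402, 1161], [6, 0, 400, 1161], [39, 1, 293, 1164, 79, 68, 244, 854, 1030, 130, 664], [39, 0, 261, 72, 1000, 285, 290, 293, 1164, 250, 552], [40, 8, 597, 293, 1162, 250, 249, 242, 854, 1030, 366], [40, 7, 563, 119, 72, 1000, 287, 73, 246, 1162, 250], [55, 2, 609, 883, 1092], [0, 0], [54, 1, 1177, 544, 1153], [63, 2, 1177, 1088, 442], [64, 1, 1177, 874, 442], [54, 2, 1179, 307, 308], [81, 2, 1179, 616], [0, 0], [45, 1, 1189, 854, 1030, 368], [47, 1, 1189, 243, 262], [48, 2, 1189, 245, 262], [49, 1, 1189, 858, 1030, 368], [50, 2, 1189, 860, 1030, 368]]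
def dJ3 : List (List ℕ) := [[51, 1, 1189, 872, 482], [52, 2, 1189, 870, 482], [53, 1, 1189, 1110, 613], [65, 2, 1189, 1088, 446], [66, 1, 1189, 874, 446], [81, 2, 1189, 544], [27, 3, 313, 370, 1190, 1195, 310], [47, 1, 333, 1213, 332], [0, 0], [67, 1, 1217, 854, 1030, 388], [69, 1, 1217, 243, 274], [70, 2, 1217, 245, 274], [71, 1, 1217, 858, 1030, 388], [72, 2, 1217, 860, 1030, 388], [73, 1, 1217, 872, 500], [74, 2, 1217, 870, 500], [77, 1, 1217, 544, 1210], [79, 1, 1217, 874, 460], [80, 2, 1217, 1088, 460], [0, 0], [73, 3, 1239, 870, 508], [75, 3, 1239, 1176, 1187], [77, 3, 1239, 1188, 1211], [79, 3, 1239, 1088, 468], [0, 0], [54, 1, 1249, 552, 1168], [54, 2, 1251, 261, 262], [81, 2, 1251, 568], [0, 0], [46, 2, 1257, 251, 412], [47, 1, 1257, 1164, 412], [48, 2, 1257, 1162, 412], [49, 1, 1257, 247, 262], [50, 2, 1257, 249, 262], [51, 1, 1257, 1132, 412], [52, 2, 1257, 1130, 412], [53, 1, 1257, 1172, 565], [81, 2, 1257, 552], [0, 0], [56, 2, 1277, 251, 420], [57, 1, 1277, 1164, 420], [58, 2, 1277, 1162, 420],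 [59, 1, 1277, 247, 268], [60, 2, 1277, 249, 268], [61, 1, 1277, 1132, 420], [62, 2, 1277, 1130, 420], [62, 3, 1291, 1104, 406, 1129], [0, 0], [68, 2, 1295, 251, 430], [69, 1, 1295, 1164, 430], [70, 2, 1295, 1162, 430], [71, 1, 1295, 247, 274], [72, 2, 1295, 249, 274], [73, 1, 1295, 1132, 430], [74, 2, 1295, 1130, 430], [77, 1, 1295, 552, 1274], [0, 0], [75, 3, 1313, 1248, 1255], [77, 3, 1313, 1256, 1275], [0, 0], [63, 2, 1319, 884, 1030, 364], [64, 1, 1319, 898, 364], [0, 0], [63, 0, 1325, 898, 366], [64, 3, 1325, 884, 1030, 366], [0, 0], [46, 2, 1331, 257, 446], [47, 1, 1331, 892, 482], [48, 2, 1331, 890, 482], [49, 1, 1331, 896, 446], [50, 2, 1331, 894, 446], [51, 1, 1331, 253, 262], [52, 2, 1331, 255, 262], [65, 2, 1331, 884, 1030, 368], [66, 1, 1331, 898, 368], [81, 2, 1331, 560], [0, 0], [68, 2, 1353, 257, 460], [69, 1, 1353, 892, 500], [70, 2, 1353, 890, 500], [71, 1, 1353, 896, 460], [72, 2, 1353, 894, 460], [73, 1, 1353, 253, 274], [74, 2, 1353, 255, 274], [77, 1, 1353, 560, 1350], [79, 1, 1353, 898,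 388], [80, 2, 1353, 884, 1030, 388], [0, 0], [69, 3, 1375, 890, 508], [72, 0, 1375, 896, 468], [77, 3, 1375, 1330, 1351], [0, 0], [0, 0], [19, 2, 1385, 1382], [0, 0], [22, 1, 1389], [0, 0], [24, 1, 1393], [0, 0], [26, 1, 1397], [0, 0], [53, 1, 1401, 259, 262], [54, 2, 1401, 1272, 1310], [81, 2, 1401, 564], [0, 0], [63, 1, 1409, 259, 268], [63, 2, 1411, 1028, 258], [0, 0], [75, 1, 1415, 259, 274], [77, 1, 1415, 564, 1406], [0, 0], [75, 3, 1421, 1272, 1275], [77, 3, 1421, 1400, 1407], [0, 0], [0, 0], [19, 2, 1429, 1426], [0, 0], [22, 1, 1433], [0, 0], [24, 1, 1437], [0, 0], [26, 1, 1441], [0, 0], [64, 2, 1445, 261, 268], [64, 3, 1447, 1028, 260], [0, 0], [75, 1, 1451, 1169, 1274], [76, 2, 1451, 261, 274], [77, 1, 1451, 568, 1254], [0, 0], [77, 3, 1459, 1250, 1255], [0, 0], [55, 1, 1463, 265, 476], [57, 1, 1463, 1194, 1207], [58, 2, 1463, 1192, 1207], [61, 1, 1463, 1344, 1347], [62, 2, 1463, 1342, 1347], [65, 1, 1463, 263, 268], [80, 1, 1463, 267, 570], [80, 2, 1477, 1020, 266], [0, 0], [77, 1, 1481, 263, 274],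 [0, 0], [67, 1, 1485, 271, 500], [69, 1, 1485, 1026, 460], [70, 2, 1485, 1024, 460], [73, 1, 1485, 866, 1030, 388], [74, 2, 1485, 864, 1030, 388], [77, 1, 1485, 574, 1476], [79, 1, 1485, 269, 274], [80, 2, 1485, 1028, 274], [0, 0], [77, 3, 1503, 1474, 1477], [0, 0], [77, 1, 1507, 279, 1480], [0, 0], [0, 0], [22, 1, 1513], [28, 5, 1513, 295, 402, 1161, 292, 1514], [30, 0, 1513, 289, 286, 1001, 290, 1514], [38, 0, 1513, 1117, 1514], [39, 1, 411, 294, 1514, 1518, 1517, 1513, 295, 136, 706], [12, 0, 706, 1522], [13, 0, 708, 1522], [53, 1, 413, 410, 1526], [82, 0, 713, 1526], [76, 0, 1531, 409, 438], [0, 0], [54, 1, 1535, 596, 1171], [54, 2, 1537, 367, 368], [81, 2, 1537, 670], [0, 0], [39, 7, 1543, 1534, 1539, 1190, 1193, 1266, 1259, 1262], [45, 1, 1543, 295, 412], [49, 1, 1543, 289, 308], [50, 2, 1543, 291, 308], [51, 1, 1543, 1117, 1542], [53, 1, 1543, 1167, 667], [81, 2, 1543, 596], [0, 0], [55, 1, 1559, 295, 420], [56, 2, 1559, 293, 1276], [59, 1, 1559, 289, 316], [60, 2, 1559, 291, 316], [61, 1, 1559, 1117,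 1558], [60, 3, 1567, 966, 1001, 290], [0, 0], [67, 1, 1573, 295, 430], [68, 2, 1573, 293, 1294], [71, 1, 1573, 289, 326], [72, 2, 1573, 291, 326], [73, 1, 1573, 1117, 1572], [77, 1, 1573, 596, 1556], [0, 0], [75, 3, 1587, 1534, 1541], [77, 3, 1587, 1542, 1557], [0, 0], [0, 0], [0, 0], [45, 1, 1597, 303, 446]]
def dJ4 : List (List ℕ) := [[46, 2, 1597, 301, 1330], [47, 1, 1597, 1140, 1596], [49, 1, 1597, 1114, 1596], [51, 1, 1597, 297, 308], [52, 2, 1597, 299, 308], [81, 2, 1597, 606], [0, 0], [67, 1, 1613, 303, 460], [68, 2, 1613, 301, 1352], [69, 1, 1613, 1140, 1612], [71, 1, 1613, 1114, 1612], [73, 1, 1613, 297, 326], [74, 2, 1613, 299, 326], [77, 1, 1613, 606, 1610], [0, 0], [77, 3, 1629, 1596, 1611], [0, 0], [0, 0], [19, 2, 1635, 1632], [0, 0], [22, 1, 1639], [0, 0], [24, 1, 1643], [0, 0], [26, 1, 1647], [42, 8, 1647, 305, 316, 321, 456, 868, 860, 1030, 77, 70, 304, 1640], [23, 1, 1651], [0, 0], [53, 1, 1655, 305, 308], [54, 2, 1655, 1204, 1232], [81, 2, 1655, 612], [0, 0], [63, 1, 1663, 305, 316], [64,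 2, 1663, 1204, 1207], [65, 1, 1663, 612, 1137], [65, 2, 1669, 1134, 613], [81, 2, 1669, 734], [0, 0], [75, 1, 1675, 305, 326], [77, 1, 1675, 612, 1660], [0, 0], [75, 3, 1681, 1204, 1211], [77, 3, 1681, 1654, 1661], [79, 3, 1681, 1662, 1673], [80, 0, 1681, 1670, 1673], [0, 0], [0, 0], [19, 2, 1693, 1690], [0, 0], [22, 1, 1697], [0, 0], [24, 1, 1701], [0, 0], [26, 1, 1705], [0, 0], [75, 1, 1709, 1152, 1210], [76, 2, 1709, 307, 326], [77, 1, 1709, 616, 1186], [0, 0], [77, 3, 1717, 1178, 1187], [0, 0], [55, 1, 1721, 311, 1462], [56, 2, 1721, 313, 476], [57, 1, 1721, 1213, 1720], [63, 1, 1721, 1184, 1181], [65, 1, 1721, 309, 316], [80, 1, 1721, 315, 618], [80, 2, 1733, 968, 1003, 314], [0, 0], [77, 1, 1737, 309, 326], [0, 0], [67, 1, 1741, 319, 1484], [68, 2, 1741, 321, 500], [69, 1, 1741, 956, 998, 1740], [77, 1, 1741, 624, 1732], [79, 1, 1741, 317, 326], [80, 2, 1741, 966, 1001, 326], [0, 0], [67, 3, 1755, 321, 508], [75, 3, 1755, 1664, 1673], [77, 3, 1755, 1730, 1733], [79, 3, 1755, 966, 1001, 334], [0, 0],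 [77, 1, 1765, 333, 1736], [0, 0], [77, 3, 1769, 339, 634], [0, 0], [63, 2, 1773, 952, 1592], [64, 1, 1773, 996, 1592], [0, 0], [63, 0, 1779, 996, 1594], [64, 3, 1779, 952, 1594], [0, 0], [45, 1, 1785, 345, 1087, 1188], [46, 2, 1785, 343, 368], [47, 1, 1785, 850, 994, 1784], [49, 1, 1785, 992, 1784], [51, 1, 1785, 946, 998, 1730], [52, 2, 1785, 948, 998, 1730], [65, 2, 1785, 952, 1596], [66, 1, 1785, 996, 1596], [81, 2, 1785, 644], [0, 0], [67, 1, 1805, 345, 1087, 1216], [68, 2, 1805, 343, 388], [69, 1, 1805, 850, 994, 1804], [71, 1, 1805, 992, 1804], [73, 1, 1805, 946, 998, 1740], [74, 2, 1805, 948, 998, 1740], [77, 1, 1805, 644, 1802], [79, 1, 1805, 996, 1612], [80, 2, 1805, 952, 1612], [0, 0], [73, 3, 1825, 948, 998, 1754], [77, 3, 1825, 1784, 1803], [0, 0], [0, 0], [19, 2, 1833, 1830], [0, 0], [22, 1, 1837], [0, 0], [24, 1, 1841], [0, 0], [26, 1, 1845], [0, 0], [53, 1, 1849, 365, 368], [54, 2, 1849, 1554, 1584], [81, 2, 1849, 666], [0, 0], [75, 1, 1857, 365, 388], [77, 1, 1857, 666, 1854], [0, 0], [75,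 3, 1863, 1554, 1557], [77, 3, 1863, 1848, 1855], [0, 0], [0, 0], [19, 2, 1871, 1868], [0, 0], [22, 1, 1875], [0, 0], [24, 1, 1879], [0, 0], [26, 1, 1883], [0, 0], [75, 1, 1887, 1170, 1556], [76, 2, 1887, 367, 388], [77, 1, 1887, 670, 1540], [0, 0], [77, 3, 1895, 1536, 1541], [0, 0], [77, 1, 1899, 369, 388], [0, 0], [77, 1, 1903, 395, 1898], [0, 0], [77, 3, 1907, 399, 690], [0, 0], [0, 0], [19, 2, 1913, 1910], [0, 0], [22, 1, 1917], [0, 0], [24, 1, 1921], [0, 0], [26, 1, 1925], [0, 0], [53, 1, 1929, 409, 412], [54, 2, 1929, 1528, 436], [78, 1, 1929, 1530, 713], [0, 0], [63, 1, 1937, 409, 420], [63, 2, 1939, 1104, 408], [0, 0], [75, 1, 1943, 409, 430], [77, 1, 1943, 708, 1522, 1934], [0, 0], [45, 2, 1949, 1526, 1910], [0, 0], [19, 2, 1953, 1948], [46, 3, 1953, 1526, 1912], [0, 0], [22, 1, 1959], [47, 2, 1959, 1526, 1916], [0, 0], [24, 1, 1965], [49, 2, 1965, 1526, 1920], [0, 0], [26, 1, 1971], [51, 2, 1971, 1526, 1924], [0, 0], [63, 1, 1977, 1524, 714], [64, 2, 1977, 411, 420], [66, 2, 1977, 1526, 1936], [66,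 3, 1983, 1941, 708, 1522], [0, 0], [77, 3, 1987, 1526, 1530], [0, 0], [59, 1, 1991, 415, 476], [60, 2, 1991, 417, 476], [63, 1, 1991, 1529, 1936], [65, 1, 1991, 413, 420]]
def dJ5 : List (List ℕ) := [[80, 1, 1991, 419, 714], [80, 2, 2001, 1108, 418], [0, 0], [75, 1, 2005, 1529, 1942], [77, 1, 2005, 413, 430], [0, 0], [71, 1, 2011, 423, 500], [72, 2, 2011, 425, 500], [77, 1, 2011, 720, 2000], [79, 1, 2011, 421, 430], [80, 2, 2011, 1104, 430], [0, 0], [77, 3, 2023, 1998, 2001], [80, 0, 2023, 421, 438], [0, 0], [77, 1, 2029, 437, 2004], [0, 0], [77, 3, 2033, 441, 726], [0, 0], [0, 0], [19, 2, 2039, 2036], [0, 0], [22, 1, 2043], [0, 0], [24, 1, 2047], [0, 0], [26, 1, 2051], [0, 0], [53, 1, 2055, 443, 446], [54, 2, 2055, 1728, 1748], [65, 2, 2055, 1182, 1714], [66, 1, 2055, 1180, 1714], [81, 2, 2055, 730], [0, 0], [75, 1, 2067, 443, 460], [77, 1, 2067, 730, 2064], [0, 0], [75, 3, 2073, 1728, 1733], [77, 3, 2073, 2054, 2065], [79, 3, 2073, 1182, 1187], [80, 0, 2073, 1180, 1187], [0, 0], [0, 0], [19, 2, 2085, 2082],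 [0, 0], [22, 1, 2089], [0, 0], [24, 1, 2093], [0, 0], [26, 1, 2097], [42, 8, 2097, 1138, 968, 1003, 121, 138, 678, 901, 902, 622, 1139, 2090], [23, 1, 2101], [0, 0], [75, 1, 2105, 1138, 1732], [76, 2, 2105, 445, 460], [77, 1, 2105, 734, 1672], [79, 1, 2105, 1136, 1660], [80, 2, 2105, 1134, 1660], [0, 0], [75, 3, 2117, 445, 468], [77, 3, 2117, 1668, 1673], [0, 0], [77, 1, 2123, 447, 460], [0, 0], [0, 0], [77, 3, 2129, 475, 744], [0, 0], [75, 1, 2133, 479, 772], [77, 1, 2133, 483, 500], [0, 0], [77, 1, 2139, 495, 528], [0, 0], [77, 1, 2143, 505, 2132], [79, 1, 2143, 507, 528], [0, 0], [80, 0, 2149, 515, 534], [0, 0], [0, 0], [77, 3, 2155, 539, 764], [0, 0], [77, 3, 2159, 545, 1238], [0, 0], [56, 2, 2163, 551, 714], [57, 1, 2163, 1158, 714], [58, 2, 2163, 1156, 714], [59, 1, 2163, 547, 570], [60, 2, 2163, 549, 570], [61, 1, 2163, 1126, 714], [62, 2, 2163, 1124, 714], [64, 2, 2163, 1168, 1444], [66, 2, 2163, 553, 1276], [66, 3, 2181, 1293, 552], [0, 0], [77, 3, 2185, 553, 1312], [0, 0], [40, 7, 2189, 561, 257,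 362, 939, 1023, 271, 422, 1280, 1562], [53, 2, 2189, 561, 1318], [63, 2, 2189, 1036, 664], [64, 1, 2189, 910, 664], [0, 0], [54, 3, 2199, 561, 1324], [63, 0, 2199, 910, 668], [64, 3, 2199, 1036, 668], [0, 0], [77, 3, 2207, 561, 1374], [0, 0], [45, 2, 2211, 565, 1382], [0, 0], [19, 2, 2215, 2210], [46, 3, 2215, 565, 1384], [0, 0], [22, 1, 2221], [47, 2, 2221, 565, 1388], [0, 0], [24, 1, 2227], [49, 2, 2227, 565, 1392], [0, 0], [26, 1, 2233], [42, 8, 2233, 563, 570, 620, 1006, 1113, 1147, 643, 1091, 1153, 1698], [51, 2, 2233, 565, 1396], [23, 1, 2237], [0, 0], [63, 1, 2243, 563, 570], [64, 2, 2243, 1173, 1276], [66, 2, 2243, 565, 1408], [66, 3, 2249, 1413, 564], [0, 0], [77, 3, 2253, 565, 1420], [0, 0], [45, 2, 2257, 569, 1426], [0, 0], [19, 2, 2261, 2256], [46, 3, 2261, 569, 1428], [0, 0], [22, 1, 2267], [47, 2, 2267, 569, 1432], [0, 0], [24, 1, 2273], [49, 2, 2273, 569, 1436], [0, 0], [26, 1, 2279], [51, 2, 2279, 569, 1440], [0, 0], [64, 2, 2285, 567, 570], [66, 2, 2285, 569, 1444], [66, 3, 2289, 1449, 568],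 [0, 0], [77, 3, 2293, 569, 1458], [0, 0], [77, 3, 2297, 575, 1502], [0, 0], [77, 3, 2301, 583, 1510], [0, 0], [22, 1, 2305], [28, 5, 2305, 599, 696, 1154, 594, 2306], [30, 0, 2305, 591, 586, 1003, 592, 2306], [38, 0, 2305, 1121, 2306], [47, 2, 2305, 597, 1512], [40, 8, 2315, 1517, 1515, 295, 81, 74, 342, 1778], [0, 0], [55, 1, 2319, 599, 714], [56, 2, 2319, 595, 2162], [59, 1, 2319, 591, 618], [60, 2, 2319, 593, 618], [61, 1, 2319, 1121, 2318], [64, 2, 2319, 1171, 1326], [66, 2, 2319, 597, 1558], [66, 3, 2333, 1571, 596], [0, 0], [77, 3, 2337, 597, 1586], [0, 0], [53, 2, 2341, 607, 1592], [0, 0], [54, 3, 2345, 607, 1594], [0, 0], [0, 0], [45, 2, 2351, 613, 1632], [55, 2, 2351, 1137, 2082], [56, 1, 2351, 1135, 2082], [0, 0], [19, 2, 2359, 2350], [46, 3, 2359, 613, 1634], [55, 0, 2359, 1135, 2084], [56, 3, 2359, 1137, 2084], [0, 0], [22, 1, 2369], [47, 2, 2369, 613, 1638], [57, 2, 2369, 1137, 2088], [58, 1, 2369, 1135, 2088], [0, 0], [24, 1, 2379], [49, 2, 2379, 613, 1642], [59, 2, 2379, 1137, 2092], [60, 1,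 2379, 1135, 2092], [0, 0], [26, 1, 2389], [42, 8, 2389, 611, 618, 623, 738, 877, 1096, 129, 120, 610, 2370], [51, 2, 2389, 613, 1646], [61, 2, 2389, 1137, 2096], [62, 1, 2389, 1135, 2096]]
def dJ6 : List (List ℕ) := [[59, 1, 2399, 2103, 2376], [43, 2, 2391, 1111, 870, 166, 164, 478, 1200, 1211, 1153, 1704], [0, 0], [44, 10, 2405, 2390, 2403, 1705, 1152, 880, 190, 189, 510, 1240], [76, 0, 2405, 611, 634], [0, 0], [45, 2, 2411, 617, 1690], [0, 0], [19, 2, 2415, 2410], [46, 3, 2415, 617, 1692], [0, 0], [22, 1, 2421], [47, 2, 2421, 617, 1696], [0, 0], [24, 1, 2427], [49, 2, 2427, 617, 1700], [0, 0], [26, 1, 2433], [51, 2, 2433, 617, 1704], [0, 0], [0, 0], [80, 0, 2441, 619, 634], [0, 0], [0, 0], [40, 7, 2447, 645, 343, 77, 70, 288, 1512, 1516], [53, 2, 2447, 645, 1772], [63, 2, 2447, 912, 2340], [64, 1, 2447, 1174, 2340], [0, 0], [54, 3, 2457, 645, 1778], [63, 0, 2457, 1174, 2344], [64, 3, 2457, 912, 2344], [0, 0], [0, 0], [45, 2, 2467, 667, 1830], [0, 0], [19, 2, 2471, 2466], [46, 3, 2471, 667, 1832], [0, 0],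 [22, 1, 2477], [47, 2, 2477, 667, 1836], [0, 0], [24, 1, 2483], [49, 2, 2483, 667, 1840], [0, 0], [26, 1, 2489], [42, 8, 2489, 665, 672, 901, 559, 141, 132, 694, 1154, 594, 1171, 1876], [51, 2, 2489, 667, 1844], [23, 1, 2493], [0, 0], [0, 0], [45, 2, 2501, 671, 1868], [0, 0], [19, 2, 2505, 2500], [46, 3, 2505, 671, 1870], [0, 0], [22, 1, 2511], [47, 2, 2511, 671, 1874], [0, 0], [24, 1, 2517], [49, 2, 2517, 671, 1878], [0, 0], [26, 1, 2523], [51, 2, 2523, 671, 1882], [0, 0], [0, 0], [0, 0], [45, 2, 2533, 713, 1948], [67, 2, 2533, 1531, 1910], [0, 0], [19, 2, 2539, 2532], [46, 3, 2539, 713, 1952], [68, 3, 2539, 1531, 1912], [0, 0], [22, 1, 2547], [47, 2, 2547, 713, 1958], [69, 2, 2547, 1531, 1916], [0, 0], [24, 1, 2555], [49, 2, 2555, 713, 1964], [71, 2, 2555, 1531, 1920], [0, 0], [26, 1, 2563], [51, 2, 2563, 713, 1970], [73, 2, 2563, 1531, 1924], [0, 0], [63, 1, 2571, 1533, 2026], [64, 2, 2571, 711, 714], [66, 2, 2571, 713, 1976], [79, 2, 2571, 1531, 1936], [79, 3, 2579, 1941, 1530], [0, 0], [0, 0], [80, 0,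 2585, 715, 726], [0, 0], [0, 0], [45, 2, 2591, 731, 2036], [55, 2, 2591, 1151, 1690], [56, 1, 2591, 1149, 1690], [0, 0], [19, 2, 2599, 2590], [46, 3, 2599, 731, 2038], [55, 0, 2599, 1149, 1692], [56, 3, 2599, 1151, 1692], [0, 0], [22, 1, 2609], [47, 2, 2609, 731, 2042], [57, 2, 2609, 1151, 1696], [58, 1, 2609, 1149, 1696], [0, 0], [24, 1, 2619], [49, 2, 2619, 731, 2046], [59, 2, 2619, 1151, 1700], [60, 1, 2619, 1149, 1700], [0, 0], [26, 1, 2629], [44, 2, 2629, 729, 139, 28, 36, 110, 470, 2118, 2117, 2098], [51, 2, 2629, 731, 2050], [61, 2, 2629, 1151, 1704], [62, 1, 2629, 1149, 1704], [0, 0], [80, 0, 2641, 1149, 1716], [0, 0], [45, 2, 2645, 735, 2082], [0, 0], [19, 2, 2649, 2644], [46, 3, 2649, 735, 2084], [0, 0], [22, 1, 2655], [47, 2, 2655, 735, 2088], [0, 0], [24, 1, 2661], [49, 2, 2661, 735, 2092], [0, 0], [26, 1, 2667], [42, 8, 2667, 1758, 1763, 337, 472, 1378, 1377, 1756, 1759, 2656], [51, 2, 2667, 735, 2096], [50, 0, 2673, 2103, 2658], [0, 0], [0, 0], [0, 0], [0, 0], [0, 0], [0, 0], [77, 1, 2687, 785,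 842], [0, 0], [0, 0], [0, 0], [80, 2, 2695, 1070, 842], [0, 0], [77, 3, 2699, 823, 2690], [0, 0], [77, 3, 2703, 847, 2692], [0, 0], [46, 1, 2707, 1179, 1690], [55, 2, 2707, 1181, 2036], [56, 1, 2707, 1183, 2036], [68, 1, 2707, 1187, 2410], [0, 0], [19, 2, 2717, 2706], [45, 0, 2717, 1179, 1692], [55, 0, 2717, 1183, 2038], [56, 3, 2717, 1181, 2038], [67, 0, 2717, 1187, 2414], [0, 0], [22, 1, 2729], [48, 1, 2729, 1179, 1696], [57, 2, 2729, 1181, 2042], [58, 1, 2729, 1183, 2042], [70, 1, 2729, 1187, 2420], [49, 1, 2733, 2236, 2239], [50, 2, 2733, 2240, 2239], [0, 0], [24, 1, 2745], [50, 1, 2745, 1179, 1700], [59, 2, 2745, 1181, 2046], [60, 1, 2745, 1183, 2046], [72, 1, 2745, 1187, 2426], [0, 0], [26, 1, 2757], [44, 2, 2757, 1177, 872, 97, 49, 146, 740, 877, 1682, 1681, 1648], [52, 1, 2757, 1179, 1704], [61, 2, 2757, 1181, 2050], [62, 1, 2757, 1183, 2050], [74, 1, 2757, 1187, 2432], [0, 0], [75, 1, 2771, 1177, 1216], [76, 2, 2771, 1185, 1736], [77, 1, 2771, 1179, 1708], [79, 1, 2771, 1183, 2066], [80, 2, 2771,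 1181, 2066], [0, 0], [75, 1, 2783, 1205, 1674], [77, 1, 2783, 1189, 1216], [0, 0], [77, 1, 2789, 1233, 2782], [0, 0], [0, 0], [46, 1, 2795, 1251, 1426], [68, 1, 2795, 1255, 2256]]
def dJ7 : List (List ℕ) := [[0, 0], [19, 2, 2801, 2794], [45, 0, 2801, 1251, 1428], [67, 0, 2801, 1255, 2260], [0, 0], [22, 1, 2809], [48, 1, 2809, 1251, 1432], [70, 1, 2809, 1255, 2266], [0, 0], [24, 1, 2817], [50, 1, 2817, 1251, 1436], [72, 1, 2817, 1255, 2272], [0, 0], [26, 1, 2825], [52, 1, 2825, 1251, 1440], [74, 1, 2825, 1255, 2278], [0, 0], [63, 1, 2833, 1249, 1276], [64, 2, 2833, 1253, 1462], [65, 1, 2833, 1251, 1444], [80, 1, 2833, 1255, 2284], [80, 2, 2841, 2291, 1254], [0, 0], [75, 1, 2845, 1249, 1294], [77, 1, 2845, 1251, 1450], [0, 0], [56, 2, 2851, 1259, 1990], [57, 1, 2851, 1261, 1990], [58, 2, 2851, 1263, 1990], [59, 1, 2851, 1265, 1462], [60, 2, 2851, 1267, 1462], [61, 1, 2851, 1269, 1990], [62, 2, 2851, 1271, 1990], [63, 1, 2851, 1273, 1408], [65, 1, 2851, 1257, 1276], [80, 1, 2851, 1275, 2162], [80, 2, 2871, 2183,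 1274], [0, 0], [77, 1, 2875, 1257, 1294], [0, 0], [68, 2, 2879, 1279, 2010], [69, 1, 2879, 1281, 2010], [70, 2, 2879, 1283, 2010], [71, 1, 2879, 1285, 1484], [72, 2, 2879, 1287, 1484], [73, 1, 2879, 1289, 2010], [74, 2, 2879, 1291, 2010], [77, 1, 2879, 2180, 2870], [79, 1, 2879, 1277, 1294], [80, 2, 2879, 1293, 1294], [0, 0], [73, 3, 2901, 1291, 2022], [75, 3, 2901, 2834, 2841], [77, 3, 2901, 2868, 2871], [80, 0, 2901, 1277, 1312], [0, 0], [77, 1, 2911, 1311, 2874], [0, 0], [0, 0], [55, 2, 2917, 1321, 1830], [56, 1, 2917, 1323, 1830], [0, 0], [19, 2, 2923, 2916], [55, 0, 2923, 1323, 1832], [56, 3, 2923, 1321, 1832], [0, 0], [22, 1, 2931], [57, 2, 2931, 1321, 1836], [58, 1, 2931, 1323, 1836], [41, 2, 2933, 1319, 257, 360, 939, 1023, 1286, 1289, 1278, 1277, 1248, 2824], [24, 1, 2939], [0, 0], [24, 1, 2943], [59, 2, 2943, 1321, 1840], [60, 1, 2943, 1323, 1840], [0, 0], [26, 1, 2951], [61, 2, 2951, 1321, 1844], [62, 1, 2951, 1323, 1844], [0, 0], [40, 6, 2959, 1319, 1330, 1333, 1466, 1465, 1992, 2854], [54, 1,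 2959, 2192, 2191], [63, 2, 2959, 1321, 1554], [64, 1, 2959, 1323, 1554], [55, 1, 2967, 1547, 1990], [59, 1, 2967, 1549, 1720], [60, 2, 2967, 1551, 1720], [61, 1, 2967, 1553, 2966], [80, 1, 2967, 1557, 2318], [0, 0], [53, 1, 2979, 1319, 1330], [65, 2, 2979, 1321, 1848], [66, 1, 2979, 1323, 1848], [81, 2, 2979, 2192], [0, 0], [75, 1, 2989, 1319, 1352], [77, 1, 2989, 2192, 2986], [79, 1, 2989, 1323, 1856], [80, 2, 2989, 1321, 1856], [0, 0], [75, 3, 2999, 2958, 2977], [77, 3, 2999, 2978, 2987], [0, 0], [55, 2, 3005, 1329, 1868], [56, 1, 3005, 1327, 1868], [0, 0], [19, 2, 3011, 3004], [55, 0, 3011, 1327, 1870], [56, 3, 3011, 1329, 1870], [0, 0], [22, 1, 3019], [57, 2, 3019, 1329, 1874], [58, 1, 3019, 1327, 1874], [0, 0], [24, 1, 3027], [59, 2, 3027, 1329, 1878], [60, 1, 3027, 1327, 1878], [0, 0], [26, 1, 3035], [61, 2, 3035, 1329, 1882], [62, 1, 3035, 1327, 1882], [0, 0], [53, 1, 3043, 2330, 2333], [54, 2, 3043, 1325, 1330], [65, 2, 3043, 1329, 1536], [66, 1, 3043, 1327, 1536], [81, 2, 3043, 2200], [0, 0], [75,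 1, 3055, 2330, 2976], [76, 2, 3055, 1325, 1352], [77, 1, 3055, 2200, 3052], [79, 1, 3055, 1327, 1886], [80, 2, 3055, 1329, 1886], [0, 0], [77, 3, 3067, 3042, 3053], [80, 0, 3067, 1327, 1894], [0, 0], [77, 1, 3073, 1331, 1352], [80, 2, 3073, 1347, 1898], [0, 0], [69, 1, 3079, 1357, 2142], [0, 0], [0, 0], [22, 1, 3085], [0, 0], [24, 1, 3089], [34, 3, 3089, 1383, 1394], [0, 0], [26, 1, 3095], [36, 3, 3095, 1383, 1398], [0, 0], [0, 0], [0, 0], [45, 1, 3105, 1383, 1400], [81, 2, 3105, 2212], [0, 0], [55, 1, 3111, 1383, 1408], [55, 2, 3113, 1413, 1382], [0, 0], [67, 1, 3117, 1383, 1414], [77, 1, 3117, 2212, 3108], [0, 0], [68, 0, 3123, 1383, 1420], [77, 3, 3123, 3104, 3109], [0, 0], [22, 1, 3129], [0, 0], [24, 1, 3133], [34, 3, 3133, 1387, 3090], [19, 2, 3137, 3093], [0, 0], [26, 1, 3141], [36, 3, 3141, 1387, 3096], [19, 2, 3145, 3099], [0, 0], [0, 0], [0, 0], [45, 1, 3153, 1387, 3104], [46, 2, 3153, 1385, 1400], [81, 2, 3153, 2218], [0, 0], [55, 1, 3161, 1387, 3110], [56, 2, 3161, 1385, 1408], [56, 3, 3165, 1413,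 1384], [0, 0], [67, 1, 3169, 1387, 3116], [77, 1, 3169, 2218, 3158], [0, 0], [67, 3, 3175, 1385, 1420], [77, 3, 3175, 3152, 3159], [0, 0], [0, 0], [19, 2, 3183, 3180], [0, 0], [24, 1, 3187], [41, 1, 3189, 1391, 259, 72, 286, 1001, 290, 1117, 295, 426, 1103, 1938], [26, 1, 3191], [61, 2, 3191, 1941, 1924], [62, 1, 3191, 1937, 1924], [0, 0]]
def dJ8 : List (List ℕ) := [[26, 1, 3199], [38, 3, 3199, 1389, 1398], [21, 1, 3203], [0, 0], [0, 0], [0, 0], [47, 1, 3211, 1389, 1400], [48, 2, 3211, 1391, 1400], [81, 2, 3211, 2224], [0, 0], [57, 1, 3219, 1389, 1408], [58, 2, 3219, 1391, 1408], [59, 1, 3219, 3188, 3195], [60, 2, 3219, 3186, 3195], [60, 3, 3227, 3196, 3187], [0, 0], [77, 1, 3231, 2224, 3216], [0, 0], [77, 3, 3235, 3210, 3217], [0, 0], [22, 1, 3239], [0, 0], [26, 1, 3243], [0, 0], [0, 0], [0, 0], [49, 1, 3251, 1393, 1400], [50, 2, 3251, 1395, 1400], [81, 2, 3251, 2230], [0, 0], [59, 1, 3259, 1393, 1408], [60, 2, 3259, 1395, 1408], [60, 3, 3263, 1413, 1394], [0, 0], [0, 0], [77, 3, 3269, 3250, 3257], [0,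 0], [0, 0], [0, 0], [51, 1, 3277, 1397, 1400], [52, 2, 3277, 1399, 1400], [81, 2, 3277, 2238], [0, 0], [59, 1, 3285, 2742, 2735], [60, 2, 3285, 2740, 2735], [61, 1, 3285, 1397, 1408], [62, 2, 3285, 1399, 1408], [62, 3, 3293, 1413, 1398], [0, 0], [73, 1, 3297, 1397, 1414], [77, 1, 3297, 2238, 3282], [0, 0], [71, 3, 3303, 2740, 2739], [74, 0, 3303, 1397, 1420], [0, 0], [63, 1, 3309, 1403, 1462], [64, 2, 3309, 1405, 2896], [65, 1, 3309, 1401, 1408], [80, 1, 3309, 1407, 2242], [80, 2, 3317, 2251, 1406], [0, 0], [0, 0], [75, 1, 3323, 1411, 1484], [77, 1, 3323, 2248, 3316], [79, 1, 3323, 1409, 1414], [0, 0], [75, 3, 3331, 2866, 2871], [77, 3, 3331, 3314, 3317], [79, 3, 3331, 1413, 1420], [0, 0], [75, 1, 3339, 1417, 1506], [77, 1, 3339, 1419, 3320], [0, 0], [0, 0], [22, 1, 3347], [0, 0], [24, 1, 3351], [34, 3, 3351, 1427, 1438], [0, 0], [26, 1, 3357], [36, 3, 3357, 1427, 1442], [41, 7, 3357, 1427, 1448, 1447, 864, 1030, 346, 923, 1087, 245, 260, 1426, 3348], [40, 2, 3360, 3363, 3349, 1427, 1169, 1422, 1425, 2210],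 [22, 1, 3365], [38, 2, 1433, 1442, 3365], [47, 2, 2829, 3365, 2213, 3084], [5, 0, 3086, 3370], [6, 0, 3084, 3370], [48, 0, 2283, 3365, 3126], [22, 1, 3377], [38, 2, 2267, 2280, 3377], [25, 1, 3381], [74, 3, 2815, 3381, 3123, 3096], [3, 0, 3098, 3384], [4, 0, 3145, 3384], [9, 0, 3096, 3384], [10, 0, 3094, 3384], [52, 0, 2812, 3392, 2212], [36, 3, 3395, 2211, 2234], [30, 3, 2943, 2932, 2939, 3374, 3090], [21, 1, 3399], [42, 2, 2941, 3372, 1383, 1272, 1261, 415, 450, 1666, 1671, 1632], [26, 1, 3403], [36, 3, 3403, 1633, 1648], [38, 1, 2951, 2932, 3403], [21, 1, 3409], [33, 2, 2938, 3407, 1651], [39, 6, 2795, 1251, 261, 258, 1382, 3373, 2940, 3407], [21, 1, 3415], [37, 3, 3415, 1649, 1638], [47, 3, 3347, 2796, 3415, 2394], [5, 0, 3348, 3421], [6, 0, 3346, 3421], [7, 0, 3363, 3421, 2401], [3, 0, 3360, 3427], [9, 0, 3358, 3427], [10, 0, 3356, 3427], [32, 2, 2379, 2390, 2401, 3432, 3352], [51, 1, 2372, 3432, 2796], [25, 1, 3435], [27, 3, 2359, 2368, 3428, 3367, 2216], [22, 1, 3441], [47, 2, 2362, 3441, 2219, 3128],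 [5, 0, 3130, 3444], [6, 0, 3128, 3444], [27, 5, 3409, 1636, 3446, 1385, 1388, 3180], [3, 0, 3185, 3450], [4, 0, 3180, 3450], [36, 3, 2917, 2952, 3454, 3200], [5, 0, 3202, 3456], [6, 0, 3204, 3456], [9, 0, 3200, 3456], [10, 0, 3198, 3456], [40, 5, 2707, 1177, 1110, 613, 1632, 3410, 3454, 3186], [55, 1, 2954, 3454, 3218], [36, 2, 1831, 1846, 3469], [25, 1, 3471], [37, 0, 3471, 3223, 3290], [42, 4, 2037, 1728, 1727, 2972, 2975, 2959, 1321, 1830, 3471, 3227], [22, 1, 3477], [38, 0, 3477, 1925, 1918], [48, 0, 2593, 3477, 1974], [22, 1, 3483], [38, 0, 3483, 1971, 1960], [25, 1, 3487], [35, 2, 2631, 2590, 3487], [45, 1, 2634, 3491, 1963], [51, 1, 2592, 3489, 1963], [57, 3, 2711, 3479, 3194], [29, 5, 3497, 3189, 1391, 1392, 3238], [24, 1, 3499], [22, 1, 3475], [36, 2, 2925, 3464, 3182], [25, 1, 3505], [28, 4, 2925, 3460, 3098, 3384, 2809, 2800], [21, 1, 3509], [30, 3, 2379, 2370, 2392, 3424, 3352], [21, 1, 3513], [0, 0], [0, 0], [0, 0], [55, 1, 3521, 1427, 1444], [57, 1, 3521, 3348, 3421, 2397], [58, 2, 3521, 3346,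 3421, 2397], [61, 1, 3521, 3358, 3427, 2375], [62, 2, 3521, 3356, 3427, 2375], [62, 3, 3531, 2376, 3432], [0, 0], [67, 1, 3535, 1427, 1450], [77, 1, 3535, 2258, 2798], [0, 0], [0, 0], [22, 1, 3543], [47, 2, 3543, 2804, 3510], [45, 3, 3547, 2923, 2192], [65, 0, 3547, 2927, 2474], [66, 3, 3547, 2929, 2474], [0, 0], [24, 1, 3555], [34, 3, 3555, 1431, 3352], [19, 2, 3559, 3355], [0, 0], [26, 1, 3563], [36, 3, 3563, 1431, 3358, 3427], [19, 2, 3567, 3428], [0, 0], [0, 0], [0, 0], [55, 1, 3575, 1431, 3520], [56, 2, 3575, 1429, 1444], [57, 1, 3575, 3544, 3553], [58, 2, 3575, 3542, 3553], [27, 4, 3524, 3576, 3583, 2471, 2476], [58, 3, 3583, 3550, 3543], [36, 2, 2083, 2098, 3585], [25, 1, 3589], [37, 0, 3589, 2479, 2488], [22, 1, 3593], [39, 5, 3484, 2591, 2076, 2075, 1139, 2082, 3593, 2497], [41, 8, 1949, 1984, 1981, 1288, 1287, 1022, 938, 361, 444, 2082, 3593, 2497]]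
def dJ9 : List (List ℕ) := [[25, 1, 3599], [37, 0, 3599, 1877, 1882], [51, 3, 2535, 3599, 2514], [25, 1, 3605], [35, 2, 2565, 2532, 3605], [37, 0, 3605, 2513, 2522], [22, 1, 3611], [48, 2, 2534, 3613, 2527], [28, 4, 2601, 3483, 3597, 1875, 1870], [21, 1, 3617], [57, 3, 2604, 3617, 3016], [21, 1, 3621], [0, 0], [68, 2, 3625, 1429, 1450], [77, 1, 3625, 2264, 2806], [0, 0], [67, 3, 3631, 1429, 1458], [0, 0], [19, 2, 3635, 3397], [35, 3, 3635, 3369, 2216], [46, 3, 3635, 2812, 3388], [51, 3, 3641, 3143, 2218], [0, 0], [24, 1, 3645], [41, 6, 3645, 3395, 2211, 2250, 2247, 1291, 425, 378, 889, 1324, 3004], [21, 1, 3649], [27, 0, 3649, 3012, 3622, 1693, 1696], [41, 1, 3647, 1435, 1169, 551, 696, 1154, 547, 556, 604, 913, 2446], [26, 1, 3655], [0, 0], [40, 7, 3659, 2812, 3386, 3204, 3456, 2917, 2942, 3399, 3136], [0, 0], [0, 0], [57, 1, 3665, 1433, 1444], [58, 2, 3665, 1435, 1444], [58, 3, 3669, 1449, 1434], [0, 0], [69, 1, 3673, 1433, 1450], [70, 2, 3673, 1435, 1450], [73, 1, 3673, 3395, 3108], [74, 2, 3673, 3369,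 3108], [77, 1, 3673, 2270, 2814], [0, 0], [0, 0], [22, 1, 3687], [30, 0, 3687, 1437, 1434, 3646, 3651], [23, 1, 3691], [34, 3, 3693, 3005, 3028], [0, 0], [26, 1, 3697], [36, 3, 3697, 3354, 3434], [27, 5, 3701, 3513, 3355, 3686, 3695], [33, 3, 3701, 2381, 2350], [24, 1, 3705], [22, 1, 3703], [38, 2, 3687, 3698, 3703], [25, 1, 3711], [0, 0], [0, 0], [0, 0], [59, 1, 3719, 1437, 1444], [60, 2, 3719, 1439, 1444], [60, 3, 3723, 1449, 1438], [0, 0], [71, 1, 3727, 1437, 1450], [72, 2, 3727, 1439, 1450], [77, 1, 3727, 2276, 2822], [0, 0], [71, 3, 3735, 1439, 1458], [77, 3, 3735, 2820, 2823], [0, 0], [24, 1, 3741], [32, 0, 3741, 1441, 1438, 3698, 3705], [34, 3, 3741, 3360, 3427, 2392], [42, 7, 3741, 1441, 1169, 2162, 2165, 2174, 2173, 1012, 558, 2188], [49, 2, 3741, 2828, 2938], [48, 0, 3751, 2931, 2192], [52, 0, 3751, 3403, 2352], [65, 0, 3751, 2937, 2480], [66, 3, 3751, 2935, 2480], [0, 0], [0, 0], [0, 0], [55, 1, 3765, 3360, 3427, 2375], [59, 1, 3765, 3742, 3759], [60, 2, 3765, 3740, 3759], [61, 1, 3765, 1441, 1444],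 [62, 2, 3765, 1443, 1444], [62, 3, 3775, 1449, 1442], [0, 0], [69, 1, 3779, 3365, 3108], [70, 2, 3779, 3367, 3108], [73, 1, 3779, 1441, 1450], [74, 2, 3779, 1443, 1450], [77, 1, 3779, 2282, 2830], [0, 0], [73, 3, 3791, 1443, 1458], [77, 3, 3791, 2828, 2831], [0, 0], [75, 1, 3797, 2178, 2870], [76, 2, 3797, 1447, 1484], [77, 1, 3797, 2288, 2840], [79, 1, 3797, 1445, 1450], [80, 2, 3797, 1449, 1450], [0, 0], [77, 3, 3809, 2838, 2841], [79, 3, 3809, 1449, 1458], [0, 0], [77, 1, 3815, 1457, 2844], [0, 0], [0, 0], [77, 1, 3821, 1475, 1484], [80, 2, 3821, 1479, 1480], [0, 0], [0, 0], [73, 1, 3829, 1493, 1902], [0, 0], [0, 0], [77, 1, 3835, 1509, 3826], [0, 0], [0, 0], [54, 1, 3841, 2314, 2317], [54, 2, 3843, 1779, 1784], [81, 2, 3843, 2458], [0, 0], [45, 1, 3849, 1516, 3848], [47, 1, 3849, 1513, 1542], [48, 2, 3849, 1515, 1542], [49, 1, 3849, 1518, 3848], [51, 1, 3849, 1520, 3848], [53, 1, 3849, 2448, 2451], [81, 2, 3849, 2314], [0, 0], [55, 1, 3865, 1516, 3864], [57, 1, 3865, 1513, 1558], [58, 2, 3865, 1515, 1558],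 [59, 1, 3865, 1518, 3864], [61, 1, 3865, 1520, 3864], [63, 1, 3865, 2448, 2453], [63, 2, 3877, 2454, 2449], [0, 0], [67, 1, 3881, 1516, 3880], [69, 1, 3881, 1513, 1572], [70, 2, 3881, 1515, 1572], [71, 1, 3881, 1518, 3880], [73, 1, 3881, 1520, 3880], [77, 1, 3881, 2314, 3862], [0, 0], [75, 3, 3895, 3840, 3847], [77, 3, 3895, 3848, 3863], [0, 0], [46, 1, 3901, 1537, 1868], [68, 1, 3901, 1541, 2500], [0, 0], [19, 2, 3907, 3900], [45, 0, 3907, 1537, 1870], [67, 0, 3907, 1541, 2504], [47, 1, 3911, 3616, 2603], [48, 2, 3911, 3618, 2603], [0, 0], [22, 1, 3919], [28, 5, 3919, 3906, 3915, 2041, 3477], [48, 1, 3919, 1537, 1874], [70, 1, 3919, 1541, 2510], [73, 1, 3927, 3604, 2537], [74, 2, 3927, 3606, 2537], [49, 1, 3925, 2492, 2495], [50, 2, 3925, 2496, 2495], [0, 0], [24, 1, 3937], [50, 1, 3937, 1537, 1878], [72, 1, 3937, 1541, 2516], [0, 0], [26, 1, 3945], [38, 3, 3945, 3920, 3929], [52, 1, 3945, 1537, 1882], [74, 1, 3945, 1541, 2522], [69, 1, 3953, 3612, 2537], [0, 0], [75, 1, 3957, 1535, 1572], [77, 1, 3957,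 1537, 1886], [0, 0], [75, 1, 3963, 1555, 1856], [77, 1, 3963, 1543, 1572], [0, 0], [67, 1, 3969, 1561, 2010], [68, 2, 3969, 1563, 2878], [71, 1, 3969, 1565, 1740], [72, 2, 3969, 1567, 1740], [73, 1, 3969, 1569, 3968], [75, 1, 3969, 2190, 2986], [77, 1, 3969, 2332, 2976], [79, 1, 3969, 1559, 1572], [80, 2, 3969, 1571, 1572], [0, 0], [72, 0, 3989, 1565, 1754], [75, 3, 3989, 3044, 3053], [77, 3, 3989, 2962, 2977], [0, 0], [68, 2, 3997, 1577, 2910]]
def dJ10 : List (List ℕ) := [[0, 0], [0, 0], [41, 8, 4003, 1774, 3860, 3858, 3856, 3855, 1555, 1830, 3475, 3287], [25, 1, 4005], [37, 0, 4005, 2045, 2050], [22, 1, 4009], [0, 0], [19, 2, 4013, 4002], [28, 0, 4015, 4009, 3493, 1917, 1912], [21, 1, 4017], [0, 0], [22, 1, 4021], [28, 5, 4021, 4012, 4019, 1915, 3948], [35, 3, 4025, 3947, 3900], [39, 4, 4025, 3955, 1911, 708, 1522, 411, 408, 1910, 3948], [23, 1, 4029], [26, 1, 4027], [0, 0], [24, 1, 4035], [0, 0], [26, 1, 4039], [38, 3, 4039, 4022, 4027], [21, 1, 4043], [27, 0, 4043, 3908, 3917, 2039, 2042], [0, 0], [54,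 1, 4049, 2342, 3876], [63, 2, 4049, 1776, 3860], [64, 1, 4049, 1774, 3860], [55, 1, 4055, 3851, 4054], [57, 1, 4055, 3853, 2966], [58, 2, 4055, 3855, 2966], [59, 1, 4055, 3857, 4054], [61, 1, 4055, 3859, 4054], [0, 0], [53, 1, 4067, 1593, 1596], [81, 2, 4067, 2342], [0, 0], [75, 1, 4073, 1593, 1612], [77, 1, 4073, 2342, 4070], [0, 0], [76, 0, 4079, 1593, 1628], [77, 3, 4079, 4066, 4071], [0, 0], [0, 0], [19, 2, 4087, 4084], [0, 0], [22, 1, 4091], [0, 0], [24, 1, 4095], [0, 0], [26, 1, 4099], [0, 0], [39, 8, 4103, 1595, 301, 892, 424, 1560, 3870, 3867], [63, 0, 4103, 1782, 2316], [64, 3, 4103, 1780, 2316], [42, 8, 4099, 4102, 4109, 2309, 2313, 2311, 2307, 599, 706, 1522, 1960], [55, 3, 4109, 2309, 4108], [57, 3, 4109, 2307, 2334], [58, 0, 4109, 2305, 2334], [59, 3, 4109, 2311, 4108], [61, 3, 4109, 2313, 4108], [80, 3, 4109, 3862, 4052], [76, 0, 4123, 4049, 4078], [41, 2, 4093, 4102, 4113, 4117, 2325, 1008, 643, 1091, 882, 728, 2628], [24, 1, 4127], [34, 3, 4127, 3491, 4110], [35, 3, 4131, 4101, 4084], [26,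 1, 4133], [38, 1, 4099, 4092, 4133], [21, 1, 4137], [27, 3, 4087, 4090, 4131, 4137, 4088], [42, 3, 4137, 4085, 1595, 1140, 1114, 297, 306, 1148, 2590, 3487], [0, 0], [53, 1, 4145, 4102, 4105], [54, 2, 4145, 1595, 1596], [65, 2, 4145, 1780, 3842], [66, 1, 4145, 1782, 3842], [81, 2, 4145, 2346], [0, 0], [75, 1, 4157, 4102, 4123], [76, 2, 4157, 1595, 1612], [77, 1, 4157, 2346, 4154], [0, 0], [75, 3, 4165, 1595, 1628], [77, 3, 4165, 4144, 4155], [0, 0], [77, 1, 4171, 1597, 1612], [0, 0], [0, 0], [77, 3, 4177, 1631, 2348], [0, 0], [24, 1, 4181], [32, 0, 4181, 3404, 2939, 2825, 2818], [34, 3, 4181, 1633, 1644], [50, 1, 4181, 2352, 3704], [51, 1, 4189, 3697, 2820], [0, 0], [0, 0], [0, 0], [81, 2, 4197, 2352], [0, 0], [55, 1, 4201, 1633, 1662], [57, 1, 4201, 3408, 2955], [58, 2, 4201, 3410, 2955], [61, 1, 4201, 3404, 2935], [62, 2, 4201, 3402, 2935], [65, 1, 4201, 2352, 2355], [65, 2, 4213, 2356, 2353], [81, 2, 4213, 2646], [0, 0], [67, 1, 4219, 1633, 1674], [77, 1, 4219, 2352, 4198], [0, 0], [77, 3, 4225, 4196,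 4199], [79, 3, 4225, 4200, 4217], [80, 0, 4225, 4214, 4217], [0, 0], [24, 1, 4233], [34, 3, 4233, 1637, 4182], [19, 2, 4237, 4187], [0, 0], [26, 1, 4241], [36, 3, 4241, 1637, 3404], [38, 3, 4241, 3448, 3142], [21, 1, 4247], [27, 0, 4247, 3145, 3384, 2811, 2794, 3415], [0, 0], [0, 0], [39, 0, 4255, 1635, 1640, 1650, 4250, 4249, 3147, 2238], [53, 2, 4257, 2239, 3272], [0, 0], [81, 2, 4261, 2362], [0, 0], [55, 1, 4265, 1637, 4200], [56, 2, 4265, 1635, 1662], [57, 1, 4265, 3448, 3160], [58, 2, 4265, 3446, 3160], [65, 1, 4265, 2362, 2367], [65, 2, 4275, 2364, 2363], [81, 2, 4275, 2652], [0, 0], [67, 1, 4281, 1637, 4218], [68, 2, 4281, 1635, 1674], [69, 1, 4281, 3448, 3168], [0, 0], [68, 0, 4289, 1637, 4224], [70, 0, 4289, 3448, 3174], [79, 3, 4289, 4264, 4279], [80, 0, 4289, 4276, 4279], [0, 0], [19, 2, 4299, 3412], [27, 5, 4299, 1641, 1632, 3410, 3452], [33, 3, 4299, 1652, 4250], [35, 3, 4299, 3418, 2802], [45, 0, 4299, 2372, 3566], [52, 2, 4309, 3565, 2804], [38, 3, 4307, 3508, 3507], [24, 1, 4305], [40, 8,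 2363, 1635, 1638, 4298, 4315, 4247, 3147, 3274], [54, 1, 4253, 2362, 4317], [54, 2, 4319, 3275, 3276], [0, 0], [0, 0], [0, 0], [46, 2, 4327, 3412, 3788], [81, 2, 4327, 2372], [0, 0], [57, 1, 4333, 1639, 1662], [58, 2, 4333, 1641, 1662], [65, 1, 4333, 2372, 2375], [65, 2, 4339, 2376, 2373], [81, 2, 4339, 2658], [0, 0], [69, 1, 4345, 1639, 1674], [70, 2, 4345, 1641, 1674], [0, 0], [67, 3, 4351, 3412, 2831], [73, 3, 4351, 3418, 2799], [74, 0, 4351, 3437, 2799], [77, 3, 4351, 4326, 4331], [79, 3, 4351, 4332, 4343], [80, 0, 4351, 4340, 4343], [0, 0], [22, 1, 4365], [30, 0, 4365, 1643, 1640, 1650, 3414], [48, 1, 4365, 2382, 3513], [46, 2, 4371, 3355, 2820], [49, 1, 4371, 3351, 2796], [51, 1, 4371, 3434, 2383], [52, 2, 4371, 3438, 2383], [0, 0], [0, 0], [0, 0], [81, 2, 4385, 2382], [0, 0], [59, 1, 4389, 1643, 1662], [60, 2, 4389, 1645, 1662], [65, 1, 4389, 2382, 2385], [65, 2, 4395, 2386, 2383], [81, 2, 4395, 2664]]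
def dJ11 : List (List ℕ) := [[0, 0], [71, 1, 4401, 1643, 1674], [72, 2, 4401, 1645, 1674], [77, 1, 4401, 2382, 4386], [0, 0], [71, 3, 4409, 1645, 1680], [77, 3, 4409, 4384, 4387], [79, 3, 4409, 4388, 4399], [80, 0, 4409, 4396, 4399], [0, 0], [0, 0], [49, 1, 4421, 1653, 4326], [81, 2, 4421, 2394], [0, 0], [55, 1, 4427, 3406, 2935], [61, 1, 4427, 1647, 1662], [62, 2, 4427, 1649, 1662], [63, 1, 4427, 2760, 2765], [65, 1, 4427, 2394, 2397], [65, 2, 4437, 2398, 2395], [81, 2, 4437, 2672], [0, 0], [73, 1, 4443, 1647, 1674], [74, 2, 4443, 1649, 1674], [0, 0], [69, 3, 4449, 3416, 2799], [70, 0, 4449, 3414, 2799], [74, 0, 4449, 1647, 1680], [76, 0, 4449, 2760, 2769], [77, 3, 4449, 4420, 4425], [79, 3, 4449, 4426, 4441], [80, 0, 4449, 4438, 4441], [0, 0], [76, 2, 4465, 1659, 2788], [77, 1, 4465, 1655, 1674], [0, 0], [75, 1, 4471, 1665, 1740], [77, 1, 4471, 1669, 2104], [79, 1, 4471, 1663, 1674], [80, 2, 4471, 1671, 1674], [0, 0], [75, 1, 4481, 1677, 1764], [0, 0], [80, 0, 4485, 1689, 2676], [0, 0], [22, 1, 4489], [47,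 2, 4489, 2708, 3497], [57, 2, 4489, 2596, 3485], [58, 1, 4489, 2594, 3485], [55, 1, 4497, 3597, 3024], [61, 1, 4497, 1971, 1976], [62, 2, 4497, 1973, 1976], [42, 8, 4501, 1979, 1108, 598, 1120, 593, 584, 1003, 123, 562, 2222], [23, 1, 4505], [0, 0], [24, 1, 4509], [30, 5, 4509, 4490, 4507, 2221, 2228], [34, 3, 4509, 1691, 1702], [49, 2, 4509, 2708, 3501], [48, 0, 4517, 3239, 2230], [0, 0], [26, 1, 4521], [36, 3, 4521, 1691, 1706], [38, 3, 4521, 4490, 4501], [61, 2, 4521, 2596, 3487], [62, 1, 4521, 2594, 3487], [57, 1, 4531, 1959, 1976], [0, 0], [0, 0], [0, 0], [67, 1, 4539, 1691, 1708], [77, 1, 4539, 2412, 2714], [0, 0], [77, 3, 4545, 2708, 2715], [0, 0], [24, 1, 4549], [34, 3, 4549, 1695, 4510], [19, 2, 4553, 4515], [0, 0], [26, 1, 4557], [36, 3, 4557, 1695, 4522], [19, 2, 4561, 4525], [0, 0], [0, 0], [0, 0], [68, 2, 4569, 1693, 1708], [77, 1, 4569, 2418, 2726], [0, 0], [67, 3, 4575, 1693, 1716], [68, 0, 4575, 1695, 4544], [77, 3, 4575, 2720, 2727], [0, 0], [19, 2, 4583, 3652], [33, 3, 4583, 2240, 3636],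 [24, 1, 4587], [0, 0], [26, 1, 4591], [38, 3, 4591, 1697, 1706], [21, 1, 4595], [35, 0, 4593, 3652, 3657], [0, 0], [0, 0], [0, 0], [69, 1, 4605, 1697, 1708], [70, 2, 4605, 1699, 1708], [71, 1, 4605, 2236, 3282], [77, 1, 4605, 2424, 2738], [0, 0], [69, 3, 4615, 1699, 1716], [77, 3, 4615, 2732, 2739], [0, 0], [22, 1, 4621], [0, 0], [26, 1, 4625], [0, 0], [0, 0], [0, 0], [71, 1, 4633, 1701, 1708], [72, 2, 4633, 1703, 1708], [77, 1, 4633, 2430, 2754], [0, 0], [77, 3, 4641, 2748, 2755], [0, 0], [24, 1, 4645], [42, 7, 4645, 1705, 1152, 1100, 608, 603, 590, 2304, 2308, 2317], [59, 2, 4645, 2638, 4126], [60, 1, 4645, 2636, 4126], [57, 1, 4653, 4091, 1780], [0, 0], [0, 0], [43, 9, 4659, 2402, 2391, 1111, 870, 166, 164, 478, 1200, 1710], [74, 2, 4659, 1707, 1708], [76, 2, 4659, 2402, 4424], [77, 1, 4659, 2436, 2768], [0, 0], [73, 3, 4669, 1707, 1716], [77, 3, 4669, 2762, 2769], [0, 0], [0, 0], [75, 1, 4677, 1729, 2066], [77, 1, 4677, 1731, 1740], [0, 0], [0, 0], [0, 0], [0, 0], [77, 1, 4689, 1767, 4682], [0, 0], [77,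 3, 4693, 1771, 2444], [0, 0], [41, 8, 4697, 1777, 4048, 4064, 4062, 4061, 2959, 2916, 3460, 2742], [46, 1, 4697, 2450, 4598], [55, 2, 4697, 1775, 4002], [56, 1, 4697, 1777, 4002], [57, 1, 4705, 4009, 2766], [58, 2, 4705, 4011, 2766], [61, 1, 4705, 4007, 2736], [32, 5, 4711, 2741, 1397, 1394, 3244], [23, 1, 4713], [0, 0], [19, 2, 4717, 4696], [55, 0, 4717, 1777, 4012], [56, 3, 4717, 1775, 4012], [0, 0], [22, 1, 4725], [57, 2, 4725, 1775, 4020], [58, 1, 4725, 1777, 4020], [0, 0], [24, 1, 4733], [59, 2, 4733, 1775, 4034], [60, 1, 4733, 1777, 4034], [33, 0, 4735, 4696, 4713], [36, 0, 4741, 3243, 3092], [25, 1, 4743], [0, 0], [26, 1, 4747], [32, 5, 4747, 4734, 4745, 3089, 3096, 3384], [52, 1, 4747, 2450, 3654], [61, 2, 4747, 1775, 4038], [62, 1, 4747, 1777, 4038], [55, 1, 4757, 4047, 2736], [49, 1, 4753, 3645, 2812], [0, 0], [53, 1, 4763, 1773, 1784], [54, 2, 4763, 3860, 3892], [65, 2, 4763, 1775, 4066], [66, 1, 4763, 1777, 4066], [81, 2, 4763, 2450], [0, 0], [75, 1, 4775, 1773, 1804], [77, 1, 4775, 2450, 4772],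 [79, 1, 4775, 1777, 4072], [80, 2, 4775, 1775, 4072], [0, 0], [75, 3, 4785, 3860, 3863], [77, 3, 4785, 4762, 4773], [79, 3, 4785, 1775, 4078], [0, 0], [41, 8, 4793, 1781, 1595, 299, 288, 1512, 2448, 4598, 4597, 4646], [55, 2, 4793, 1783, 4084], [56, 1, 4793, 1781, 4084]]
def dJ12 : List (List ℕ) := [[61, 1, 4799, 4134, 4652], [32, 5, 4801, 4645, 1705, 1702, 4626], [23, 1, 4803], [0, 0], [19, 2, 4807, 4792], [55, 0, 4807, 1781, 4086], [56, 3, 4807, 1783, 4086], [57, 3, 4813, 4140, 4812], [0, 0], [24, 1, 4817], [59, 2, 4817, 1783, 4094], [60, 1, 4817, 1781, 4094], [33, 0, 4819, 4792, 4803], [36, 0, 4825, 4625, 4514], [25, 1, 4827], [0, 0], [26, 1, 4831], [32, 5, 4831, 4818, 4829, 4509, 4522], [38, 3, 4831, 4648, 4794], [61, 2, 4831, 1783, 4098], [62, 1, 4831, 1781, 4098], [55, 1, 4841, 4130, 4652], [57, 1, 4841, 4139, 4798], [59, 1, 4841, 4143, 4530], [0, 0], [75, 1, 4849, 2316, 3862], [76, 2, 4849, 1779, 1804], [77, 1, 4849, 2458, 3846], [80, 2, 4849, 1783, 4156], [0, 0], [77, 3, 4859, 3842, 3847], [79, 3,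 4859, 1783, 4164], [0, 0], [77, 1, 4865, 1785, 1804], [80, 2, 4865, 1799, 4170], [0, 0], [73, 1, 4871, 1815, 4684], [79, 1, 4871, 1821, 4174], [0, 0], [73, 3, 4877, 1827, 4686], [0, 0], [24, 1, 4881], [30, 5, 4881, 3475, 3287, 2043, 2048], [32, 0, 4881, 3473, 3225, 1925, 1922], [34, 3, 4881, 1831, 1842], [25, 1, 4887], [21, 1, 4885], [0, 0], [0, 0], [0, 0], [45, 1, 4899, 1831, 1848], [81, 2, 4899, 2468], [0, 0], [67, 1, 4905, 1831, 1856], [77, 1, 4905, 2468, 4902], [0, 0], [77, 3, 4911, 4898, 4903], [0, 0], [22, 1, 4915], [48, 1, 4915, 2474, 3580], [57, 2, 4915, 2926, 3509], [58, 1, 4915, 2928, 3509], [56, 2, 4923, 2801, 2832], [0, 0], [24, 1, 4927], [34, 3, 4927, 1835, 4882], [19, 2, 4931, 4889], [0, 0], [26, 1, 4935], [36, 3, 4935, 1835, 3473], [62, 1, 4935, 2928, 3505], [55, 1, 4941, 3185, 3450, 2955], [0, 0], [0, 0], [0, 0], [45, 1, 4949, 1835, 4898], [46, 2, 4949, 1833, 1848], [81, 2, 4949, 2474], [0, 0], [68, 2, 4957, 1833, 1856], [77, 1, 4957, 2474, 4954], [0, 0], [68, 0, 4963, 1835, 4910], [77, 3,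 4963, 4948, 4955], [0, 0], [19, 2, 4969, 4428], [35, 3, 4969, 4208, 4266], [55, 0, 4969, 2934, 4244], [56, 3, 4969, 2936, 4244], [61, 3, 4977, 4243, 4276], [0, 0], [24, 1, 4981], [41, 6, 4981, 4210, 4203, 1663, 1204, 1203, 1992, 2854, 2867, 3112], [50, 1, 4981, 2480, 3768], [59, 2, 4981, 2936, 2941], [60, 1, 4981, 2934, 2941], [55, 1, 4991, 3413, 4332], [57, 1, 4991, 3374, 3110], [61, 1, 4991, 2825, 2832], [62, 2, 4991, 2827, 2832], [0, 0], [0, 0], [0, 0], [47, 1, 5005, 1837, 1848], [48, 2, 5005, 1839, 1848], [81, 2, 5005, 2480], [0, 0], [69, 1, 5013, 1837, 1856], [70, 2, 5013, 1839, 1856], [77, 1, 5013, 2480, 5010], [0, 0], [67, 3, 5021, 4428, 4441], [69, 3, 5021, 1839, 1862], [73, 3, 5021, 4208, 4217], [74, 0, 5021, 4210, 4217], [77, 3, 5021, 5004, 5011], [0, 0], [22, 1, 5033], [30, 0, 5033, 1841, 1838, 4982, 4995], [57, 2, 5033, 2948, 3399], [58, 1, 5033, 2946, 3399], [56, 2, 5041, 3093, 3258], [59, 1, 5041, 3089, 3110], [61, 1, 5041, 4742, 4737], [62, 2, 5041, 4744, 4737], [0, 0], [26, 1, 5051], [32,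 5, 5051, 1841, 1846, 3934, 3929], [36, 3, 5051, 4888, 4891], [38, 3, 5051, 5034, 5047], [21, 1, 5059], [29, 5, 5059, 4037, 4020, 4029, 3949], [0, 0], [0, 0], [0, 0], [49, 1, 5069, 1841, 1848], [50, 2, 5069, 1843, 1848], [81, 2, 5069, 2486], [0, 0], [71, 1, 5077, 1841, 1856], [72, 2, 5077, 1843, 1856], [77, 1, 5077, 2486, 5074], [0, 0], [71, 3, 5085, 1843, 1862], [77, 3, 5085, 5068, 5075], [0, 0], [0, 0], [0, 0], [51, 1, 5095, 1845, 1848], [52, 2, 5095, 1847, 1848], [81, 2, 5095, 2494], [0, 0], [73, 1, 5103, 1845, 1856], [74, 2, 5103, 1847, 1856], [0, 0], [69, 3, 5109, 4204, 4217], [70, 0, 5109, 4206, 4217], [71, 3, 5109, 3932, 3927], [72, 0, 5109, 3934, 3927], [73, 3, 5109, 1847, 1862], [77, 3, 5109, 5094, 5101], [0, 0], [77, 1, 5123, 1849, 1856], [0, 0], [77, 1, 5127, 1861, 5122], [0, 0], [77, 3, 5131, 1867, 2498], [0, 0], [22, 1, 5135], [47, 2, 5135, 3902, 4044], [57, 2, 5135, 3008, 3650], [58, 1, 5135, 3006, 3650], [55, 1, 5143, 3653, 2616], [59, 1, 5143, 3645, 3664], [60, 2, 5143, 3647, 3664], [61, 1,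 5143, 3655, 2453], [62, 2, 5143, 3657, 2453], [0, 0], [24, 1, 5155], [30, 5, 5155, 5136, 5147, 3667, 3722], [34, 3, 5155, 1869, 1880], [59, 2, 5155, 3008, 3692], [60, 1, 5155, 3006, 3692], [57, 1, 5165, 3687, 3718], [61, 1, 5165, 3713, 3031], [62, 2, 5165, 3711, 3031], [0, 0], [26, 1, 5173], [32, 5, 5173, 5156, 5169, 1879, 1884], [36, 3, 5173, 1869, 1884], [38, 3, 5173, 5136, 5151], [51, 2, 5173, 3902, 4026], [48, 0, 5183, 4021, 2342], [50, 0, 5183, 4031, 3951], [0, 0], [0, 0], [0, 0], [67, 1, 5193, 1869, 1886], [77, 1, 5193, 2502, 3904], [0, 0]]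
def dJ13 : List (List ℕ) := [[77, 3, 5199, 3902, 3905], [0, 0], [24, 1, 5203], [34, 3, 5203, 1873, 5156], [19, 2, 5207, 5161], [35, 3, 5207, 5171, 5208], [0, 0], [26, 1, 5213], [32, 5, 5213, 5204, 5211, 5203, 5214], [36, 3, 5213, 1873, 5174], [19, 2, 5219, 5179], [0, 0], [0, 0], [0, 0], [67, 1, 5227, 1873, 5192], [68, 2, 5227, 1871, 1886], [77, 1, 5227, 2508, 3912], [0, 0], [67, 3, 5235, 1871, 1894], [68, 0, 5235, 1873, 5198], [77, 3, 5235, 3910, 3913], [0, 0], [19, 2, 5243, 3596], [35, 3, 5243, 3600, 1954], [26, 1, 5247], [0, 0], [40, 7, 5251, 3924, 3923, 3476, 2037, 2046, 4892, 4930], [0, 0], [0, 0], [69, 1, 5257, 1875, 1886], [70, 2, 5257, 1877, 1886], [71, 1, 5257, 2492, 5100], [72, 2, 5257, 2496, 5100], [77, 1, 5257, 2514, 3926], [0, 0], [77, 3, 5269, 3924, 3927], [0, 0], [22, 1, 5273], [30, 0, 5273, 1879, 1876, 2492, 3594], [38, 0, 5273, 5170, 5167], [57, 2, 5273, 3032, 3702], [58, 1, 5273, 3030, 3702], [56, 2, 5283, 3701, 2385], [59, 1, 5283, 3705, 2355], [61, 1, 5283, 3697, 3718], [0, 0], [0, 0],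 [0, 0], [71, 1, 5295, 1879, 1886], [72, 2, 5295, 1881, 1886], [77, 1, 5295, 2520, 3942], [0, 0], [71, 3, 5303, 1881, 1894], [77, 3, 5303, 3940, 3943], [0, 0], [0, 0], [0, 0], [73, 1, 5313, 1883, 1886], [74, 2, 5313, 1885, 1886], [77, 1, 5313, 2526, 3952], [0, 0], [73, 3, 5321, 1885, 1894], [77, 3, 5321, 3950, 3953], [0, 0], [77, 1, 5327, 1893, 3956], [0, 0], [77, 3, 5331, 1897, 2528], [0, 0], [0, 0], [77, 1, 5337, 1905, 5334], [0, 0], [77, 3, 5341, 1909, 2530], [0, 0], [0, 0], [0, 0], [45, 1, 5349, 1911, 1928], [47, 1, 5349, 3948, 5318], [48, 2, 5349, 3954, 5318], [51, 1, 5349, 3930, 5266], [52, 2, 5349, 3928, 5266], [78, 1, 5349, 2536, 2535], [0, 0], [55, 1, 5363, 1911, 1936], [55, 2, 5365, 1941, 1910], [0, 0], [77, 1, 5369, 1950, 5360], [0, 0], [24, 1, 5373], [34, 3, 5373, 1915, 5054], [19, 2, 5377, 5057], [35, 3, 5377, 5053, 4932], [26, 1, 5381], [0, 0], [26, 1, 5385], [32, 5, 5385, 5374, 5381, 4927, 4936], [36, 3, 5385, 1915, 3930], [52, 1, 5385, 1956, 5246], [45, 1, 5393, 5245, 1975], [33, 3, 5391, 3935,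 4942], [0, 0], [0, 0], [0, 0], [45, 1, 5403, 1915, 5348], [46, 2, 5403, 1913, 1928], [78, 1, 5403, 2544, 2543], [0, 0], [55, 1, 5411, 1915, 5362], [56, 2, 5411, 1913, 1936], [57, 1, 5411, 4016, 4720], [58, 2, 5411, 4018, 4720], [58, 3, 5419, 4723, 4019], [0, 0], [67, 1, 5423, 1915, 5368], [77, 1, 5423, 1956, 5408], [0, 0], [19, 2, 5429, 3492], [35, 3, 5429, 3494, 2040], [26, 1, 5433], [0, 0], [24, 1, 5437], [50, 1, 5437, 1962, 4142], [51, 1, 5441, 4099, 4144], [52, 2, 5441, 4101, 4144], [0, 0], [0, 0], [0, 0], [47, 1, 5451, 1917, 1928], [48, 2, 5451, 1919, 1928], [78, 1, 5451, 2552, 2551], [0, 0], [56, 2, 5459, 3492, 2766], [57, 1, 5459, 1917, 1936], [58, 2, 5459, 1919, 1936], [61, 1, 5459, 3480, 2712], [62, 2, 5459, 3494, 2712], [65, 1, 5459, 1962, 4530], [65, 2, 5471, 4529, 1963], [0, 0], [77, 1, 5475, 1962, 5456], [0, 0], [38, 0, 5479, 4886, 4893], [25, 1, 5481], [0, 0], [49, 1, 5485, 1921, 1928], [50, 2, 5485, 1923, 1928], [78, 1, 5485, 2560, 2559], [0, 0], [59, 1, 5493, 1921, 1936], [60, 2, 5493, 1923,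 1936], [60, 3, 5497, 1941, 1922], [0, 0], [77, 1, 5501, 1968, 5490], [0, 0], [0, 0], [0, 0], [45, 1, 5509, 3922, 5266], [51, 1, 5509, 1925, 1928], [52, 2, 5509, 1927, 1928], [78, 1, 5509, 2568, 2567], [0, 0], [74, 2, 5519, 1927, 1942], [77, 1, 5519, 1974, 5516], [0, 0], [63, 1, 5525, 1931, 1990], [64, 2, 5525, 1933, 2018], [65, 1, 5525, 1929, 1936], [80, 1, 5525, 1935, 1976], [80, 2, 5533, 1985, 1934], [0, 0], [0, 0], [75, 1, 5539, 1939, 2010], [77, 1, 5539, 1982, 5532], [80, 2, 5539, 1941, 1942], [0, 0], [77, 1, 5547, 1947, 5536], [0, 0], [24, 1, 5551], [32, 0, 5551, 3601, 2492, 2489, 2484], [34, 3, 5551, 1949, 1966], [49, 2, 5551, 1951, 5062], [52, 0, 5559, 5051, 2486], [0, 0], [53, 2, 5563, 1951, 5344], [0, 0], [54, 3, 5567, 1951, 5346], [0, 0], [55, 1, 5571, 1949, 1976], [57, 1, 5571, 3603, 3040], [58, 2, 5571, 3615, 3040], [61, 1, 5571, 3601, 3024], [62, 2, 5571, 3599, 3024], [66, 2, 5571, 1951, 5362], [66, 3, 5583, 5367, 1950], [0, 0], [69, 3, 5587, 3615, 5320], [77, 3, 5587, 1951, 2536], [0, 0], [22,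 1, 5593], [28, 5, 5593, 1955, 3603, 5178, 5185], [47, 2, 5593, 1957, 4018]]
def dJ14 : List (List ℕ) := [[0, 0], [24, 1, 5601], [49, 2, 5601, 1957, 5372], [46, 0, 5605, 5379, 1968], [0, 0], [53, 2, 5609, 1957, 5398], [0, 0], [54, 3, 5613, 1957, 5400], [0, 0], [55, 1, 5617, 1955, 5570], [56, 2, 5617, 1953, 1976], [66, 2, 5617, 1957, 5410], [66, 3, 5623, 5421, 1956], [0, 0], [77, 3, 5627, 1957, 2544], [0, 0], [19, 2, 5631, 3490], [27, 5, 5631, 1961, 1948, 3615, 5220], [35, 3, 5631, 3488, 2600], [46, 3, 5631, 1963, 5428], [55, 0, 5631, 4528, 4560], [56, 3, 5631, 4530, 4560], [61, 3, 5643, 4559, 2606], [38, 3, 5637, 3619, 5214], [0, 0], [40, 7, 5649, 1963, 3492, 4008, 4003, 4034, 5060, 5376], [53, 2, 5649, 1963, 5446], [0, 0], [54, 3, 5655, 1963, 5448], [0, 0], [77, 3, 5659, 1963, 2552], [0, 0], [22, 1, 5663], [30, 0, 5663, 1965, 1960, 4110, 4139], [47, 2, 5663, 1969, 5478], [51, 3, 5669, 5481, 2622], [52, 0, 5669, 5483, 2622], [61, 2, 5673, 2625, 4624], [62, 1, 5673, 2627, 4624], [56, 2, 5677, 4824, 4821], [59,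 1, 5677, 4802, 4797], [0, 0], [26, 1, 5683], [36, 3, 5683, 5556, 5561], [38, 3, 5683, 5664, 5673], [51, 2, 5683, 1969, 4890], [48, 0, 5691, 4893, 2622], [49, 3, 5691, 4883, 2468], [50, 0, 5691, 4881, 2468], [57, 2, 5693, 2625, 4620], [58, 1, 5693, 2627, 4620], [0, 0], [57, 1, 5703, 5664, 5675], [58, 2, 5703, 5662, 5675], [59, 1, 5703, 1965, 1976], [60, 2, 5703, 1967, 1976], [61, 1, 5703, 5684, 5699], [62, 2, 5703, 5682, 5699], [66, 2, 5703, 1969, 5492], [0, 0], [77, 3, 5719, 1969, 2560], [0, 0], [24, 1, 5723], [32, 0, 5723, 1971, 1966, 5684, 5697], [34, 3, 5723, 3597, 2492], [42, 7, 5723, 1971, 1524, 714, 2320, 2328, 2327, 972, 1004, 621, 2244], [49, 2, 5723, 1975, 3224], [59, 2, 5723, 4496, 4505], [60, 1, 5723, 4494, 4505], [57, 1, 5737, 2221, 2242], [52, 0, 5733, 3470, 2468], [0, 0], [53, 2, 5743, 1975, 5504], [0, 0], [54, 3, 5747, 1975, 5506], [0, 0], [68, 0, 5751, 3597, 5268], [77, 3, 5751, 1975, 2568], [0, 0], [77, 3, 5757, 1983, 2578], [79, 3, 5757, 1985, 1986], [0, 0], [77, 3, 5763, 1989, 2582], [0,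 0], [72, 2, 5767, 1995, 2132], [77, 1, 5767, 1999, 2010], [0, 0], [0, 0], [0, 0], [77, 1, 5777, 2031, 5772], [0, 0], [77, 3, 5781, 2035, 2588], [0, 0], [24, 1, 5785], [30, 5, 5785, 3477, 3226, 3221, 3262], [34, 3, 5785, 2037, 2048], [39, 1, 5043, 5788, 5785, 2040, 3916, 3909, 3903, 5188], [59, 2, 5785, 2712, 3501], [60, 1, 5785, 2710, 3501], [57, 1, 5797, 3239, 3258], [0, 0], [0, 0], [0, 0], [45, 1, 5805, 2037, 2054], [47, 1, 5805, 3477, 5508], [48, 2, 5805, 3479, 5508], [51, 1, 5805, 3495, 5450], [52, 2, 5805, 3481, 5450], [66, 1, 5805, 2710, 4542], [81, 2, 5805, 2592], [0, 0], [67, 1, 5821, 2037, 2066], [73, 1, 5821, 3495, 5474], [0, 0], [69, 3, 5827, 3479, 2568], [70, 0, 5827, 3477, 2568], [73, 3, 5827, 3481, 2552], [74, 0, 5827, 3495, 2552], [77, 3, 5827, 5804, 5819], [79, 3, 5827, 2712, 2715], [80, 0, 5827, 2710, 2715], [0, 0], [24, 1, 5843], [34, 3, 5843, 2041, 5786], [19, 2, 5847, 5791], [0, 0], [0, 0], [0, 0], [45, 1, 5855, 2041, 5804], [46, 2, 5855, 2039, 2054], [47, 1, 5855, 3916, 5232], [48, 2,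 5855, 3914, 5232], [65, 2, 5855, 2722, 4572], [66, 1, 5855, 2724, 4572], [81, 2, 5855, 2602], [0, 0], [68, 2, 5871, 2039, 2066], [77, 1, 5871, 2602, 5868], [0, 0], [67, 3, 5877, 2039, 2072], [68, 0, 5877, 2041, 5826], [69, 3, 5877, 3914, 3913], [70, 0, 5877, 3916, 3913], [77, 3, 5877, 5854, 5869], [79, 3, 5877, 2722, 2727], [80, 0, 5877, 2724, 2727], [0, 0], [19, 2, 5893, 4046], [27, 5, 5893, 2045, 2036, 3479, 5394], [35, 3, 5893, 4006, 4014], [26, 1, 5899], [38, 3, 5899, 4019, 5386], [0, 0], [0, 0], [0, 0], [47, 1, 5909, 2043, 2054], [48, 2, 5909, 2045, 2054], [65, 2, 5909, 2736, 4612], [66, 1, 5909, 2734, 4612], [81, 2, 5909, 2612], [0, 0], [69, 1, 5921, 2043, 2066], [70, 2, 5921, 2045, 2066], [77, 1, 5921, 2612, 5918], [0, 0], [77, 3, 5929, 5908, 5919], [79, 3, 5929, 2736, 2739], [0, 0], [0, 0], [0, 0], [49, 1, 5939, 2047, 2054], [50, 2, 5939, 2049, 2054], [65, 2, 5939, 2752, 4638], [81, 2, 5939, 2622], [0, 0], [71, 1, 5949, 2047, 2066], [72, 2, 5949, 2049, 2066], [0, 0], [77, 3, 5955, 5938, 5947], [79,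 3, 5955, 2752, 2755], [80, 0, 5955, 2750, 2755], [0, 0], [24, 1, 5963], [34, 3, 5963, 3493, 5438], [42, 7, 5963, 2051, 443, 454, 868, 848, 994, 948, 998, 1564, 3868, 3867, 4146], [50, 1, 5963, 2634, 4126], [47, 1, 5971, 4091, 4144], [0, 0], [0, 0], [45, 1, 5977, 3493, 5450], [51, 1, 5977, 2051, 2054], [52, 2, 5977, 2053, 2054], [65, 2, 5977, 2766, 4666], [66, 1, 5977, 2764, 4666], [81, 2, 5977, 2634], [0, 0], [43, 9, 5991, 4434, 4433, 1667, 451, 91, 60, 104, 462, 2068], [67, 1, 5991, 3493, 5474], [74, 2, 5991, 2053, 2066], [77, 1, 5991, 2634, 5988]]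
def dJ15 : List (List ℕ) := [[0, 0], [44, 10, 6001, 2051, 443, 83, 9, 7, 10, 140, 732, 2668], [68, 0, 6001, 3493, 2552], [77, 3, 6001, 5976, 5989], [79, 3, 6001, 2766, 2769], [80, 0, 6001, 2764, 2769], [40, 7, 6002, 6007, 5632, 5647, 5221, 5186, 5181, 5596], [54, 2, 2672, 6013, 5599], [63, 3, 2397, 6015, 4722], [39, 1, 2717, 2730, 2741, 3146, 4246, 4251, 2394, 6017], [54, 1, 4419, 2394, 6017], [46, 2, 6021, 4717, 4762], [54, 2, 6021, 6018, 4572], [75, 0, 6025, 4569, 4566], [68, 0, 4772, 6022, 6027], [75, 3, 4449, 4418, 6027], [82, 1, 6020, 6027], [45, 3, 4700, 4718, 6033], [47, 3, 5623, 5419, 6033], [48, 0, 5623, 5417, 6033], [65, 0, 5599, 4722, 6033], [66, 3, 5599, 4720, 6033], [63, 3, 6043, 4567, 2606], [42, 10, 3017, 1871, 1882, 5186, 5181, 5596, 6045, 3619, 5204, 5211], [54, 3, 5598, 6045, 2603, 5852], [11, 0, 5852, 6048], [39, 0, 6047, 5207, 5167, 3721, 3522, 3525, 3585, 5030], [63, 2, 5223, 3014, 6047], [64, 1, 5223, 3016, 6047], [55, 1, 6057, 5209, 3032], [56, 2, 6057, 5207, 5163], [59, 1, 6057, 5203,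 3014], [60, 2, 6057, 5205, 3014], [61, 1, 6057, 5211, 6056], [39, 8, 5225, 5222, 6061, 3687, 1437, 1426, 3348, 3421, 3746], [45, 3, 6069, 3747, 4458], [47, 3, 6069, 3749, 3002], [48, 0, 6069, 3753, 3002], [49, 3, 6069, 3743, 2282], [50, 0, 6069, 3741, 2282], [52, 0, 6069, 3755, 4226], [53, 1, 3911, 5224, 6069], [65, 0, 6069, 3757, 5030], [66, 3, 6069, 3759, 5030], [82, 0, 6069, 3751], [75, 1, 5227, 5224, 6089], [63, 2, 6091, 2935, 5000], [64, 1, 6091, 2937, 5000], [56, 0, 3065, 5230, 6095], [57, 3, 5866, 5863, 6095], [58, 0, 5866, 5861, 6095], [80, 3, 3017, 5226, 6095], [35, 1, 4583, 4590, 6035], [26, 1, 6105], [0, 0], [77, 1, 6109, 2055, 2066], [0, 0], [77, 1, 6113, 2071, 6108], [0, 0], [79, 3, 6117, 2079, 2438], [0, 0], [40, 7, 6121, 4212, 4266, 4273, 3163, 5044, 5035, 4888], [0, 0], [0, 0], [67, 1, 6127, 2083, 2104], [69, 1, 6127, 3593, 5100], [73, 1, 6127, 3591, 5010], [74, 2, 6127, 3589, 5010], [77, 1, 6127, 2646, 4216], [79, 1, 6127, 2354, 4198], [0, 0], [77, 3, 6141, 4212, 4217], [0, 0], [22, 1, 6145],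 [28, 5, 6145, 2087, 3593, 5728, 5739], [47, 2, 6145, 4274, 4273], [57, 2, 6145, 2364, 3443], [58, 1, 6145, 2366, 3443], [0, 0], [24, 1, 6157], [34, 3, 6157, 2087, 5276], [19, 2, 6161, 5285], [0, 0], [26, 1, 6165], [36, 3, 6165, 2087, 3591], [51, 2, 6165, 4274, 4972], [46, 0, 6171, 4971, 4437], [0, 0], [63, 2, 6175, 2364, 4317], [64, 1, 6175, 2366, 4317], [64, 2, 6179, 3275, 3284], [0, 0], [0, 0], [68, 2, 6185, 2085, 2104], [80, 2, 6185, 2364, 4262], [0, 0], [77, 3, 6191, 4274, 4279], [0, 0], [19, 2, 6195, 3766], [33, 3, 6195, 2102, 6172], [35, 3, 6195, 3528, 3576], [55, 0, 6195, 2374, 3566], [56, 3, 6195, 2376, 3566], [61, 3, 6205, 3565, 3586], [24, 1, 6199], [0, 0], [40, 7, 6211, 4338, 4992, 4985, 3113, 3260, 5798, 5846], [0, 0], [0, 0], [69, 1, 6217, 2089, 2104], [70, 2, 6217, 2091, 2104], [80, 2, 6217, 2376, 4330], [0, 0], [77, 3, 6225, 4338, 4343], [0, 0], [22, 1, 6229], [28, 5, 6229, 5284, 5273, 5160, 5167], [30, 0, 6229, 2093, 2090, 2100, 3526], [57, 2, 6229, 2386, 3513], [58, 1, 6229, 2384, 3513],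 [59, 1, 6239, 3351, 3520], [61, 1, 6239, 3434, 2385], [62, 2, 6239, 3438, 2385], [42, 10, 3007, 1872, 5212, 5217, 5634, 5633, 2633, 3526, 6234, 6243], [63, 3, 5189, 3008, 6247, 2384], [11, 0, 5793, 6249], [12, 0, 5188, 6249], [53, 1, 4383, 2382, 6252, 3902], [11, 0, 4382, 6255], [54, 0, 4413, 6252, 2502], [75, 1, 4387, 6252, 5192], [54, 1, 4381, 2382, 6250], [63, 3, 2386, 6250, 5041], [47, 1, 6263, 5033, 5068], [48, 2, 6263, 5035, 5068], [0, 0], [71, 1, 6271, 2093, 2104], [72, 2, 6271, 2095, 2104], [77, 1, 6271, 2664, 4398], [80, 2, 6271, 2386, 4386], [0, 0], [71, 3, 6281, 2095, 2116], [77, 3, 6281, 4394, 4399], [0, 0], [67, 1, 6287, 3585, 5010], [73, 1, 6287, 2097, 2104], [74, 2, 6287, 2099, 2104], [75, 1, 6287, 2632, 5988], [79, 1, 6287, 2396, 4424], [0, 0], [77, 3, 6299, 4436, 4441], [0, 0], [75, 1, 6303, 2107, 4676], [80, 2, 6303, 2115, 4464], [0, 0], [75, 3, 6309, 2119, 2128], [0, 0], [77, 1, 6313, 2125, 2126], [0, 0], [77, 3, 6317, 2131, 2678], [0, 0], [75, 1, 6321, 2135, 2684], [0, 0], [77, 1, 6325,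 2141, 2152], [0, 0], [77, 1, 6329, 2145, 6320], [79, 1, 6329, 2147, 2152], [0, 0], [80, 0, 6335, 2151, 2154], [0, 0], [77, 3, 6339, 2157, 2682], [0, 0], [77, 3, 6343, 2161, 2792], [0, 0], [75, 3, 6347, 2179, 3808], [0, 0], [77, 3, 6351, 2187, 2914], [0, 0], [20, 2, 6355, 3548], [39, 6, 6355, 3002, 3001, 2331, 3004, 3648, 3645, 3397], [40, 5, 6355, 2189, 2198, 2201, 3004, 3650, 3653, 2240], [41, 8, 6355, 2197, 1166, 1116, 291, 284, 1001, 306, 1690, 4490, 4507], [45, 2, 6355, 2193, 2916], [55, 2, 6355, 2195, 2466], [56, 1, 6355, 2197, 2466], [59, 1, 6369, 5694, 5699], [60, 2, 6369, 5696, 5699], [61, 1, 6369, 5726, 5735], [0, 0], [24, 1, 6377], [49, 2, 6377, 2193, 2942], [59, 2, 6377, 2195, 2482], [60, 1, 6377, 2197, 2482], [55, 1, 6385, 5686, 5699], [0, 0], [26, 1, 6389], [38, 3, 6389, 3748, 3755], [42, 8, 6389, 2189, 1036, 636, 1091, 878, 716, 2166, 2322, 2331, 3020], [51, 2, 6389, 2193, 2950], [61, 2, 6389, 2195, 2488]]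
def dJ16 : List (List ℕ) := [[62, 1, 6389, 2197, 2488], [55, 1, 6401, 5728, 5735], [57, 1, 6401, 3594, 2356], [59, 1, 6401, 2497, 3024], [0, 0], [75, 3, 6409, 2191, 3988], [77, 3, 6409, 2193, 2998], [79, 3, 6409, 2195, 2498], [0, 0], [45, 2, 6417, 2201, 3004], [55, 2, 6417, 2205, 2500], [56, 1, 6417, 2203, 2500], [64, 2, 6423, 6258, 4415], [0, 0], [19, 2, 6427, 6416], [46, 3, 6427, 2201, 3010], [55, 0, 6427, 2203, 2504], [56, 3, 6427, 2205, 2504], [57, 3, 6435, 5884, 5891], [58, 0, 6435, 5882, 5891], [0, 0], [22, 1, 6441], [47, 2, 6441, 2201, 3018], [57, 2, 6441, 2205, 2510], [58, 1, 6441, 2203, 2510], [0, 0], [24, 1, 6451], [49, 2, 6451, 2201, 3026], [59, 2, 6451, 2205, 2516], [60, 1, 6451, 2203, 2516], [0, 0], [26, 1, 6461], [51, 2, 6461, 2201, 3034], [61, 2, 6461, 2205, 2522], [62, 1, 6461, 2203, 2522], [0, 0], [79, 3, 6471, 2205, 2528], [0, 0], [77, 3, 6475, 2209, 3082], [0, 0], [24, 1, 6479], [30, 5, 6479, 3366, 3742, 3753, 6378], [34, 3, 6479, 2211, 2228], [49, 2, 6479, 2213, 3088], [48, 0, 6487, 3398,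 6380], [54, 0, 6487, 6264, 2664], [0, 0], [53, 2, 6493, 2213, 3100], [0, 0], [54, 3, 6497, 2213, 3102], [0, 0], [55, 1, 6501, 2211, 2242], [56, 2, 6501, 2216, 6154], [57, 1, 6501, 3366, 3764], [58, 2, 6501, 3364, 3764], [61, 1, 6501, 3368, 3664], [62, 2, 6501, 3394, 3664], [66, 2, 6501, 2213, 3110], [66, 3, 6515, 3115, 2212], [0, 0], [74, 0, 6519, 3368, 3684], [77, 3, 6519, 2213, 3122], [0, 0], [24, 1, 6525], [34, 3, 6525, 2217, 6480], [49, 2, 6525, 2219, 3132], [46, 0, 6531, 3139, 2230], [0, 0], [53, 2, 6535, 2219, 3148], [0, 0], [54, 3, 6539, 2219, 3150], [0, 0], [68, 0, 6543, 2217, 6518], [77, 3, 6543, 2219, 3174], [0, 0], [19, 2, 6549, 6402], [27, 5, 6549, 2223, 2210, 3364, 3568], [35, 3, 6549, 6374, 6357], [46, 3, 6549, 2225, 3182], [47, 3, 6557, 4302, 4309], [51, 3, 6557, 3506, 3546], [39, 0, 6052, 3011, 3020, 6394, 6550, 6553, 3569, 2282], [53, 2, 5030, 6563, 2283, 3760], [12, 0, 3760, 6564], [75, 1, 5003, 5020, 6563, 2830], [11, 0, 5002, 6569], [54, 2, 3789, 6570, 5004], [63, 3, 4989, 6570, 2934],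 [53, 3, 4986, 6575, 3750], [43, 1, 5507, 1927, 1528, 1268, 1452, 3784, 6573, 6132, 6127, 6120], [26, 1, 6579], [40, 0, 5207, 5159, 6232, 6235, 3527, 3585, 6566, 3762], [45, 3, 2521, 5208, 6583], [49, 3, 2509, 5202, 6583], [50, 0, 2509, 5204, 6583], [51, 3, 6582, 5210, 6583], [53, 3, 6431, 6047, 6583], [54, 2, 6583, 3763, 2828], [42, 10, 2375, 3766, 3775, 3720, 5166, 5206, 6595, 3374, 3090, 4742], [63, 3, 6055, 6595, 4988], [42, 10, 6211, 2376, 3426, 3361, 1443, 1436, 3686, 6060, 6599, 4995, 5036, 5047], [11, 0, 6212, 6601], [12, 0, 6210, 6601], [43, 0, 5215, 5222, 6066, 6599, 4999, 2837, 1473, 1850, 5096, 5101], [53, 2, 6607, 2495, 5090], [45, 1, 5182, 5218, 6609], [46, 2, 3951, 5220, 6609], [47, 1, 5638, 5635, 6609], [48, 2, 5638, 5647, 6609], [49, 1, 6608, 5216, 6609], [51, 1, 3911, 5214, 6609], [52, 2, 3911, 5212, 6609], [39, 1, 5975, 5430, 6615, 6619, 6610, 4021, 4012, 5598, 6045], [11, 0, 5974, 6625], [41, 5, 4807, 4648, 4645, 1705, 1692, 2606, 6626, 2053, 2046, 4892, 6122], [9, 0, 6579, 6628], [10,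 0, 6581, 6628], [11, 0, 6122, 6628], [12, 0, 6120, 6628], [53, 3, 5887, 6626, 2634], [54, 2, 5851, 2602, 6626, 5976], [9, 0, 5982, 6640], [10, 0, 5980, 6640], [11, 0, 6295, 6640], [13, 0, 5999, 6640], [14, 0, 5976, 6640], [16, 0, 5986, 6640], [18, 0, 5988, 6640], [63, 3, 4565, 2604, 6626, 2764], [12, 0, 4564, 6657], [76, 2, 5869, 6626, 5990], [41, 0, 3249, 3242, 4714, 4709, 6658, 1693, 1698, 2236, 2233, 2214, 6152], [3, 0, 6148, 6662], [4, 0, 6505, 6662], [5, 0, 6146, 6662], [6, 0, 6144, 6662], [13, 0, 6150, 6662], [15, 0, 6152, 6662], [16, 0, 6154, 6662], [53, 1, 4667, 6658, 2720], [54, 0, 4657, 2762, 6658, 2418], [11, 0, 4656, 6681], [76, 0, 2768, 6658, 4574], [64, 1, 3265, 3248, 6676, 6534], [12, 0, 6534, 6686], [13, 0, 6536, 6686], [46, 2, 6263, 5043, 6690], [49, 1, 3315, 3262, 6690], [50, 2, 3315, 3260, 6690], [65, 2, 3251, 3258, 6690], [66, 1, 3251, 3264, 6690], [63, 1, 6701, 3149, 3160], [41, 1, 3494, 5784, 5789, 6688, 2215, 2222, 4504, 4501, 5620, 5617, 5608], [14, 0, 5610, 6704, 5450], [3, 0, 6641,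 5979, 6706], [5, 0, 5454, 6706], [6, 0, 5452, 6706], [9, 0, 5813, 6706], [10, 0, 5815, 6706], [13, 0, 5477, 6706], [18, 0, 5456, 6706], [11, 0, 5608, 6704, 5448], [13, 0, 5657, 6722, 2542], [11, 0, 5654, 6725], [53, 3, 5629, 6726, 2550], [54, 2, 5403, 5398, 6718], [40, 7, 3247, 3248, 6672, 3165, 3220, 4938, 5396, 5896, 5895], [3, 0, 5895, 6732], [4, 0, 4046, 6732], [5, 0, 4042, 6732], [6, 0, 4044, 6732], [9, 0, 4040, 6732], [10, 0, 4038, 6732], [14, 0, 5139, 6732], [15, 0, 4757, 6732], [16, 0, 4755, 6732], [63, 3, 3265, 3246, 6750], [53, 3, 2231, 3246, 6746], [41, 0, 5469, 3501, 3241, 3248, 6664, 5730, 5723, 1971, 1952, 5624], [63, 1, 4812, 6636, 2356], [40, 8, 2527, 5220, 5634, 5633, 4126, 4093, 4086, 6759], [53, 2, 6759, 2353, 4192], [45, 1, 4145, 4086, 6763], [47, 1, 6762, 4141, 6763], [40, 0, 3950, 6613, 6614, 5431, 5962, 5969, 6765, 4193, 4194], [12, 0, 4194, 6768, 5308], [43, 4, 2491, 1166, 1116, 1534, 3944, 3953, 6761, 3754, 6082, 6623], [53, 3, 5325, 6761, 4226], [63, 0, 6467, 6761, 2357, 6124], [9,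 0, 6462, 6777], [10, 0, 6460, 6777], [13, 0, 6464, 6777], [15, 0, 6466, 6777], [16, 0, 6468, 6777], [76, 2, 3953, 6761, 4198], [54, 2, 5319, 6789, 4222], [53, 1, 4213, 6124, 6782], [43, 4, 5119, 1865, 1120, 1171, 1882, 5320, 6775, 6080, 5225, 5212], [75, 0, 5093, 5108, 6795], [43, 9, 6797, 6794, 5119, 1865, 1120, 1171, 1882, 5308, 6770, 3402, 6090]]
def dJ17 : List (List ℕ) := [[67, 1, 6797, 5221, 5312], [71, 1, 6797, 5216, 6796], [74, 2, 6797, 5215, 5226], [75, 1, 6797, 6607, 5100], [82, 2, 6797, 6609], [36, 1, 4831, 4806, 6632], [38, 1, 6631, 4814, 6632], [27, 2, 4649, 4792, 4844, 6811, 6813], [47, 3, 5749, 6813, 5748], [34, 2, 4563, 4646, 6815], [23, 1, 6819], [41, 4, 3579, 3668, 5148, 5151, 5596, 6041, 4567, 4556, 6819, 6813], [63, 2, 3571, 3574, 6823], [64, 1, 3571, 3586, 6823], [55, 1, 6827, 6810, 4839], [56, 2, 6827, 6814, 4651], [57, 1, 6827, 6812, 6826], [59, 1, 6827, 6818, 5640], [60, 2, 6827, 6820, 5640], [61, 1, 6827, 6579, 6628, 4813], [62, 2, 6827, 6581, 6628, 4813], [64, 2, 6827, 5507, 3196],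 [39, 2, 6828, 6833, 6835, 5631, 1959, 1952, 2542, 6726, 5648], [11, 0, 5650, 6844], [12, 0, 5648, 6844], [14, 0, 5652, 6844, 5440], [12, 0, 5446, 6851], [44, 5, 6016, 2389, 611, 602, 2344, 4154, 5444, 6852, 3480, 5802], [25, 1, 6855], [35, 2, 4710, 4718, 6855], [51, 2, 6105, 6032, 6855], [61, 2, 5899, 4720, 6855], [62, 1, 5899, 4722, 6855], [55, 3, 6751, 6733, 5894, 6865], [64, 2, 6865, 5803, 2712], [53, 0, 6869, 2709, 4536], [45, 3, 6747, 6733, 5894, 6871], [46, 0, 2613, 5892, 6871], [51, 3, 5599, 5898, 6871], [52, 0, 5599, 5900, 6871], [65, 0, 6861, 6862, 6871], [66, 3, 6861, 6864, 6871], [63, 3, 6883, 4537, 2594], [43, 4, 4833, 1779, 995, 991, 1664, 4430, 4441, 6013, 6877, 4537, 4520], [33, 1, 3389, 4760, 6867], [24, 1, 6889], [43, 4, 3245, 3246, 6733, 4041, 4048, 4064, 4122, 4103, 4098, 6846, 5383], [54, 1, 4323, 2372, 6597], [49, 1, 6895, 4733, 4762], [50, 2, 6895, 4735, 4762], [0, 0], [53, 2, 6901, 2225, 3206], [0, 0], [54, 3, 6905, 2225, 3208], [0, 0], [69, 3, 6909, 2223, 2252], [77, 3, 6909, 2225,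 3234], [0, 0], [26, 1, 6915], [32, 5, 6915, 2227, 2234, 2241, 4592], [38, 3, 6915, 4512, 4826], [41, 10, 4631, 4624, 4804, 4844, 6887, 4525, 4594, 6918, 6915, 6484], [51, 2, 6915, 2231, 3242], [50, 0, 6925, 4712, 4701], [41, 4, 4824, 6920, 6927, 4591, 4582, 6881, 4537, 4520, 4846, 4837], [63, 3, 5675, 6929, 4799], [57, 3, 6923, 6483, 6385], [58, 0, 6923, 6489, 6385], [59, 3, 6923, 6481, 6516], [60, 0, 6923, 6479, 6516], [63, 1, 2627, 4630, 6923], [64, 0, 6923, 6491, 4414], [65, 3, 6923, 6487, 5038], [40, 7, 4629, 4630, 6945, 5043, 5798, 5846, 5845, 3914, 3909], [12, 0, 4628, 6947], [53, 1, 2749, 4630, 6945], [65, 0, 6945, 5041, 6486], [82, 0, 6945, 6262], [75, 1, 4633, 4630, 6955], [63, 1, 5937, 2750, 6951, 5039], [11, 0, 5936, 6959], [53, 1, 5197, 6948, 2748], [54, 0, 5191, 3902, 6948, 2430], [11, 0, 5190, 6965], [76, 0, 3904, 6948, 4640], [63, 3, 5959, 6966, 3006], [76, 1, 5935, 5954, 6971], [67, 1, 6973, 3005, 3054], [68, 2, 6973, 3012, 6103], [76, 2, 6973, 6247, 6270], [79, 1, 6973, 3009, 5192], [80,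 2, 6973, 3007, 5192], [41, 0, 5727, 5696, 5689, 6941, 6485, 4512, 4509, 4522, 4560, 5642], [53, 1, 5732, 6985, 5639], [63, 1, 6905, 5734, 6985, 5643], [11, 0, 6904, 6989], [13, 0, 6906, 6989], [45, 1, 5471, 4560, 6992], [46, 2, 2763, 4562, 6992], [51, 1, 2721, 4558, 6992], [52, 2, 2721, 4556, 6992], [65, 2, 5638, 5643, 6992], [66, 1, 5638, 5641, 6992], [21, 1, 6921], [0, 0], [41, 10, 7009, 6914, 6919, 4595, 4656, 6681, 2415, 2422, 3304, 3307, 3176], [54, 3, 7009, 2231, 3248], [76, 3, 7009, 3256, 6703], [67, 3, 7015, 3165, 3330], [69, 3, 7015, 4270, 4279], [70, 0, 7015, 4272, 4279], [80, 0, 7015, 3161, 3174], [0, 0], [55, 1, 7025, 6484, 6952], [59, 1, 7025, 2227, 2242], [60, 2, 7025, 2229, 2242], [63, 1, 7025, 7008, 7011], [64, 2, 7025, 6755, 5141], [66, 2, 7025, 2231, 3258], [79, 2, 7025, 3256, 6699], [79, 3, 7039, 6700, 3257], [0, 0], [77, 3, 7043, 2231, 3268], [0, 0], [76, 3, 7047, 3282, 4320], [76, 0, 7049, 4253, 4288], [0, 0], [55, 1, 7053, 3396, 3664], [57, 1, 7053, 6358, 6367], [58, 2, 7053, 6360, 6367],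 [59, 1, 7053, 2241, 2616], [60, 2, 7053, 2237, 2616], [61, 1, 7053, 2233, 2242], [62, 2, 7053, 2235, 2242], [66, 2, 7053, 2239, 3284], [66, 3, 7069, 3295, 2238], [0, 0], [71, 3, 7073, 2237, 4614], [77, 3, 7073, 2239, 3302], [0, 0], [75, 3, 7079, 2247, 2900], [77, 3, 7079, 2249, 3330], [0, 0], [77, 3, 7085, 2255, 3344], [0, 0], [34, 3, 7089, 2257, 2274], [49, 2, 7089, 2259, 3350], [71, 2, 7089, 2798, 4374], [74, 0, 7095, 4377, 4408], [40, 8, 7093, 3355, 3686, 6060, 6065, 3622, 1695, 4536], [53, 1, 6871, 7098, 7093], [44, 10, 4911, 3473, 6987, 5433, 6051, 5900, 7101, 3434, 6252, 5174], [44, 1, 4895, 3473, 6987, 5433, 6051, 5900, 7101, 3434, 6252, 5192], [63, 1, 6862, 7101, 6238], [25, 1, 7105], [35, 0, 7105, 5228, 6798], [51, 0, 7105, 5197, 4032], [73, 0, 7105, 5193, 5174], [68, 2, 7115, 5179, 5312], [69, 1, 7115, 5185, 4070], [70, 2, 7115, 5181, 4070], [71, 1, 7115, 5187, 5312], [72, 2, 7115, 5177, 5312], [53, 3, 2469, 4894, 7113], [63, 3, 6367, 7127, 4728], [39, 1, 4187, 4366, 4375, 2802, 3508, 2925, 6364,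 7129], [39, 1, 5285, 6230, 6241, 3576, 3581, 2473, 4912, 7103], [41, 0, 5311, 1885, 1878, 5272, 7133, 5179, 3614, 5552, 5561, 5686, 5701], [11, 0, 5310, 7135], [63, 3, 5699, 7136, 3038], [0, 0], [55, 1, 7141, 2257, 2284], [57, 1, 7141, 4450, 4461], [58, 2, 7141, 4452, 4461], [61, 1, 7141, 4354, 4361], [62, 2, 7141, 4356, 4361], [0, 0], [77, 3, 7153, 2259, 3540], [0, 0], [28, 5, 7157, 2263, 4450, 6070, 6075], [47, 2, 7157, 2265, 3542], [69, 2, 7157, 2806, 3510], [79, 3, 7163, 2929, 4962], [0, 0], [49, 2, 7167, 2265, 3554], [40, 8, 7169, 3559, 3514, 3700, 3707, 6404, 6403, 6904, 6989], [46, 0, 7169, 3561, 2276], [53, 1, 6993, 7170, 7169], [0, 0], [51, 2, 7177, 2265, 3562], [73, 2, 7177, 2806, 4306], [68, 0, 7181, 4301, 2831], [0, 0], [53, 2, 7185, 2265, 3570], [53, 3, 7187, 6843, 4492], [65, 0, 7187, 6827, 5748], [66, 3, 7187, 6825, 5748], [0, 0], [54, 3, 7195, 2265, 3572], [0, 0]]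
def dJ18 : List (List ℕ) := [[56, 2, 7199, 2261, 2284], [64, 2, 7199, 7184, 7193], [66, 2, 7199, 2265, 3574], [79, 2, 7199, 2806, 4922], [79, 3, 7207, 4921, 2807], [0, 0], [77, 3, 7211, 2265, 3630], [0, 0], [46, 3, 7215, 2271, 3634], [68, 3, 7215, 2814, 3388], [0, 0], [24, 1, 7221], [41, 6, 7221, 3383, 3125, 3336, 3333, 2177, 719, 674, 901, 2198, 6416], [49, 2, 7221, 2271, 3644], [71, 2, 7221, 2814, 4760], [68, 0, 7229, 4759, 2739], [73, 3, 7229, 4749, 4784], [74, 0, 7229, 4747, 4784], [48, 0, 7227, 3651, 6418], [0, 0], [40, 7, 7239, 2271, 3397, 6360, 6355, 6376, 6488, 6528], [53, 2, 7239, 2271, 3658], [0, 0], [54, 3, 7245, 2271, 3662], [0, 0], [57, 1, 7249, 2267, 2284], [58, 2, 7249, 2269, 2284], [66, 2, 7249, 2271, 3664], [66, 3, 7255, 3671, 2270], [0, 0], [70, 0, 7259, 2267, 2292], [77, 3, 7259, 2271, 3684], [0, 0], [22, 1, 7265], [30, 0, 7265, 2273, 2268, 7222, 7237], [47, 2, 7265, 2277, 3686], [45, 3, 7271, 3695, 6454], [50, 0, 7271, 3693, 6418], [51, 3, 7271, 3711, 6454], [52, 0, 7271, 3713, 6454],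 [0, 0], [26, 1, 7281], [32, 5, 7281, 2273, 2280, 6076, 6081], [36, 3, 7281, 7090, 7097], [38, 3, 7281, 7266, 7279], [51, 2, 7281, 2277, 3696], [73, 2, 7281, 2822, 4190], [72, 0, 7293, 4181, 4224], [48, 0, 7291, 3703, 6454], [0, 0], [53, 2, 7299, 2277, 3714], [0, 0], [54, 3, 7303, 2277, 3716], [0, 0], [59, 1, 7307, 2273, 2284], [60, 2, 7307, 2275, 2284], [66, 2, 7307, 2277, 3718], [66, 3, 7313, 3725, 2276], [0, 0], [77, 3, 7317, 2277, 3734], [0, 0], [54, 3, 7321, 2283, 3762], [76, 3, 7321, 2830, 6594], [68, 0, 7325, 5209, 5302], [71, 3, 7325, 5205, 5234], [72, 0, 7325, 5203, 5234], [73, 3, 7325, 5210, 7324], [0, 0], [55, 1, 7335, 4352, 4361], [59, 1, 7335, 6076, 6087], [60, 2, 7335, 6078, 6087], [61, 1, 7335, 2279, 2284], [62, 2, 7335, 2281, 2284], [64, 2, 7335, 6562, 6084], [66, 2, 7335, 2283, 3764], [79, 2, 7335, 2830, 4990], [79, 3, 7351, 4989, 2831], [0, 0], [77, 3, 7355, 2283, 3790], [0, 0], [77, 3, 7359, 2289, 3808], [0, 0], [77, 3, 7363, 2295, 3818], [0, 0], [77, 3, 7367, 2299, 3832], [0, 0], [77, 3,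 7371, 2303, 3838], [0, 0], [75, 3, 7375, 2317, 4858], [77, 3, 7375, 2315, 3894], [0, 0], [75, 3, 7381, 2331, 3066], [77, 3, 7381, 2333, 3988], [0, 0], [77, 3, 7387, 2339, 4000], [0, 0], [20, 2, 7391, 5596], [28, 0, 7391, 5180, 5218, 5646, 5633], [36, 0, 7391, 5152, 5145], [40, 5, 7391, 2341, 2344, 2347, 4084, 4138, 4130, 4129], [45, 2, 7391, 2343, 4002], [55, 2, 7391, 2454, 4598], [56, 1, 7391, 2452, 4598], [61, 1, 7405, 4591, 2616], [42, 6, 7399, 4128, 4133, 6930, 5675, 4824, 4827, 4511, 4488, 4499], [63, 2, 7402, 7409, 3023, 5250], [11, 0, 5252, 7410], [12, 0, 5250, 7410], [53, 1, 4701, 7414, 3924], [0, 0], [24, 1, 7419], [30, 5, 7419, 5180, 5187, 3614, 5552], [32, 0, 7419, 5152, 5147, 6512, 6936], [49, 2, 7419, 2343, 4034], [48, 0, 7427, 5058, 5558], [52, 0, 7427, 5048, 6944], [54, 0, 7427, 6604, 2658], [40, 3, 7421, 5184, 5218, 6607, 6773, 6808, 7110, 7121], [27, 5, 7428, 7435, 7118, 7117, 5352, 5404], [5, 0, 7429, 7437], [6, 0, 7423, 7437], [7, 0, 5552, 7437], [8, 0, 5550, 7437], [9, 0, 5554, 7437],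 [10, 0, 5560, 7437], [14, 0, 5558, 7437, 5426], [18, 0, 5422, 7450], [3, 0, 5424, 7450, 5376], [7, 0, 5374, 7454], [8, 0, 5372, 7454], [10, 0, 5380, 7454], [12, 0, 6845, 5651, 7454], [13, 0, 5605, 7454, 5371], [7, 0, 5602, 7465], [8, 0, 5600, 7465], [3, 0, 5606, 7465, 5351], [17, 0, 5719, 7471, 1935], [14, 0, 5720, 7473, 1526], [18, 0, 2560, 7475, 1942], [18, 0, 5547, 7476, 5500], [13, 0, 5548, 7479, 5503], [15, 0, 5545, 7476, 5498], [12, 0, 5540, 7483], [18, 0, 5538, 7483], [13, 0, 5542, 7483, 5716], [5, 0, 5706, 7488], [6, 0, 5704, 7488], [7, 0, 5710, 7488], [8, 0, 5708, 7488], [9, 0, 5714, 7488], [10, 0, 5712, 7488], [9, 0, 5521, 7476, 4886], [18, 0, 5518, 7503], [13, 0, 5522, 7503, 5690], [3, 0, 5686, 7506], [7, 0, 5694, 7506], [8, 0, 5696, 7506], [11, 0, 7138, 7506], [15, 0, 5698, 7506], [16, 0, 5700, 7506], [5, 0, 5692, 7506, 5810], [3, 0, 5857, 7520], [4, 0, 5806, 7520], [18, 0, 5818, 7520], [15, 0, 5816, 7520, 2627], [17, 0, 4538, 7529, 4640], [14, 0, 4642, 7530, 2708], [3, 0, 2719, 7532], [4, 0,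 2706, 7532], [5, 0, 3496, 7532], [6, 0, 3466, 7532], [9, 0, 5467, 7532], [10, 0, 5469, 7532], [12, 0, 6869, 7532], [18, 0, 2714, 7532], [15, 0, 2712, 7532, 5958], [18, 0, 5954, 7550, 5820], [9, 0, 5824, 7552, 5480], [13, 0, 5669, 7554, 5477, 6706], [7, 0, 5666, 7557], [8, 0, 5680, 7557], [11, 0, 6930, 7557], [15, 0, 5674, 7557], [16, 0, 5676, 7557], [4, 0, 5678, 7557, 6708], [9, 0, 6643, 7568], [10, 0, 6645, 7568], [11, 0, 6647, 7568], [12, 0, 5850, 7568], [13, 0, 6649, 7568], [14, 0, 6651, 7568], [18, 0, 6655, 7568], [15, 0, 6653, 7568, 4820], [4, 0, 4824, 7584], [5, 0, 7007, 7584], [6, 0, 6921, 7584], [7, 0, 4818, 7584], [8, 0, 4816, 7584], [9, 0, 4828, 7584, 4661], [14, 0, 4516, 7597, 2776]]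
def dJ19 : List (List ℕ) := [[15, 0, 5795, 7599, 2779], [7, 0, 5784, 7601, 5952], [17, 0, 5948, 7602, 5826], [15, 0, 5840, 7604, 2750], [7, 0, 2746, 7606], [8, 0, 2744, 7606], [11, 0, 6963, 7606], [12, 0, 6950, 7606], [18, 0, 2754, 7606], [13, 0, 2748, 7606, 4546], [18, 0, 4544, 7618, 4632], [15, 0, 5945, 7620, 2594], [7, 0, 5942, 7623], [8, 0, 5940, 7623], [18, 0, 5946, 7623], [11, 0, 6956, 7620, 4536], [4, 0, 6873, 7630], [9, 0, 6879, 7630], [10, 0, 6877, 7630], [13, 0, 6871, 7630], [15, 0, 6881, 7630], [16, 0, 6883, 7630], [11, 0, 7099, 7630, 4381], [18, 0, 7094, 7645, 4400], [13, 0, 4406, 7646, 4371], [12, 0, 6260, 7649], [18, 0, 4386, 7649], [15, 0, 6279, 7649, 6236], [12, 0, 6979, 7655], [14, 0, 6276, 7655], [18, 0, 6270, 7655], [7, 0, 6272, 7655, 6241], [15, 0, 3520, 7662, 2113], [17, 0, 1660, 7664, 3540], [13, 0, 7155, 7666, 1684], [18, 0, 7152, 7669, 1681], [18, 0, 2799, 7671, 1674], [14, 0, 3539, 7673, 4468], [16, 0, 6307, 7674], [9, 0, 3418, 7673, 4446], [17, 0, 4442, 7678, 4350], [15, 0, 4362,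 7680, 4438], [4, 0, 4428, 7682], [12, 0, 4434, 7682], [18, 0, 4440, 7682], [13, 0, 4436, 7682, 6226], [18, 0, 6224, 7690, 6286], [15, 0, 6296, 7692, 2374], [12, 0, 4665, 7695], [18, 0, 4424, 7695], [7, 0, 4422, 7695, 2392], [3, 0, 4328, 7701], [18, 0, 4330, 7701], [15, 0, 6223, 7701, 2399], [17, 0, 6216, 7707, 6298], [14, 0, 6300, 7708, 4338], [3, 0, 4993, 7710], [18, 0, 4342, 7710], [15, 0, 4332, 7710, 4460], [18, 0, 4448, 7716, 4344], [11, 0, 4456, 7716, 4324], [12, 0, 6030, 7716, 4322], [3, 0, 6029, 7723], [4, 0, 6035, 7723], [5, 0, 6039, 7723], [6, 0, 6037, 7723], [9, 0, 6105, 7723], [10, 0, 6107, 7723], [11, 0, 4566, 7723], [13, 0, 6033, 7723], [15, 0, 6041, 7723], [16, 0, 6043, 7723], [17, 0, 6027, 7723], [9, 0, 4454, 7716, 3437, 7673], [17, 0, 4485, 7747, 1675], [15, 0, 4486, 7749, 1670], [18, 0, 2676, 7751, 4470], [13, 0, 4474, 7752, 2120], [17, 0, 6309, 7754, 2105], [12, 0, 6310, 7757, 445], [17, 0, 6317, 7759, 468], [14, 0, 6318, 7761, 475], [18, 0, 2678, 7763, 452], [18, 0, 744, 7765, 2122], [18,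 0, 6313, 7766, 452], [13, 0, 6314, 7769, 447], [17, 0, 2126, 7771, 468], [15, 0, 1247, 7772, 1236], [17, 0, 2793, 7775, 1217], [13, 0, 6345, 7777, 544], [18, 0, 6342, 7779, 1210], [18, 0, 2158, 7781, 2782], [14, 0, 2791, 7782, 545], [11, 0, 7675, 4467, 7785, 1110], [17, 0, 3534, 7787, 2404], [11, 0, 2408, 7788, 3518], [12, 0, 7774, 2406, 7788, 3516], [15, 0, 7677, 7787, 1135], [11, 0, 6304, 7795, 1138], [17, 0, 4676, 7797, 2440], [15, 0, 2442, 7798, 1721], [17, 0, 2445, 7801, 315], [13, 0, 4695, 7803, 338], [18, 0, 4692, 7805, 335], [18, 0, 1768, 7807, 326], [18, 0, 334, 7809, 1764], [18, 0, 4689, 7810, 326], [13, 0, 4690, 7813, 333], [17, 0, 4682, 7815, 315], [11, 0, 2775, 7817, 614], [17, 0, 2770, 7819, 2438], [15, 0, 6119, 7820, 1183], [18, 0, 6116, 7823, 2066], [18, 0, 2072, 7825, 6112], [13, 0, 6114, 7826, 730], [17, 0, 6108, 7829, 2640], [15, 0, 2642, 7830, 2063], [18, 0, 1716, 7833, 4674], [9, 0, 4671, 7833, 4662], [13, 0, 4672, 7837], [17, 0, 4668, 7837], [5, 0, 4617, 7833, 4608], [13, 0, 4618, 7843],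 [7, 0, 7075, 7843, 4611], [14, 0, 7076, 7847, 3300], [9, 0, 3306, 7849, 3299], [17, 0, 3345, 7851, 1415], [13, 0, 7087, 7853, 564], [18, 0, 7084, 7855, 1406], [18, 0, 2252, 7857, 3320], [14, 0, 3343, 7858, 565], [11, 0, 3340, 7861, 259], [17, 0, 1506, 7863, 280], [17, 0, 1511, 7864, 275], [17, 0, 3839, 7867, 280, 7864], [13, 0, 7373, 7869, 279], [18, 0, 7370, 7871, 1480], [18, 0, 2300, 7873, 3826], [14, 0, 3837, 7874, 583, 7864], [13, 0, 7875, 3836, 7877, 279], [17, 0, 7872, 2301, 7879, 267], [15, 0, 3825, 7881, 576, 1011], [17, 0, 3820, 7883, 2296], [17, 0, 7367, 7884, 1477], [14, 0, 7368, 7887, 575], [18, 0, 3832, 7889, 1484], [18, 0, 1502, 7891, 3828], [9, 0, 3830, 7892, 866, 1030], [17, 0, 1902, 7895, 396], [17, 0, 1907, 7896, 389], [17, 0, 5341, 7899, 396, 7896], [14, 0, 5342, 7901, 1900], [18, 0, 2530, 7903, 5334], [14, 0, 5339, 7904, 693, 7896], [13, 0, 7905, 5338, 7907, 395], [17, 0, 7902, 2531, 7909, 375], [15, 0, 3077, 7911, 684, 1035], [17, 0, 3072, 7913, 2206], [17, 0, 6475, 7914, 1351], [14,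 0, 6476, 7917, 561], [18, 0, 3082, 7919, 1352], [18, 0, 1374, 7921, 3078], [5, 0, 3080, 7922, 892], [17, 0, 2142, 7925, 508], [17, 0, 2149, 7926, 501], [17, 0, 6335, 7929, 508, 7926], [15, 0, 6336, 7931, 507], [17, 0, 6339, 7933, 103], [14, 0, 6340, 7935, 86], [18, 0, 2682, 7937, 492], [18, 0, 764, 7939, 2138], [18, 0, 6325, 7940, 155], [13, 0, 6326, 7943, 114], [17, 0, 2152, 7945, 534], [11, 0, 536, 7946, 531], [17, 0, 845, 7949, 237], [17, 0, 2703, 7951, 53], [14, 0, 2704, 7953, 12], [18, 0, 2692, 7955, 174], [18, 0, 806, 7957, 782], [18, 0, 2687, 7958, 203], [13, 0, 2688, 7961, 66], [15, 0, 2697, 7963, 234, 1063], [17, 0, 2694, 7965, 820], [17, 0, 2699, 7966, 819], [14, 0, 2700, 7969, 776], [18, 0, 2690, 7971, 2684], [12, 0, 6323, 7972, 795], [17, 0, 6320, 7975, 2680], [14, 0, 6331, 7975, 753, 7926], [15, 0, 7944, 6332, 7979, 507], [17, 0, 7947, 535, 7981, 103], [13, 0, 532, 7983, 24], [17, 0, 492, 7985, 154], [15, 0, 1040, 763, 7986, 486, 1051], [17, 0, 7977, 2681, 7989, 485], [11, 0, 2134, 7991, 190],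 [17, 0, 772, 7993, 792], [15, 0, 796, 7994, 157], [17, 0, 7956, 807, 7997, 38]]
def dJ20 : List (List ℕ) := [[13, 0, 178, 7999, 66], [17, 0, 7948, 239, 8000, 53], [15, 0, 1068, 837, 8003, 50, 1065], [17, 0, 818, 8005, 220], [7, 0, 5769, 7991, 718], [17, 0, 5766, 8009, 2584], [15, 0, 2586, 8010, 1991], [17, 0, 2589, 8013, 419], [13, 0, 5783, 8015, 440], [18, 0, 5780, 8017, 439], [18, 0, 2032, 8019, 430], [18, 0, 438, 8021, 2028], [18, 0, 5777, 8022, 430], [13, 0, 5778, 8025, 437], [17, 0, 5772, 8027, 419], [11, 0, 7477, 2006, 8029, 710], [17, 0, 7474, 2561, 8031, 2582], [13, 0, 5765, 8032, 708, 1522], [18, 0, 5762, 8035, 1934], [18, 0, 1986, 8037, 5536, 7481], [15, 0, 5761, 8037, 5534], [17, 0, 5756, 8041], [14, 0, 5758, 8041, 5542, 7483], [7, 0, 5496, 8044], [8, 0, 5494, 8044], [18, 0, 7487, 8044], [11, 0, 7485, 8044, 2573], [18, 0, 2022, 8052, 5774], [9, 0, 2903, 8052, 2892], [11, 0, 2904, 8057], [13, 0, 2906, 8057], [17, 0, 2900, 8057], [15, 0, 2908, 8057, 2897], [17, 0, 2915, 8065, 1295], [13, 0, 6353,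 8067, 552], [18, 0, 6350, 8069, 1274], [18, 0, 2184, 8071, 2874], [14, 0, 2913, 8072, 553], [3, 0, 3999, 8075, 292], [17, 0, 3996, 8077, 1586], [17, 0, 4001, 8078, 1573], [13, 0, 7389, 8081, 596], [18, 0, 7386, 8083, 1556], [18, 0, 2336, 8085, 3962], [11, 0, 3964, 8086, 1864], [17, 0, 5131, 8088, 1857], [14, 0, 5132, 8091, 1848], [18, 0, 2498, 8093, 5122], [14, 0, 5129, 8094, 667], [15, 0, 6415, 8093, 2982], [17, 0, 6408, 8099], [14, 0, 6412, 8099, 2992], [4, 0, 7159, 8103], [5, 0, 6075, 8103], [6, 0, 6073, 8103], [11, 0, 3000, 8103], [13, 0, 3002, 8103], [17, 0, 2998, 8103], [12, 0, 6410, 8099, 3980], [11, 0, 3992, 8117], [13, 0, 3994, 8117], [17, 0, 3988, 8117], [13, 0, 7385, 8117, 3983], [17, 0, 7380, 8125], [12, 0, 7382, 8125, 3056], [13, 0, 3068, 8129], [17, 0, 3066, 8129], [15, 0, 3070, 8129, 3063], [17, 0, 5331, 8135, 1887], [14, 0, 5332, 8137, 1536], [18, 0, 2528, 8139, 3956], [14, 0, 5329, 8140, 671], [15, 0, 6473, 8139, 3048], [17, 0, 6470, 8145], [9, 0, 5323, 8135, 5316], [13, 0, 5324, 8149], [17,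 0, 5320, 8149], [12, 0, 6774, 8149, 6791], [7, 0, 7295, 8155], [8, 0, 7285, 8155], [4, 0, 4291, 8155, 4282], [11, 0, 7051, 8161], [5, 0, 4292, 8161, 4287], [11, 0, 7033, 8165], [15, 0, 7023, 8165], [16, 0, 7011, 8165], [13, 0, 6547, 8165, 3173], [3, 0, 6544, 8173, 3155], [17, 0, 6518, 8175], [14, 0, 6522, 8175, 3120], [5, 0, 3377, 8179], [6, 0, 3379, 8179], [9, 0, 3383, 8179], [10, 0, 3381, 8179], [13, 0, 3126, 8179], [17, 0, 3122, 8179], [9, 0, 6520, 8175, 3680], [13, 0, 7263, 8193, 3683], [17, 0, 7258, 8195], [5, 0, 7260, 8195, 2809], [17, 0, 7363, 8199, 1255], [14, 0, 7364, 8201, 569], [18, 0, 3818, 8203, 1450], [18, 0, 1458, 8205, 3814], [13, 0, 3816, 8206, 568], [15, 0, 3813, 8205, 3806], [13, 0, 7361, 8211, 3803], [17, 0, 7358, 8213], [11, 0, 6349, 8211, 3799], [17, 0, 6346, 8217], [9, 0, 3793, 8205, 3786], [13, 0, 3794, 8221], [17, 0, 3790, 8221], [13, 0, 7357, 8221, 3789], [17, 0, 7354, 8227], [7, 0, 3737, 8205, 3730], [13, 0, 3738, 8231], [17, 0, 3734, 8231], [13, 0, 7319, 8231, 3733], [17, 0, 7316,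 8237], [3, 0, 3633, 8205, 3626], [13, 0, 7213, 8241, 3629], [17, 0, 7210, 8243], [5, 0, 5589, 8149, 5354], [17, 0, 5586, 8247], [14, 0, 5590, 8247, 5370], [7, 0, 7457, 8250], [8, 0, 7459, 8250], [12, 0, 7463, 8250], [18, 0, 5368, 8250], [9, 0, 7461, 8250, 3607], [4, 0, 4932, 8261], [11, 0, 6893, 8261], [12, 0, 7411, 5253, 8261], [7, 0, 4926, 8261, 5114], [18, 0, 5108, 8268, 4956], [13, 0, 4960, 8270, 2494], [3, 0, 4952, 8273], [18, 0, 4954, 8273], [3, 0, 4950, 8273, 5728], [5, 0, 5730, 8278], [6, 0, 5738, 8278], [7, 0, 5724, 8278], [8, 0, 5722, 8278], [9, 0, 5726, 8278], [10, 0, 5740, 8278], [12, 0, 6984, 8278], [15, 0, 5734, 8278], [16, 0, 5736, 8278], [14, 0, 5732, 8278, 4908], [18, 0, 4904, 8298], [3, 0, 4906, 8298, 4938], [15, 0, 4940, 8302, 2996], [3, 0, 3182, 8305], [9, 0, 3507, 8305], [10, 0, 3505, 8305], [13, 0, 6557, 8305, 2993], [3, 0, 6548, 8313], [4, 0, 6550, 8313], [5, 0, 6558, 8313], [6, 0, 6552, 8313], [9, 0, 6560, 8313], [10, 0, 6554, 8313], [5, 0, 4313, 8305, 8108], [11, 0, 5224, 8326], [12,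 0, 7347, 8326], [13, 0, 6068, 8326], [15, 0, 6086, 8326], [16, 0, 6084, 8326], [17, 0, 6088, 8326], [9, 0, 8154, 6080, 8326, 4307], [7, 0, 8157, 8341], [8, 0, 8159, 8341], [12, 0, 6791, 8341], [17, 0, 4218, 8341, 2807], [15, 0, 7209, 8348, 4214], [11, 0, 7202, 8351], [17, 0, 7206, 8351], [14, 0, 7204, 8351, 6136], [18, 0, 6126, 8356], [15, 0, 6138, 8356, 3575], [17, 0, 4198, 8361, 3630, 8241], [18, 0, 3624, 8362], [4, 0, 3626, 8362, 2360], [18, 0, 4263, 8366, 3814, 8206], [15, 0, 6189, 8369, 1448], [17, 0, 6184, 8371, 3808, 8211], [17, 0, 3796, 8372, 6190], [14, 0, 6192, 8374, 2838], [9, 0, 4997, 8376], [10, 0, 4999, 8376], [11, 0, 2836, 8376], [12, 0, 2834, 8376], [18, 0, 2840, 8376], [18, 0, 8215, 8376, 4278], [15, 0, 4264, 8388, 2285], [17, 0, 8160, 4289, 8391, 2292, 8199], [12, 0, 8163, 8393, 1253], [18, 0, 7048, 8395, 1480, 7881], [13, 0, 4318, 8397, 282, 7864]]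
def dJ21 : List (List ℕ) := [[15, 0, 6177, 8399, 1500], [12, 0, 6180, 8401, 3324], [18, 0, 3322, 8402], [15, 0, 3328, 8402, 3285], [17, 0, 1414, 8407, 3302, 7849], [13, 0, 3300, 8408, 564], [17, 0, 3282, 8411, 2252, 7857], [15, 0, 7071, 8413, 3318], [4, 0, 7054, 8415], [5, 0, 7058, 8415], [6, 0, 7056, 8415], [9, 0, 7066, 8415], [10, 0, 7064, 8415], [7, 0, 7060, 8415, 6695], [12, 0, 3148, 8426], [18, 0, 7039, 8426], [15, 0, 6699, 8426, 2617], [17, 0, 3256, 8433, 4614, 7843], [17, 0, 4604, 8434, 7042], [14, 0, 7044, 8436, 2732], [17, 0, 3268, 8439], [15, 0, 5915, 8434, 7040], [4, 0, 7026, 8442], [7, 0, 7030, 8442], [8, 0, 7028, 8442], [11, 0, 7034, 8442], [12, 0, 8164, 7032, 8442], [17, 0, 8427, 7038, 8442], [14, 0, 7036, 8442, 5926], [18, 0, 5920, 8456], [14, 0, 7845, 8434, 2231], [18, 0, 2739, 8461, 3266], [15, 0, 5933, 8461, 3264], [17, 0, 5928, 8465], [4, 0, 7231, 8461, 3138], [5, 0, 7224, 8469], [6, 0, 7236, 8469], [9, 0, 7232, 8469], [10, 0, 7234, 8469], [13, 0, 7226, 8469], [17, 0, 7228, 8469], [7, 0,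 7220, 8469, 3133], [17, 0, 8194, 7259, 8483, 3174, 8165], [11, 0, 8443, 8167, 8484], [15, 0, 8169, 8484], [16, 0, 8171, 8484], [13, 0, 3172, 8484, 2813], [17, 0, 3158, 8493, 3684, 8193], [9, 0, 3678, 8494, 3642], [7, 0, 4587, 8496], [8, 0, 4589, 8496], [13, 0, 7217, 8496, 3105], [18, 0, 7218, 8503, 3116], [7, 0, 6890, 8505], [8, 0, 6888, 8505], [5, 0, 4247, 8505, 8182], [15, 0, 4977, 8511, 7352], [7, 0, 7340, 8512], [8, 0, 7338, 8512], [11, 0, 8327, 7346, 8512], [13, 0, 7348, 8512], [17, 0, 7350, 8512], [4, 0, 4244, 8511, 7182], [13, 0, 7178, 8524], [17, 0, 7180, 8524], [15, 0, 7257, 8483, 3166], [13, 0, 7254, 8531], [11, 0, 7245, 8483, 3150], [13, 0, 7246, 8535], [12, 0, 7239, 8483, 3148, 8426], [11, 0, 7240, 8539], [14, 0, 7242, 8539, 2613], [11, 0, 3658, 8543, 5906], [12, 0, 3660, 8543, 5904], [11, 0, 6702, 8433, 4602], [12, 0, 4257, 8413, 1405], [14, 0, 4258, 8551, 2876, 8072], [5, 0, 6359, 8413, 3214], [3, 0, 6356, 8555], [4, 0, 6354, 8555], [7, 0, 6372, 8555], [8, 0, 6370, 8555], [9, 0, 6362, 8555],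 [10, 0, 6374, 8555], [11, 0, 7128, 8555], [15, 0, 6366, 8555], [16, 0, 6368, 8555], [14, 0, 6364, 8555, 3232], [18, 0, 3230, 8574], [7, 0, 4235, 8391, 2274], [4, 0, 4236, 8579, 7172], [11, 0, 7170, 8580], [13, 0, 7168, 8580], [4, 0, 4268, 8388, 7142], [3, 0, 4925, 8376, 2651], [18, 0, 8350, 7207, 8589], [13, 0, 4918, 8589, 6142], [17, 0, 6140, 8592], [11, 0, 3798, 8372, 6182], [11, 0, 6789, 8361, 3572], [3, 0, 6612, 8599], [4, 0, 4025, 8599], [5, 0, 3948, 8599], [6, 0, 3954, 8599], [7, 0, 4031, 8599], [8, 0, 4029, 8599], [9, 0, 3946, 8599], [10, 0, 3944, 8599], [13, 0, 5319, 8599], [18, 0, 3952, 8599], [13, 0, 3950, 8599, 7196], [9, 0, 6132, 8356, 6206], [4, 0, 6196, 8622], [7, 0, 6208, 8622], [8, 0, 6198, 8622], [15, 0, 6204, 8622], [16, 0, 6202, 8622], [5, 0, 6130, 8356, 3581], [7, 0, 5263, 8635], [8, 0, 5265, 8635], [9, 0, 5098, 8635], [10, 0, 5096, 8635], [11, 0, 6807, 8635], [18, 0, 5100, 8635], [13, 0, 5094, 8635, 4966], [18, 0, 4962, 8648, 5102], [15, 0, 7165, 8648, 2954], [13, 0, 7160, 8653], [17,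 0, 7162, 8653], [3, 0, 4964, 8648, 3469], [11, 0, 7102, 8659], [13, 0, 4912, 8659], [17, 0, 4910, 8659], [12, 0, 7185, 8348, 4192], [11, 0, 7188, 8667], [13, 0, 7186, 8667], [15, 0, 7192, 8667], [16, 0, 7190, 8667], [7, 0, 5389, 8302, 5080], [3, 0, 5390, 8677], [4, 0, 5394, 8677], [5, 0, 5897, 8677], [6, 0, 5903, 8677], [9, 0, 5386, 8677], [10, 0, 5384, 8677], [13, 0, 5392, 8677, 5083], [3, 0, 5242, 8691], [4, 0, 5244, 8691], [9, 0, 5248, 8691], [10, 0, 5246, 8691], [11, 0, 6794, 8268, 4946], [3, 0, 5218, 8701], [4, 0, 5220, 8701], [5, 0, 5635, 8701], [6, 0, 5647, 8701], [7, 0, 8700, 5216, 8701], [9, 0, 5214, 8701], [10, 0, 5212, 8701], [12, 0, 6606, 8701], [13, 0, 6608, 8701], [17, 0, 6797, 8701], [4, 0, 4930, 8261, 3608], [3, 0, 4888, 8723], [7, 0, 4882, 8723], [8, 0, 4880, 8723], [12, 0, 6629, 6123, 8723], [18, 0, 7505, 8723], [13, 0, 7507, 5691, 8723, 5754], [17, 0, 5750, 8734], [3, 0, 5752, 8734, 5511], [13, 0, 5270, 8739], [17, 0, 5268, 8739], [4, 0, 7451, 5425, 8250, 2540], [5, 0, 5058, 8745], [6,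 0, 5060, 8745], [7, 0, 5054, 8745], [8, 0, 5062, 8745], [9, 0, 5052, 8745], [10, 0, 5050, 8745], [18, 0, 7453, 8745], [13, 0, 7436, 5559, 8745, 5628], [17, 0, 5626, 8760], [12, 0, 6728, 8760, 6731], [18, 0, 5474, 8764], [13, 0, 6707, 5476, 8764, 5660], [17, 0, 5658, 8768], [4, 0, 5995, 8764, 6004], [11, 0, 6002, 8772], [13, 0, 6006, 8772], [15, 0, 6008, 8772], [16, 0, 6010, 8772], [17, 0, 6000, 8772], [7, 0, 5305, 8135, 5298], [3, 0, 7327, 8785], [13, 0, 5306, 8785], [17, 0, 5302, 8785], [3, 0, 5237, 8135, 5230], [7, 0, 7331, 8793], [8, 0, 7329, 8793], [13, 0, 5240, 8793]]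
def dJ22 : List (List ℕ) := [[17, 0, 5234, 8793], [3, 0, 5238, 8793, 5229], [13, 0, 5200, 8803], [17, 0, 5198, 8803], [7, 0, 3990, 8117, 3975], [17, 0, 4687, 8809, 1741], [9, 0, 4879, 8811, 990, 994], [18, 0, 4876, 8813, 1804], [18, 0, 1824, 8815, 4870], [15, 0, 4874, 8816, 996], [17, 0, 4174, 8819, 1628], [17, 0, 4177, 8820, 1613], [14, 0, 4178, 8823, 1596], [18, 0, 2348, 8825, 4170], [15, 0, 4869, 8826, 913], [17, 0, 4864, 8829, 2464], [11, 0, 4167, 8820, 4160], [13, 0, 4168, 8833], [17, 0, 4164, 8833], [15, 0, 4863, 8833, 4856], [13, 0, 4860, 8839], [17, 0, 4858, 8839], [11, 0, 7377, 8839, 4851], [17, 0, 7374, 8845], [14, 0, 7378, 8845, 3892], [11, 0, 3896, 8849], [13, 0, 3898, 8849], [17, 0, 3894, 8849], [12, 0, 4081, 8820, 4074], [11, 0, 4125, 8857], [13, 0, 4082, 8857], [17, 0, 4078, 8857], [15, 0, 4791, 8857, 4782], [9, 0, 8468, 7235, 8865], [10, 0, 8468, 7233, 8865], [11, 0, 4786, 8865], [13, 0, 4788, 8865], [17, 0, 4784, 8865], [9, 0, 4872, 8816, 946, 998], [7, 0, 5087, 8088, 5080], [13, 0, 5088,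 8879], [17, 0, 5084, 8879], [5, 0, 5025, 8088, 5016], [3, 0, 5022, 8885], [7, 0, 8513, 7339, 8885], [8, 0, 8513, 7341, 8885], [9, 0, 5026, 8885], [10, 0, 5028, 8885], [11, 0, 6053, 8885], [12, 0, 6562, 8885], [13, 0, 5030, 8885], [15, 0, 8327, 6085, 8885], [16, 0, 8327, 6087, 8885], [17, 0, 5020, 8885], [11, 0, 7081, 8057, 3312], [17, 0, 7078, 8909], [14, 0, 7082, 8909, 3326, 8402], [4, 0, 7017, 8913], [11, 0, 3332, 8913], [13, 0, 3334, 8913], [17, 0, 3330, 8913], [5, 0, 6911, 7857, 3214], [17, 0, 6908, 8923], [14, 0, 6912, 8923, 3232, 8574], [13, 0, 3236, 8927], [17, 0, 3234, 8927], [3, 0, 4577, 7833, 4570], [11, 0, 6685, 8933], [13, 0, 4580, 8933], [17, 0, 4574, 8933], [3, 0, 5879, 7825, 5872], [5, 0, 5882, 8941], [6, 0, 5884, 8941], [11, 0, 6638, 8941], [13, 0, 5886, 8941], [15, 0, 5888, 8941], [16, 0, 5890, 8941], [17, 0, 5876, 8941], [12, 0, 4483, 7810, 304], [7, 0, 6283, 7754, 6274, 7655], [13, 0, 6284, 8959], [17, 0, 6280, 8959], [7, 0, 4411, 7747, 4404, 7646], [4, 0, 7287, 8965], [11, 0, 6943, 8965],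 [12, 0, 6258, 8965], [13, 0, 4412, 8965], [15, 0, 4414, 8965], [16, 0, 4416, 8965], [17, 0, 4408, 8965], [11, 0, 7569, 6641, 6294, 7692, 6214], [4, 0, 8932, 4579, 7618, 4554], [5, 0, 6098, 8983], [6, 0, 6100, 8983], [11, 0, 8935, 8983], [12, 0, 6025, 8983], [13, 0, 8937, 8983], [14, 0, 4572, 8983], [15, 0, 5867, 8983], [16, 0, 5865, 8983], [17, 0, 8939, 8983], [18, 0, 4568, 8983], [4, 0, 8940, 5881, 7604, 5848], [5, 0, 8943, 9005], [6, 0, 8945, 9005], [11, 0, 8947, 9005], [13, 0, 8949, 9005], [14, 0, 5874, 9005], [15, 0, 8951, 9005], [16, 0, 8953, 9005], [17, 0, 8955, 9005], [18, 0, 5870, 9005], [12, 0, 6970, 7550, 5800], [12, 0, 6969, 7530, 4534], [33, 1, 5597, 7418, 7435], [45, 0, 7435, 4067, 4012], [46, 2, 7426, 7435, 4076], [55, 0, 7435, 4768, 6022], [56, 3, 7435, 4770, 6022], [67, 0, 7435, 4071, 5596], [71, 0, 7418, 9039, 9029], [72, 0, 9040, 7420, 9039], [73, 0, 7430, 9039, 6879, 7630], [76, 2, 9039, 6045, 5868], [78, 1, 7426, 9039, 5599], [71, 3, 8856, 4079, 4034, 9049], [72, 0, 8856, 4079, 4036, 9049],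 [73, 0, 5049, 9049, 5900], [79, 0, 4737, 9049, 4722], [67, 0, 4740, 9057, 4719], [68, 2, 9057, 4717, 4774], [71, 3, 8864, 4785, 4732, 9057], [72, 0, 8864, 4785, 4734, 9057], [73, 0, 4744, 9057, 6857], [77, 1, 9057, 6033, 7723, 7744], [78, 1, 6895, 9057, 6020], [68, 1, 7725, 9071, 6023], [71, 3, 4772, 6896, 9071], [72, 0, 4772, 6898, 9071], [78, 1, 7739, 9071, 9068], [79, 0, 7743, 9071, 9036], [76, 1, 6044, 9081, 9047], [77, 1, 9081, 9031, 9048], [78, 1, 5598, 9081, 7427], [43, 1, 4897, 3471, 8658, 7103, 5175, 6253, 3435, 7100, 5901, 9087, 6602], [73, 0, 5901, 9087, 5048], [78, 2, 9091, 6262, 9044], [79, 0, 6864, 9091, 5041], [77, 0, 6861, 9095, 6486], [82, 1, 6861, 9095], [53, 1, 9099, 6264, 4394], [78, 0, 9096, 9099, 9067], [45, 0, 6529, 9103, 6866], [51, 1, 9103, 6854, 6020], [52, 2, 9103, 6856, 6020], [78, 1, 9103, 9095, 9098], [67, 0, 6529, 9111, 4585], [75, 0, 6490, 9111, 9101], [69, 1, 9113, 3651, 6972], [70, 2, 9113, 3649, 6972], [73, 1, 9113, 3655, 4772], [74, 2, 9113, 3657, 4772], [78, 1, 6530, 9113,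 4752], [78, 1, 8479, 9125, 9104], [69, 0, 3650, 9127, 9117], [68, 1, 3013, 9129, 6977], [82, 1, 6419, 9129], [46, 1, 6429, 9133, 6977], [53, 1, 9133, 5935, 5938, 7623], [40, 4, 6438, 6429, 9137, 6884, 6861, 6858, 2731, 2716], [41, 0, 8504, 3143, 3132, 8468, 7225, 9137, 2600, 3619, 5204, 5211, 5209, 3030], [53, 0, 6497, 8189, 9141], [54, 0, 3120, 9141, 6454], [63, 2, 9141, 3031, 5290], [64, 1, 9141, 3033, 5290], [75, 0, 3103, 8191, 9141], [76, 3, 3103, 3116, 9141], [71, 3, 9153, 3029, 3066, 8129], [72, 0, 9153, 3027, 3066, 8129], [78, 3, 6499, 9153, 6454], [79, 3, 9153, 3031, 5302, 8785], [80, 0, 9153, 3033, 5302, 8785], [81, 1, 9153, 6454], [78, 1, 9143, 9152, 9165], [69, 1, 9167, 7288, 7293], [70, 2, 9167, 7296, 7293], [71, 1, 9167, 6451, 3052], [72, 2, 9167, 6453, 3052], [79, 1, 9167, 6459, 3942], [80, 2, 9167, 6457, 3942], [63, 1, 6501, 6496, 9179], [80, 1, 6456, 9158, 9179], [53, 1, 6514, 9181, 5300], [54, 1, 9181, 3941, 5290], [45, 3, 8912, 3335, 6502, 9187], [46, 0, 7013, 6663, 6504, 9187], [47, 3,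 8513, 7349, 6506, 9187], [48, 0, 8513, 7349, 6508, 9187], [49, 3, 9093, 6937, 9187], [50, 0, 9093, 6939, 9187]]
def dJ23 : List (List ℕ) := [[51, 3, 8530, 7255, 6510, 9187], [52, 0, 8530, 7255, 6512, 9187], [81, 2, 6514, 9187], [35, 3, 3162, 9201, 9190], [73, 2, 9207, 7015, 9201], [74, 3, 9201, 9204, 9207], [74, 2, 9205, 9202, 9211], [77, 2, 8533, 9211, 7013], [81, 0, 8533, 9211], [49, 1, 6733, 5138, 5147, 9217], [50, 2, 6733, 5138, 5149, 9217], [53, 3, 9217, 7009, 3270, 8439], [77, 0, 9217, 9210, 6150, 6662], [41, 3, 8989, 8982, 4571, 7596, 4519, 2227, 8410, 3279, 8412, 3396, 3670, 9223, 4710, 4713], [22, 1, 9227], [47, 0, 4595, 2436, 9227], [69, 0, 4709, 2769, 9227], [70, 1, 9227, 9059, 4709], [67, 3, 8864, 4785, 4696, 9233], [77, 0, 4700, 9233, 6924], [67, 3, 9072, 4598, 9239], [68, 0, 9070, 7722, 6034, 9239], [71, 0, 6919, 9239, 6927], [75, 3, 8738, 5269, 7415, 9239], [77, 3, 9058, 9230, 9239], [39, 1, 3923, 3478, 7603, 5951, 7600, 5791, 7605, 5831, 3609, 8741, 9247], [43, 8, 5567, 3599, 8743, 9247, 6917,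 6755, 5153, 3876, 3874, 4146, 5442], [11, 0, 5566, 9253], [13, 0, 5568, 9253], [49, 1, 7561, 6707, 5451, 5438, 9256], [11, 0, 5346, 9258], [14, 0, 9252, 5569, 9258], [51, 2, 4163, 5444, 9256, 9258, 4132], [11, 0, 4160, 9265], [12, 0, 4158, 9265], [14, 0, 4162, 9265], [17, 0, 8837, 9265], [18, 0, 4156, 9265], [15, 0, 4857, 9265, 4650], [11, 0, 4852, 9277], [12, 0, 4850, 9277], [13, 0, 8841, 9277], [14, 0, 4854, 9277], [17, 0, 8843, 9277], [18, 0, 4848, 9277], [14, 0, 8835, 9265, 5970], [3, 0, 5966, 9290], [5, 0, 5968, 9290], [6, 0, 5972, 9290], [7, 0, 5964, 9290], [8, 0, 5962, 9290], [82, 0, 5440, 9256, 9258], [67, 2, 6829, 9303, 4088], [69, 2, 4136, 9303, 4138], [79, 2, 4841, 9303, 4798], [67, 2, 6810, 9309, 4808], [69, 2, 4836, 9309, 4844], [71, 2, 4834, 9309, 4803], [81, 0, 5471, 9315], [54, 2, 5622, 6756, 9317], [67, 2, 4809, 9313, 6811], [71, 2, 4802, 9313, 4835], [79, 2, 4812, 9321, 6826], [81, 1, 9321, 5748], [45, 1, 3843, 4806, 9327], [44, 4, 6165, 8373, 3799, 2863, 1997, 3192, 6842, 9305, 6840, 3571,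 3564], [39, 1, 2505, 2512, 8260, 4927, 1833, 1838, 4968, 6170, 9331], [53, 0, 9331, 7178, 8524, 6574], [63, 0, 9331, 6204, 8622, 6572], [64, 3, 9331, 6202, 8622, 6572], [55, 1, 3757, 6168, 9339], [59, 1, 8631, 8623, 6199, 9339], [60, 2, 8631, 8623, 6209, 9339], [79, 0, 9339, 3779, 3776], [80, 3, 9339, 8224, 3776], [71, 2, 8623, 6199, 9349, 3771], [75, 2, 9330, 9349, 6577], [78, 3, 9334, 9349, 7348, 8512], [67, 3, 9355, 4969, 5020, 8885], [76, 1, 9330, 9347, 6577], [76, 1, 9333, 9359, 6082], [67, 0, 2506, 9361, 3909], [31, 3, 3557, 3562, 9345, 3787, 3728], [26, 1, 9365], [36, 1, 3439, 3558, 9365], [44, 4, 6733, 4039, 1593, 297, 306, 1706, 6683, 2726, 6999, 7175, 9365], [51, 2, 9365, 8232, 7280], [73, 2, 9365, 8234, 3696], [74, 1, 9365, 3727, 3696], [67, 3, 8230, 3735, 3560, 9377], [69, 1, 9377, 3703, 9150], [70, 2, 9377, 3709, 9150], [78, 1, 9372, 9377, 4188], [43, 7, 7303, 7280, 9385, 8582, 4559, 4564, 6657, 2759, 1185, 1606, 4068], [67, 1, 9385, 4236, 8579, 2822], [39, 1, 3249, 3138, 8468, 7237, 7268, 7273,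 7288, 9389, 2821, 3714], [12, 0, 3714, 9390], [13, 0, 7301, 9390, 7012], [12, 0, 7298, 9395], [40, 7, 6754, 2231, 3138, 8468, 7225, 6417, 6450, 7296, 9389], [39, 1, 3165, 3222, 3225, 8681, 8676, 5902, 6735, 6733, 5138, 9399], [43, 10, 9399, 4190, 8582, 4559, 4564, 6657, 2759, 1185, 1606, 4068, 9386], [53, 0, 9399, 2821, 3716], [75, 0, 9399, 2823, 7302], [67, 3, 8443, 8431, 5144, 9407], [68, 0, 6955, 7631, 6872, 9407], [69, 3, 8802, 5199, 5134, 9407], [70, 0, 8802, 5199, 5136, 9407], [71, 3, 9224, 5146, 9407], [72, 0, 9224, 5148, 9407], [74, 0, 9040, 5152, 9407], [75, 3, 4601, 8437, 7043, 6755, 9407], [3, 0, 9411, 9422], [4, 0, 9409, 9422], [5, 0, 9415, 9422], [6, 0, 9413, 9422], [7, 0, 9419, 9422], [8, 0, 9417, 9422], [9, 0, 9421, 9422], [10, 0, 9386, 9422], [11, 0, 7302, 9422], [13, 0, 7304, 9422], [17, 0, 9407, 9422], [18, 0, 9403, 9422], [78, 1, 6733, 5138, 9407, 9422, 9442], [79, 3, 9126, 5142, 9407, 9422], [80, 0, 9126, 5140, 9407, 9422], [64, 2, 9453, 9440, 7306], [65, 3, 6733, 4756, 9104, 9453], [66,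 1, 6530, 9453, 9442], [55, 3, 3265, 3138, 9459], [56, 0, 5039, 3136, 9459], [57, 3, 6422, 8473, 9459], [58, 0, 6422, 8471, 9459], [59, 3, 3167, 3132, 9459], [60, 0, 3167, 3134, 9459], [61, 3, 4780, 8864, 8477, 9459], [62, 0, 4780, 8864, 8475, 9459], [63, 3, 2735, 8542, 3661, 9459], [64, 2, 9459, 3717, 3718], [80, 3, 6733, 4756, 9124, 9459], [80, 2, 9125, 6751, 9481], [41, 5, 2540, 8744, 5061, 4035, 6743, 6733, 4047, 2734, 9477, 9474, 9051, 4017, 5400], [11, 0, 5400, 9484], [13, 0, 5615, 9484, 5590, 8247], [11, 0, 5612, 9489], [43, 10, 7416, 4699, 9477, 9474, 8858, 4121, 4103, 4098, 6846, 7454, 8250, 3605], [43, 10, 9269, 4135, 9259, 5347, 3928, 7416, 4699, 9477, 9474, 8858, 4121], [53, 3, 5345, 5348, 9490, 2542], [12, 0, 5344, 9497], [13, 0, 5565, 9497, 5628, 8760], [12, 0, 5562, 9501], [44, 2, 5065, 8755, 9498, 3930, 9251, 6915, 7008, 9212, 9185, 8790, 5170], [3, 0, 5160, 9504], [4, 0, 5207, 9504], [5, 0, 5158, 9504], [6, 0, 5166, 9504], [7, 0, 5156, 9504], [8, 0, 5154, 9504], [9, 0, 5170, 9504], [10, 0,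 5168, 9504], [15, 0, 5162, 9504], [16, 0, 5164, 9504], [63, 3, 2947, 5064, 9524], [39, 0, 9527, 3695, 3708, 3705, 2360, 8366, 3676, 8494, 2217, 3126, 8179], [41, 4, 4014, 4019, 8253, 3607, 8260, 4933, 2946, 9527, 3711, 3029, 3018], [53, 3, 6381, 9527, 7270], [39, 0, 9533, 7273, 7288, 7295, 8155, 8341, 2801, 2810, 3388, 8505, 3121], [41, 10, 3663, 3369, 6478, 6483, 9535, 3154, 8493, 1433, 1438, 3698, 9378], [54, 1, 9535, 3105, 3100], [75, 2, 9535, 8176, 6492], [76, 1, 9535, 3109, 6492], [69, 3, 9110, 6483, 9543], [70, 0, 9110, 6489, 9543], [71, 3, 8098, 6409, 6376, 9543], [72, 0, 8098, 6409, 6378, 9543], [78, 1, 6380, 9543, 6495], [69, 3, 9066, 3400, 9553], [70, 0, 9066, 3398, 9553], [71, 3, 8102, 2999, 2942, 9553], [72, 0, 8102, 2999, 2944, 9553], [78, 2, 9553, 9538, 9541], [79, 3, 8878, 5085, 2948, 9553], [80, 0, 8878, 5085, 2946, 9553], [55, 3, 3195, 8681, 9567], [61, 3, 5421, 8689, 9567], [62, 0, 5421, 8687, 9567], [63, 1, 9567, 3101, 3110], [65, 0, 5082, 9567, 6494], [80, 3, 2947, 5076, 9567], [55, 3,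 4495, 8695, 9577], [56, 0, 3023, 8693, 9577], [61, 3, 5625, 8699, 9577], [62, 0, 5625, 8697, 9577], [63, 1, 9577, 6493, 6500], [79, 2, 9577, 9542, 6383], [67, 1, 5257, 8693, 9591], [79, 3, 9591, 6384, 9543], [41, 4, 7393, 5593, 7467, 5357, 9593, 6382, 9533, 7277, 6453, 6440], [40, 2, 5209, 1881, 1874, 8693, 9589, 9181, 5300, 8786]]
def dJ24 : List (List ℕ) := [[42, 6, 5354, 7464, 5601, 8697, 9589, 6517, 2216, 3638, 8496, 8498, 9545, 9580], [54, 0, 5067, 5068, 9589, 9187], [3, 0, 9191, 9602], [4, 0, 9189, 9602], [5, 0, 9195, 9602], [6, 0, 9193, 9602], [7, 0, 9199, 9602], [8, 0, 9197, 9602], [9, 0, 9203, 9602], [10, 0, 9201, 9602], [12, 0, 5290, 9602], [13, 0, 9187, 9602], [15, 0, 9149, 9602], [16, 0, 9147, 9602], [17, 0, 9205, 9602], [18, 0, 9209, 9602], [41, 0, 5255, 3600, 7445, 7436, 7428, 7433, 7683, 4970, 9609, 9614, 5899, 4015, 4702], [11, 0, 5254, 9633], [75, 3, 9232, 9634, 5268, 8739], [44, 0, 7499, 5527, 2864, 2867, 3292, 8403, 3325, 1493, 1890, 5316, 9601], [53, 1, 8151, 9601, 4493], [63, 2, 9601,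 4495, 5742], [64, 1, 9601, 4497, 5742], [76, 3, 7134, 5311, 5312, 9601], [41, 0, 8895, 8884, 8517, 9611, 9603, 5291, 5208, 9599, 8795, 6804, 6801, 9645], [61, 3, 3065, 5314, 9645], [62, 0, 3065, 5316, 9645], [66, 1, 6776, 6467, 8151, 9645, 5745], [9, 0, 6779, 9655], [10, 0, 6781, 9655], [11, 0, 6124, 9655], [13, 0, 6783, 9655], [15, 0, 6785, 9655], [16, 0, 6787, 9655], [79, 0, 3039, 8153, 9645], [80, 3, 3039, 5312, 9645], [40, 0, 6386, 6488, 6528, 6527, 8495, 3677, 8367, 2361, 6760, 9641], [22, 1, 9599], [30, 4, 3619, 5204, 9599, 7331, 8793, 5862], [39, 0, 5293, 5208, 9599, 7331, 8793, 5231, 5260, 9593, 5088, 8879], [69, 2, 9599, 7325, 9675], [76, 2, 6102, 6047, 9681], [39, 5, 6441, 6426, 9135, 9683, 7321, 7182, 8524, 2931, 2944], [34, 0, 9685, 2943, 2922], [23, 1, 9687], [50, 1, 6407, 6444, 9687], [78, 1, 9691, 7162, 8653, 8654], [81, 2, 6396, 9691], [78, 1, 8655, 9695, 9690], [39, 1, 6427, 6442, 9689, 2923, 2932, 4244, 8511, 3794, 8221, 6573], [44, 1, 9679, 8688, 5400, 9484, 3607, 8266, 4591, 4602, 8548,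 9203, 9602, 9620, 5294], [75, 2, 9679, 8882, 5064], [76, 1, 9679, 5077, 5064], [67, 1, 9705, 9508, 9681], [68, 2, 9705, 9506, 5294], [71, 1, 9705, 9516, 5192], [72, 2, 9705, 9514, 5192], [73, 1, 9705, 9520, 5294], [76, 0, 8784, 5303, 5292, 9705], [63, 1, 9163, 9717, 9522], [54, 0, 6499, 9719, 7270], [29, 0, 9713, 9413, 9422, 9432, 6668, 6156], [22, 1, 9723], [69, 0, 9513, 9702, 9723], [70, 3, 9513, 9704, 9723], [76, 2, 8481, 9479, 9729], [79, 1, 9537, 3727, 3724, 9729], [3, 0, 6160, 9732], [4, 0, 6162, 9732], [5, 0, 9723, 9732], [6, 0, 9725, 9732], [7, 0, 6158, 9732], [8, 0, 6156, 9732], [12, 0, 9731, 9732], [17, 0, 9727, 9732], [18, 0, 9729, 9732], [80, 2, 3727, 3718, 9729, 9732], [81, 2, 9729, 9732, 7246, 8535, 6540], [11, 0, 6538, 9754], [13, 0, 6540, 9754], [46, 2, 8961, 6233, 9758], [49, 1, 8377, 2839, 3722, 9758], [50, 2, 8377, 2839, 3720, 9758], [54, 2, 8479, 9479, 9758], [65, 2, 2821, 3718, 9758], [66, 1, 2821, 3724, 9758], [82, 0, 7313, 9758], [68, 0, 9773, 9760, 9115], [75, 3, 9773, 3151, 3174,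 8165, 8484], [78, 0, 9773, 6540, 9754, 9727, 9732], [78, 1, 9779, 9750, 9758], [63, 3, 9753, 3663, 3670], [23, 1, 9677], [42, 9, 3207, 3218, 3468, 1847, 1840, 5032, 9463, 3717, 3688, 3693], [25, 1, 9787], [31, 0, 9787, 3692, 3711, 3029, 3034], [37, 0, 9787, 3650, 3657], [51, 3, 6903, 9787, 6418], [61, 0, 9787, 3009, 5174], [62, 3, 9787, 3007, 5174], [42, 10, 9799, 5179, 1885, 1878, 5272, 6160, 9732, 3663, 1433, 1438, 3698], [55, 3, 9799, 5179, 3038], [57, 3, 9799, 5181, 2452], [59, 3, 9799, 5177, 3038], [65, 3, 9799, 5183, 4728], [82, 0, 6903, 9809], [69, 3, 9811, 4727, 4784, 8865], [70, 0, 9811, 4725, 4784, 8865], [75, 3, 9811, 7130, 7292], [43, 1, 9817, 7283, 7298, 9395, 9206, 9574, 8686, 5398, 6714, 7520, 7526, 9136], [75, 0, 9817, 9385, 7131], [32, 5, 9819, 7268, 7279, 6451, 6462, 6777, 9655], [36, 3, 9819, 6417, 6462, 6777, 9655], [23, 1, 9823], [43, 3, 9100, 7735, 7722, 4567, 4556, 6988, 6905, 8567, 3217, 6900, 9795, 6425], [26, 1, 9829], [67, 2, 3558, 9375, 3701], [59, 1, 2461, 9300, 2766], [71, 1,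 4155, 9300, 5990], [72, 1, 9300, 6000, 8772, 9836], [72, 0, 8773, 6001, 9299, 9839], [79, 0, 2463, 9839, 4153], [71, 3, 2768, 9834, 9843], [23, 1, 9845], [41, 3, 8851, 3882, 3885, 1579, 1624, 1615, 1236, 7774, 1243, 2432, 9845], [22, 1, 9849], [30, 0, 9849, 9844, 9227, 4712, 4707], [71, 0, 4126, 9274, 4096], [63, 3, 4797, 9260, 5366], [24, 1, 9139], [41, 3, 6424, 6428, 6439, 9139, 6999, 6996, 2767, 4434, 7682, 7148, 8586, 4390], [71, 0, 9859, 2727, 9139], [75, 1, 9863, 6019, 9056], [22, 1, 9861], [26, 1, 9089], [36, 3, 9089, 5849, 5480, 7554, 8764], [42, 8, 9089, 6212, 6601, 4738, 9061, 8866, 3135, 3128, 3444, 8391, 2260, 8348, 4192, 6767], [44, 0, 9089, 6212, 6601, 5048, 5793, 6249, 3439, 7650, 7104, 4895, 3473, 6987], [51, 2, 9089, 9012, 5636], [73, 2, 9089, 9020, 5432], [68, 0, 9879, 5431, 6000, 8772], [50, 0, 9877, 6836, 7186, 8667], [39, 1, 9871, 2547, 2556, 7475, 1910, 3948, 8599, 8602, 5182, 7132], [69, 0, 5181, 9041, 7120], [67, 0, 8700, 5219, 9887, 7111], [54, 1, 8716, 5120, 8268, 4944], [39, 0,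 8634, 6806, 7110, 7119, 9043, 5597, 5180, 8703, 9891], [45, 3, 2527, 8705, 9891], [47, 3, 9877, 8709, 9891], [48, 0, 9877, 8707, 9891], [49, 3, 9890, 8710, 9891], [51, 3, 2509, 8715, 9891], [52, 0, 2509, 8713, 9891], [77, 0, 6808, 8721, 9891], [78, 3, 6808, 9888, 9891], [81, 1, 9888, 9891], [68, 3, 8598, 6613, 9909, 9894], [78, 3, 8279, 5733, 8664, 2468], [0, 0], [19, 2, 9917, 9292], [33, 3, 9917, 9298, 5430], [39, 1, 9917, 9296, 9837, 9880, 9899, 9894, 5324, 8149, 6791, 8341], [40, 0, 9917, 9294, 6765, 9882, 9897, 9894, 9641, 6842], [41, 4, 9917, 9296, 9837, 5993, 5872, 9005, 9018, 6682, 1707, 1700, 4620], [46, 3, 9917, 2347, 4086], [67, 0, 9917, 9839, 6765], [68, 3, 9917, 4154, 6765], [44, 1, 9923, 4310, 8519, 8513, 7343, 8059, 2891, 5528, 7489, 5713, 9926, 9933], [69, 3, 9933, 6766, 9932], [71, 3, 9933, 9882, 9875], [73, 1, 9931, 9934, 9933], [0, 0], [26, 1, 9943], [32, 5, 9943, 9300, 2051, 2048, 5480, 7554, 8764], [36, 3, 9943, 9916, 9941], [38, 3, 9943, 9296, 5444], [51, 2, 9943, 2347, 4098], [52, 1,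 9943, 4168, 8833, 9265, 4135], [73, 2, 9943, 4154, 5442], [74, 1, 9943, 9839, 5442], [67, 1, 9959, 5966, 9290, 4154], [69, 1, 9959, 9950, 9957], [71, 1, 9959, 5437, 5474, 8764], [75, 1, 9959, 6852, 5474, 8764], [76, 2, 9959, 9254, 5360], [0, 0], [39, 8, 9971, 2345, 605, 904, 718, 2320, 4114, 4112], [41, 10, 9971, 9942, 9947, 2549, 1533, 8021, 1574, 3886, 3889, 3891, 3883], [43, 10, 9971, 9942, 9969, 5359, 9247, 6917, 6755, 5153, 3876, 3874], [53, 0, 9971, 4168, 8833, 9265, 9268], [63, 0, 9971, 2462, 3896, 8849], [75, 0, 9971, 9839, 4147], [67, 1, 9983, 3867, 9982], [69, 1, 9983, 3869, 3968], [70, 2, 9983, 3871, 3968], [71, 1, 9983, 3873, 9982], [73, 1, 9983, 3875, 9982], [75, 1, 9983, 3877, 4070], [0, 0], [22, 1, 9997]]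
def dJ25 : List (List ℕ) := [[28, 5, 9997, 2411, 2422, 8461, 3092, 3398], [30, 0, 9997, 7610, 2730, 2741, 3202, 3456], [39, 5, 9997, 2411, 1718, 7833, 1713, 1676, 4220, 8341, 3508, 9686], [42, 6, 9997, 7610, 2758, 6658, 2604, 2599, 2628, 4126, 4093, 4086], [47, 2, 9997, 2413, 4488], [48, 1, 9997, 4546, 7618, 4620], [57, 2, 9997, 5840, 7604, 4892, 8723], [58, 1, 9997, 5838, 7604, 4892, 8723], [69, 2, 9997, 2714, 7532, 7538], [70, 1, 9997, 7616, 7538], [43, 9, 10019, 9640, 2525, 669, 654, 928, 1011, 2244, 7064, 8415, 3313, 2893, 5540, 7483, 8044], [71, 1, 10019, 3187, 3230, 8574], [74, 2, 10019, 3193, 5538, 7483, 8044], [76, 2, 10019, 9640, 3952, 8599], [0, 0], [26, 1, 10029], [36, 3, 10029, 2411, 2434], [38, 3, 10029, 9998, 10021], [51, 2, 10029, 2413, 4520], [52, 1, 10029, 4546, 7618, 4624], [61, 2, 10029, 5840, 7604, 5482, 7554, 8764], [62, 1, 10029, 5838, 7604, 5482, 7554, 8764], [73, 2, 10029, 2714, 7532, 7542], [74, 1, 10029, 7616, 7542], [69, 1, 10047, 5463, 5538, 7483, 8044], [0, 0], [26, 1, 10051],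 [36, 3, 10051, 2417, 10030], [42, 8, 10051, 9865, 4737, 9033, 9473, 9470, 4270, 8388, 7200, 8351, 8352, 6816], [44, 4, 10051, 9865, 4745, 6264, 6244, 7656, 9128, 9786, 3207, 3200, 3456], [51, 2, 10051, 2419, 4556], [61, 2, 10051, 5890, 8941, 9005, 9088], [62, 1, 10051, 5888, 8941, 9005, 9088], [73, 2, 10051, 2726, 7001], [74, 1, 10051, 9863, 7001], [67, 1, 10069, 6996, 9234], [75, 1, 10069, 7175, 9375], [59, 1, 10065, 9883, 8672], [0, 0], [34, 0, 10077, 9835, 5460], [41, 8, 10077, 2461, 2345, 603, 590, 2304, 4786, 8865, 9237, 9228, 9847], [45, 2, 10077, 2459, 4792], [46, 1, 10077, 4860, 8839, 9277, 4842], [55, 2, 10077, 2463, 9292], [56, 1, 10077, 2461, 9292], [59, 1, 10089, 5437, 5458], [61, 1, 10089, 5443, 4151], [63, 1, 10089, 6852, 5458], [64, 2, 10089, 9254, 5570], [0, 0], [19, 2, 10099, 10076], [33, 3, 10099, 9853, 6997], [41, 4, 10099, 9849, 9844, 2433, 2414, 5888, 8941, 9005, 9010, 2631, 2618, 5692, 7506], [45, 0, 10099, 4860, 8839, 9277, 6815], [46, 3, 10099, 2459, 4806], [55, 0, 10099, 2461, 9916],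 [56, 3, 10099, 2463, 9916], [67, 0, 10099, 9843, 9329], [68, 3, 10099, 3846, 9329], [69, 3, 10117, 6817, 10116], [71, 3, 10117, 10074, 10069], [76, 0, 10117, 7202, 8351, 4217], [44, 1, 10123, 5026, 8885, 8898, 2279, 1314, 8065, 1307, 1932, 5514, 10104, 10117], [25, 1, 10125], [0, 0], [26, 1, 10129], [32, 5, 10129, 9835, 2757, 2746, 7606, 10030], [36, 3, 10129, 10098, 10127], [38, 3, 10129, 9849, 10080], [44, 0, 10129, 3896, 8849, 3891, 4766, 9122, 7240, 8539, 7396, 7409, 5580, 10096], [51, 2, 10129, 2459, 4830], [52, 1, 10129, 4860, 8839, 9277, 4800], [61, 2, 10129, 2463, 9942], [62, 1, 10129, 2461, 9942], [73, 2, 10129, 3846, 10092], [68, 0, 10149, 10077, 9843], [69, 1, 10139, 10136, 10149], [72, 0, 10149, 10091, 10044], [76, 0, 10149, 10095, 10044], [0, 0], [39, 8, 10159, 7127, 4025, 8599, 8606, 5054, 8745, 2539, 2548, 9870], [42, 5, 10159, 7058, 8415, 6695, 8426, 7396, 7409, 3023, 3596, 1973, 1964, 7471, 5452, 6706], [43, 7, 10159, 5740, 8278, 4903, 7127, 4033, 6256, 4376, 8968, 7430, 9047], [53, 0, 10159,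 4912, 8659, 6987], [75, 0, 10159, 9914, 8292], [76, 3, 10159, 4902, 8292], [68, 0, 10171, 5633, 9855], [69, 3, 10171, 5647, 8701, 9889], [70, 0, 10171, 5635, 8701, 9889], [71, 3, 10171, 6834, 9324], [72, 0, 10171, 6836, 9324], [73, 3, 10171, 5645, 9083], [0, 0], [41, 3, 10185, 3584, 3526, 7662, 6274, 7655, 6243, 5284, 5283, 10072, 10053, 9859], [53, 2, 10185, 2481, 5000], [54, 1, 10185, 5030, 8885, 8896], [63, 2, 10185, 3756, 6082], [64, 1, 10185, 3758, 6082], [75, 2, 10185, 5010, 9698], [76, 1, 10185, 9350, 9698], [68, 2, 10199, 6427, 3052], [70, 2, 10199, 6437, 2726], [0, 0], [44, 1, 10205, 5554, 7437, 9502, 3601, 5254, 9633, 4711, 9222, 6512, 9181, 9182], [53, 2, 10205, 2487, 5064], [54, 1, 10205, 5088, 8879, 9678], [63, 2, 10205, 6384, 9533], [64, 1, 10205, 6382, 9533], [56, 2, 10215, 7273, 6457], [57, 1, 10215, 7265, 7306], [58, 2, 10215, 7267, 7306], [59, 1, 10215, 7275, 6421], [60, 2, 10215, 7269, 6421], [61, 1, 10215, 7279, 6457], [64, 2, 10215, 9720, 9179], [33, 0, 10225, 2506, 6587], [0, 0], [39,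 0, 10233, 9592, 5259, 5298, 8786, 9674, 5209, 2520], [41, 10, 10233, 5560, 7437, 7442, 3615, 5310, 7135, 6386, 6482, 6479, 3368, 3634, 8496], [42, 5, 10233, 6932, 6939, 6511, 9782, 9753, 9734, 5279, 3723, 3666], [43, 5, 10233, 5560, 7437, 6731, 8764, 5834, 7604, 5954, 7550, 5800, 9024, 9788, 9801, 3699, 3714, 9390], [53, 0, 10233, 5088, 8879, 9575], [54, 3, 10233, 2487, 5066], [63, 0, 10233, 6382, 9535], [75, 0, 10233, 9590, 9589], [76, 3, 10233, 5074, 9589], [68, 0, 10251, 6503, 7078, 8909], [69, 3, 10251, 6509, 9348], [70, 0, 10251, 6507, 9348], [71, 3, 10251, 6938, 9045], [72, 0, 10251, 6936, 9045], [73, 3, 10251, 6513, 9225], [0, 0], [26, 1, 10265], [32, 5, 10265, 10224, 10227, 2517, 2524], [36, 3, 10265, 2501, 2524], [38, 3, 10265, 9467, 9472], [51, 2, 10265, 2503, 5172], [52, 1, 10265, 5200, 8803, 7108], [61, 2, 10265, 6422, 9818], [62, 1, 10265, 6420, 9818], [73, 2, 10265, 3904, 4026], [74, 1, 10265, 9363, 4026], [67, 1, 10285, 6611, 9909], [69, 1, 10285, 4021, 4072], [71, 1, 10285, 4031, 8599, 9913],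 [75, 1, 10285, 7126, 4902], [0, 0], [40, 6, 10295, 9333, 4308, 4299, 1641, 1634, 8391, 2272, 7264], [40, 7, 10295, 2509, 1871, 1874, 5242, 8691, 5073, 5006, 8624], [44, 3, 10295, 9905, 4945, 4936, 8302, 1859, 1494, 3800, 8372, 6184, 8371, 3774, 10298], [53, 2, 10295, 2509, 5222], [63, 2, 10295, 6432, 6593], [64, 1, 10295, 6434, 6593], [55, 1, 10307, 6584, 6458], [59, 1, 10307, 6586, 6432], [60, 2, 10307, 6588, 6432], [0, 0], [22, 1, 10315], [28, 5, 10315, 10216, 10219, 9775, 9866], [30, 0, 10315, 2517, 2512, 5114, 8268, 4916, 8589], [38, 0, 10315, 10206, 10219], [39, 2, 10315, 2517, 2500, 9467, 9460, 7036, 8442, 8450, 9767], [42, 6, 10315, 2517, 2524, 9641, 3195, 5394, 8677, 8686, 5372, 7454, 8250, 3613, 10270], [47, 2, 10315, 2521, 5272], [57, 2, 10315, 6458, 7296], [58, 1, 10315, 6456, 7296], [59, 1, 10333, 7295, 8155, 8341, 4922, 8589], [61, 1, 10333, 7281, 7306], [44, 2, 10337, 9454, 9121, 4765, 1795, 1729, 2052, 5974, 6625, 5868, 10182], [0, 0], [53, 0, 10341, 5306, 8785, 9717], [54, 3, 10341, 2521,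 5292], [75, 0, 10341, 9183, 10228], [76, 3, 10341, 3942, 10228], [67, 3, 10349, 10217, 9183], [69, 3, 10349, 10221, 9781], [70, 0, 10349, 10219, 9781], [71, 3, 10349, 10225, 9363], [72, 0, 10349, 10223, 9363], [73, 3, 10349, 10207, 9183], [74, 0, 10349, 10227, 9183], [76, 0, 10349, 10205, 9590], [0, 0], [55, 1, 10367, 2533, 2570], [57, 1, 10367, 3611, 6468, 6777, 9655], [58, 2, 10367, 3613, 6468, 6777, 9655], [59, 1, 10367, 8254, 5410], [60, 2, 10367, 8252, 5410], [61, 1, 10367, 3607, 6448], [62, 2, 10367, 3605, 6448], [63, 1, 10367, 8256, 4840], [64, 2, 10367, 9486, 5410], [66, 2, 10367, 2535, 5570], [79, 2, 10367, 2537, 5362], [80, 1, 10367, 8258, 5362], [80, 2, 10391, 5367, 5368, 8250], [0, 0], [41, 9, 10395, 6726, 3488, 7624, 5910, 8452, 8484, 3386, 3202, 3456, 10002, 10021], [55, 1, 10395, 2541, 10366]]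
def dJ26 : List (List ℕ) := [[57, 1, 10395, 8748, 4738], [58, 2, 10395, 8746, 4738], [59, 1, 10395, 8752, 5362], [60, 2, 10395, 8750, 5362], [61, 1, 10395, 8756, 2948], [62, 2, 10395, 8754, 2948], [63, 1, 10395, 9498, 5362], [64, 2, 10395, 6726, 4530], [66, 2, 10395, 2543, 5616], [79, 2, 10395, 2545, 5410], [80, 1, 10395, 8758, 5410], [80, 2, 10421, 5421, 5422, 7450, 8745], [0, 0], [40, 7, 10425, 2567, 5244, 8691, 6266, 7632, 5149, 3669, 3578], [41, 3, 10425, 8724, 5034, 5045, 9207, 9191, 9602, 9626, 9528, 10408, 10407], [44, 1, 10425, 2563, 1533, 8021, 1308, 1404, 3280, 8411, 563, 556, 2198, 3052], [53, 2, 10425, 2567, 5742], [54, 1, 10425, 5754, 8734, 7514], [63, 2, 10425, 10014, 10027], [64, 1, 10425, 10012, 10027], [75, 2, 10425, 2569, 5504], [76, 1, 10425, 8732, 5504], [67, 1, 10443, 9824, 9811], [70, 2, 10443, 10370, 10389], [71, 1, 10443, 9822, 9811], [72, 2, 10443, 9826, 9811], [73, 1, 10443, 9658, 3052], [0, 0], [40, 6, 10455, 6941, 6487, 3093, 3238, 7599, 7819, 2414, 9859, 10186], [40, 7, 10455,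 2623, 5848, 9006, 2507, 10222, 10221, 9775], [41, 3, 10455, 7522, 5861, 8796, 7332, 7327, 8785, 9160, 3103, 3094, 3384, 4760], [44, 1, 10455, 5670, 7557, 5399, 5386, 8677, 9575, 9207, 9396, 7282, 9816, 9811], [53, 2, 10455, 2623, 5934], [54, 1, 10455, 5956, 7550, 5800, 9024], [63, 2, 10455, 2625, 4628, 6947], [64, 1, 10455, 2627, 4628, 6947], [75, 2, 10455, 5946, 7623, 9136], [76, 1, 10455, 7526, 9136], [43, 9, 10475, 6425, 9828, 9100, 6107, 7723, 7736, 4556, 6990, 6374, 8555, 8568], [67, 1, 10475, 6417, 3052], [70, 2, 10475, 7236, 8469, 8480], [0, 0], [22, 1, 10483], [28, 5, 10483, 4372, 4365, 4186, 9170], [30, 0, 10483, 2817, 2810, 4750, 10480], [38, 0, 10483, 4184, 9170], [42, 6, 10483, 2817, 2826, 6594, 6056, 6061, 3711, 3029, 3018, 9583], [48, 1, 10483, 2821, 3686], [57, 2, 10483, 9769, 10354], [58, 1, 10483, 9771, 10354], [69, 2, 10483, 8238, 7264], [70, 1, 10483, 2823, 7264], [71, 1, 10503, 7275, 10474], [73, 1, 10503, 7279, 9166], [76, 2, 10503, 9720, 9159], [0, 0], [40, 7, 10511, 8928, 6402, 6393,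 2351, 2378, 3513, 3558], [41, 3, 10511, 2924, 3511, 8344, 7281, 7090, 7645, 4396, 9100, 6107, 7723, 6899], [44, 1, 10511, 3464, 3208, 7000, 6019, 6857, 7107, 6243, 6246, 6972], [53, 2, 10511, 8928, 6900], [54, 1, 10511, 6364, 8555, 8568], [63, 2, 10511, 2919, 4894], [64, 1, 10511, 2921, 4894], [75, 2, 10511, 8930, 3206], [76, 1, 10511, 8576, 3206], [43, 9, 10529, 9801, 3699, 3714, 9390, 10240, 10233, 5560, 7437, 6731, 8764, 5834, 7604, 5934], [68, 2, 10529, 9803, 9671], [70, 2, 10529, 9805, 4772], [71, 1, 10529, 9791, 9671], [72, 2, 10529, 9807, 9671], [0, 0], [40, 7, 10541, 9690, 6550, 8313, 8318, 3569, 3740, 3749, 3548], [41, 3, 10541, 2923, 2932, 2939, 2825, 2800, 4920, 8589, 10122, 10125, 10074], [44, 5, 10541, 3507, 8305, 2991, 1365, 1454, 3814, 8206, 1442, 3762, 6590, 6592], [63, 2, 10541, 2929, 4944], [64, 1, 10541, 2927, 4944], [41, 9, 10551, 9892, 8640, 5070, 6266, 4381, 4238, 8579, 7266, 7275, 9794], [55, 1, 10551, 9894, 6468, 6777, 9655], [58, 2, 10551, 9898, 10064], [59, 1, 10551, 9900, 10550],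 [61, 1, 10551, 9902, 6432], [0, 0], [39, 0, 10563, 2923, 2932, 2939, 4300, 4303, 8305, 8104, 8653, 6396], [41, 10, 10563, 3505, 8305, 9559, 9556, 7107, 6233, 5158, 9504, 9516, 5174, 5218, 8701], [42, 5, 10563, 3511, 8344, 7281, 7302, 9422, 9452, 6529, 9109, 9076, 9792], [43, 1, 10563, 3505, 8305, 8110, 2328, 2331, 3034, 6792, 4211, 5020, 8885, 8896], [53, 0, 10563, 3546, 10542], [63, 0, 10563, 2927, 4946], [55, 1, 10575, 8704, 3040], [57, 1, 10575, 8708, 5643], [58, 2, 10575, 8706, 5643], [59, 1, 10575, 8711, 10574], [62, 2, 10575, 8712, 3014], [0, 0], [24, 1, 10587], [30, 5, 10587, 3411, 4182, 9170, 9173], [32, 0, 10587, 2951, 2944, 10410, 10405], [34, 3, 10587, 3454, 3188], [50, 1, 10587, 6396, 6395], [59, 2, 10587, 2955, 3932], [60, 1, 10587, 2957, 3932], [71, 2, 10587, 8656, 9688], [72, 1, 10587, 9695, 9688], [67, 1, 10605, 9685, 9579], [69, 1, 10605, 6441, 3052], [73, 1, 10605, 10380, 10389], [44, 2, 10611, 9856, 4801, 9280, 3859, 3861, 4748, 6752, 8466, 4004], [0, 0], [40, 7, 10615, 8654, 3549, 3752,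 9341, 9342, 6552, 8313, 8316], [41, 3, 10615, 3452, 8305, 8108, 8326, 4305, 8511, 2279, 2260, 8348, 4214, 8352, 10126, 10121], [44, 1, 10615, 2951, 1319, 253, 260, 1442, 3762, 6590, 6592, 10198], [54, 1, 10615, 6396, 10564], [63, 2, 10615, 2955, 5090], [64, 1, 10615, 2957, 5090], [75, 2, 10615, 8656, 10540], [76, 1, 10615, 9695, 10540], [43, 9, 10631, 10543, 6554, 8313, 3980, 3978, 8118, 6460, 6777, 9655, 9660, 3589, 10184], [67, 1, 10631, 10555, 10442], [68, 2, 10631, 10553, 9811], [70, 2, 10631, 10557, 10067], [71, 1, 10631, 10559, 10630], [0, 0], [39, 8, 10643, 10614, 10637, 4725, 4734, 9061, 9812, 10552], [39, 0, 10643, 3452, 8305, 8108, 8326, 4305, 8511, 7182, 8524, 2931, 2922, 3546], [41, 10, 10643, 2953, 2942, 3399, 6264, 6162, 9732, 9740, 9711, 7104, 7111], [42, 5, 10643, 3411, 4182, 4191, 9398, 5141, 4584, 6107, 7723, 6899, 10514], [43, 10, 10643, 2953, 2958, 2974, 3056, 9651, 9648, 5028, 8885, 8896, 10570], [43, 1, 10643, 2953, 2958, 2974, 3056, 9651, 9648, 5028, 8885, 5013, 5000], [53, 0, 10643,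 6396, 10616], [63, 0, 10643, 2957, 5092], [75, 0, 10643, 9695, 10562], [67, 1, 10661, 10577, 9671], [71, 1, 10661, 10583, 10660], [74, 2, 10661, 10585, 6103], [0, 0], [67, 1, 10669, 9583, 9542], [68, 2, 10669, 4498, 9638], [69, 1, 10669, 3019, 3054], [70, 2, 10669, 3021, 3054], [71, 1, 10669, 6394, 9696], [72, 2, 10669, 6406, 9696], [77, 1, 10669, 6444, 10604], [78, 2, 10669, 10596, 10603], [79, 1, 10669, 3025, 5256], [80, 2, 10669, 3023, 5256], [80, 3, 10689, 8742, 3022], [0, 0], [39, 8, 10693, 9140, 3170, 8484, 2809, 2818, 9388, 7297, 7272], [41, 10, 10693, 3712, 3691, 3650, 7034, 8442, 9409, 9422, 9430, 9712, 9715, 9708], [42, 5, 10693, 3708, 3705, 3744, 6576, 3777, 3568, 3565, 3554, 9383], [53, 0, 10693, 6454, 10508], [63, 0, 10693, 3033, 5292], [75, 0, 10693, 9152, 9719], [76, 3, 10693, 9150, 9719], [69, 3, 10707, 3689, 3734, 8231], [70, 0, 10707, 3687, 3734, 8231], [71, 3, 10707, 3691, 9129], [72, 0, 10707, 3693, 9129], [73, 3, 10707, 3711, 9152], [74, 0, 10707, 3713, 9152], [76, 0, 10707, 9526, 9553],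 [0, 0], [20, 2, 10723, 10698], [28, 0, 10723, 9382, 3561, 3688, 6060], [34, 0, 10723, 9157, 6097], [36, 0, 10723, 10716, 10724], [40, 2, 10723, 9155, 10674, 10671, 9535, 9145, 6455, 6058], [45, 2, 10723, 9165, 10308], [55, 2, 10723, 9161, 8786], [56, 1, 10723, 9163, 8786], [67, 2, 10723, 9153, 6058], [68, 1, 10723, 9151, 6058], [43, 8, 10731, 10743, 6599, 4999, 8376, 8382, 1473, 1850, 5096, 8635, 8644, 6805], [71, 1, 10743, 6063, 6103], [76, 2, 10743, 6599, 9355], [0, 0], [26, 1, 10751], [32, 5, 10751, 9764, 8380, 4981, 4210], [36, 3, 10751, 9760, 9830], [38, 3, 10751, 10352, 10363], [44, 0, 10751, 9766, 3655, 2447, 950, 1004, 2074, 7825, 5996, 6660, 10182, 10338], [44, 2, 10751, 9766, 3655, 2447, 950, 1004, 2074, 7825, 5996, 6660, 9082, 5644], [52, 1, 10751, 6540, 9754, 5288], [61, 2, 10751, 9770, 4190], [62, 1, 10751, 9768, 4190], [73, 2, 10751, 9780, 10336], [68, 0, 10771, 10325, 9772], [70, 0, 10771, 10315, 9183], [72, 0, 10771, 10335, 8590], [76, 0, 10771, 10327, 10285], [0, 0], [45, 1, 10781, 6996,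 4666], [46, 2, 10781, 6994, 9317], [47, 1, 10781, 10638, 10656], [48, 2, 10781, 10618, 10656], [49, 1, 10781, 10120, 10109], [50, 2, 10781, 10102, 10109], [51, 1, 10781, 7000, 4572, 8983], [52, 2, 10781, 6998, 4572, 8983], [53, 1, 10781, 7175, 9373]]
def dJ27 : List (List ℕ) := [[54, 2, 10781, 3209, 3210], [65, 2, 10781, 7004, 10166], [66, 1, 10781, 7002, 10166], [77, 2, 10781, 10068, 10061], [78, 1, 10781, 10066, 10061], [81, 0, 10781, 10068], [0, 0], [41, 9, 10813, 9637, 5356, 7466, 5592, 6012, 7712, 4995, 5036, 5047], [55, 1, 10813, 9236, 4783], [57, 1, 10813, 9228, 6010, 8772], [58, 2, 10813, 9226, 6010, 8772], [59, 1, 10813, 4712, 4703], [60, 2, 10813, 4714, 4703], [61, 1, 10813, 3243, 3258], [62, 2, 10813, 3245, 3258], [63, 1, 10813, 6893, 8261, 6448], [64, 2, 10813, 9637, 10686], [66, 2, 10813, 9230, 7404], [79, 2, 10813, 9232, 4703], [80, 1, 10813, 9059, 4703], [80, 2, 10839, 4704, 9058], [0, 0], [41, 9, 10843, 7174, 6998, 9138, 6438, 9699, 6288, 7692, 2089, 2094, 6244], [55, 1, 10843, 3561, 3718],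 [57, 1, 10843, 9381, 9161], [58, 2, 10843, 9383, 9161], [59, 1, 10843, 3555, 3574], [60, 2, 10843, 3557, 3574], [61, 1, 10843, 9365, 9753], [62, 2, 10843, 9367, 9753], [63, 1, 10843, 10512, 10523], [64, 2, 10843, 7174, 7004], [65, 1, 10843, 7168, 8580, 10768], [66, 2, 10843, 9373, 10332], [79, 2, 10843, 9375, 5282], [80, 1, 10843, 9377, 5282], [80, 2, 10871, 5281, 9376], [0, 0], [22, 1, 10875], [28, 5, 10875, 6584, 10316, 10325, 10352], [30, 0, 10875, 6586, 5882, 8941, 9005, 5843, 3916], [38, 0, 10875, 6590, 10876], [39, 2, 10875, 6586, 2505, 2512, 8262, 2486, 10204, 10229], [42, 6, 10875, 6586, 9905, 4945, 2926, 2923, 2950, 10586, 10591, 10200], [47, 2, 10875, 6582, 9675], [48, 1, 10875, 7322, 9598], [49, 1, 10891, 5203, 3910], [54, 2, 10891, 6595, 3788], [77, 2, 10891, 9681, 7323], [78, 1, 10891, 7324, 7323], [0, 0], [40, 6, 10901, 6083, 3751, 3407, 3416, 7673, 4284, 8393, 2816, 10482], [40, 7, 10901, 5232, 5231, 5258, 9593, 2485, 2476, 6168], [41, 3, 10901, 3907, 3920, 3933, 1845, 1832, 2928, 10540, 10547,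 10310], [44, 3, 10901, 6621, 5091, 1845, 365, 358, 939, 1023, 1446, 3796, 8372, 6166, 10904], [53, 2, 10901, 5232, 10744], [54, 1, 10901, 3911, 5222], [63, 2, 10901, 10194, 10886], [64, 1, 10901, 10192, 10886], [75, 2, 10901, 9360, 10294], [76, 1, 10901, 3913, 10294], [67, 1, 10921, 10309, 9166], [69, 3, 10919, 10906, 10921], [71, 1, 10921, 10311, 10198], [72, 2, 10921, 10313, 10198], [0, 0], [39, 7, 10931, 9531, 7408, 7393, 5593, 5602, 7465, 5404, 7440], [45, 1, 10931, 4003, 4066], [47, 1, 10931, 4009, 5976, 6640, 7568], [48, 2, 10931, 4011, 5976, 6640, 7568], [49, 1, 10931, 10824, 10835], [50, 2, 10931, 10822, 10835], [51, 1, 10931, 4007, 5908], [52, 2, 10931, 4005, 5908], [53, 1, 10931, 10612, 10682], [54, 2, 10931, 9531, 10596], [65, 2, 10931, 4704, 9249], [66, 1, 10931, 4702, 9249], [77, 2, 10931, 10838, 10835], [78, 1, 10931, 10836, 10835], [81, 0, 10931, 10838], [0, 0], [22, 1, 10963], [28, 5, 10963, 9243, 7007, 7584, 7586, 5706, 7488], [30, 0, 10963, 9074, 9804, 9791, 5576], [38, 0, 10963, 9108, 6489],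 [42, 6, 10963, 9074, 3656, 7034, 8442, 5915, 8434, 6532, 9123, 6896, 7728, 5619], [47, 2, 10963, 9068, 10400], [48, 1, 10963, 6021, 5416], [57, 2, 10963, 9034, 7423, 7437], [58, 1, 10963, 9036, 7423, 7437], [69, 2, 10963, 9070, 7728], [70, 1, 10963, 6027, 7723, 7728], [43, 9, 10985, 6756, 5469, 7532, 6966, 5172, 7132, 5279, 9756, 3638, 8496, 9534], [76, 2, 10985, 6756, 10046], [59, 1, 10981, 7444, 5570], [0, 0], [41, 9, 10993, 9490, 5246, 8691, 5073, 5006, 6572, 9340, 3753, 6378, 10970], [55, 1, 10993, 5351, 5524], [57, 1, 10993, 5353, 9643], [58, 2, 10993, 5355, 9643], [59, 1, 10993, 7468, 5616], [60, 2, 10993, 7466, 5616], [61, 1, 10993, 5357, 10686], [62, 2, 10993, 5359, 10686], [63, 1, 10993, 9968, 10146], [64, 2, 10993, 9490, 5616], [65, 1, 10993, 5349, 5362], [66, 2, 10993, 5370, 8250, 10366], [79, 2, 10993, 8248, 5570], [80, 1, 10993, 5361, 5570], [80, 2, 11021, 5585, 5360], [16, 0, 1064, 51], [18, 0, 8001, 65], [16, 0, 1044, 99], [18, 0, 7980, 109], [14, 0, 7980, 115], [16, 0, 1038, 151], [18, 0,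 7987, 155], [16, 0, 1054, 171], [17, 0, 7998, 175], [12, 0, 7980, 111], [14, 0, 8001, 67], [16, 0, 1056, 197], [18, 0, 7996, 203], [15, 0, 1074, 205], [18, 0, 8007, 221], [13, 0, 7998, 179], [16, 0, 1066, 229], [17, 0, 8002, 237], [16, 0, 1022, 273], [18, 0, 7865, 281], [5, 0, 1000, 285], [6, 0, 1000, 287], [16, 0, 999, 323], [18, 0, 7808, 335], [3, 0, 1086, 341], [7, 0, 1086, 922, 347], [8, 0, 1086, 922, 349], [9, 0, 1022, 938, 357], [10, 0, 1022, 938, 359], [15, 0, 888, 377], [16, 0, 1033, 387], [18, 0, 7897, 397], [5, 0, 1160, 401], [6, 0, 1160, 403], [9, 0, 1128, 405], [10, 0, 1128, 407], [16, 0, 1102, 427], [18, 0, 8020, 439], [5, 0, 1022, 938, 363], [6, 0, 1022, 938, 361], [7, 0, 888, 383], [8, 0, 888, 385], [15, 0, 869, 455], [16, 0, 1086, 922, 355], [18, 0, 7773, 469], [16, 0, 1050, 487], [17, 0, 7984, 493], [5, 0, 888, 379], [6, 0, 888, 381], [9, 0, 869, 457], [10, 0, 869, 459], [15, 0, 1082, 497], [18, 0, 7927, 509], [11, 0, 7998, 177], [13, 0, 7984, 495], [16, 0, 1046, 525], [17, 0, 7982, 529],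 [14, 0, 7865, 283], [16, 0, 1010, 577], [18, 0, 7878, 581], [5, 0, 1002, 585], [6, 0, 1002, 587], [14, 0, 7808, 339], [16, 0, 1005, 627], [18, 0, 7800, 635], [3, 0, 1090, 637], [7, 0, 1090, 914, 647], [8, 0, 1090, 914, 649], [9, 0, 1010, 929, 655], [10, 0, 1010, 929, 657], [14, 0, 7897, 399], [15, 0, 900, 673], [16, 0, 1034, 685], [18, 0, 7908, 691], [5, 0, 1155, 695], [6, 0, 1155, 697], [9, 0, 1123, 701], [10, 0, 1123, 703], [11, 0, 1523, 707], [14, 0, 8020, 441], [16, 0, 1106, 723], [18, 0, 8012, 727], [5, 0, 1010, 929, 663], [6, 0, 1010, 929, 659], [7, 0, 900, 679], [8, 0, 900, 681], [14, 0, 7773, 475], [15, 0, 876, 737]]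
def dJ28 : List (List ℕ) := [[16, 0, 1090, 914, 653], [18, 0, 7764, 745], [5, 0, 900, 675], [6, 0, 900, 677], [9, 0, 876, 739], [10, 0, 876, 741], [14, 0, 7927, 513], [15, 0, 1084, 747], [18, 0, 7988, 751], [15, 0, 1080, 767], [17, 0, 7992, 773], [12, 0, 7927, 511], [14, 0, 8007, 223], [15, 0, 1078, 787], [18, 0, 7995, 793], [13, 0, 7992, 777], [15, 0, 1072, 813], [17, 0, 8004, 819], [3, 0, 995, 849], [4, 0, 1031, 855], [7, 0, 1031, 861], [8, 0, 1031, 859], [18, 0, 7774, 1239], [18, 0, 8064, 1313], [15, 0, 1031, 885], [18, 0, 7920, 1375], [17, 0, 8406, 1415], [18, 0, 8406, 7850, 1421], [18, 0, 8204, 1459], [17, 0, 7880, 1481], [9, 0, 1031, 865], [10, 0, 1031, 867], [18, 0, 7890, 1503], [11, 0, 8406, 1417], [13, 0, 7880, 1483], [17, 0, 7862, 1507], [18, 0, 8079, 1587], [15, 0, 995, 887], [18, 0, 8821, 1629], [4, 0, 8390, 1635], [13, 0, 7665, 1655], [18, 0, 7746, 1681], [18, 0, 7832, 1717], [11, 0, 7665, 1657], [17, 0, 7816, 1737], [5, 0, 999, 959], [6, 0, 999, 957], [9, 0, 995, 961], [10, 0, 995, 991], [15,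 0, 1000, 967], [18, 0, 8808, 1755], [13, 0, 7816, 1739], [17, 0, 7811, 1765], [4, 0, 1086, 344], [5, 0, 995, 853], [6, 0, 995, 851], [9, 0, 999, 949], [10, 0, 999, 947], [18, 0, 8814, 1825], [18, 0, 8089, 1863], [18, 0, 8134, 1895], [17, 0, 7910, 1899], [13, 0, 7910, 1901], [17, 0, 7894, 1903], [7, 0, 8030, 1921], [8, 0, 8030, 1923], [14, 0, 1523, 709], [17, 0, 8030, 7477, 1943], [7, 0, 7470, 1965], [8, 0, 7470, 1967], [18, 0, 8036, 1987], [17, 0, 8028, 2005], [18, 0, 8053, 2023], [11, 0, 8030, 7477, 1945], [13, 0, 8028, 2009], [17, 0, 8023, 2029], [18, 0, 7824, 2073], [18, 0, 7755, 2117], [17, 0, 7767, 2123], [13, 0, 7767, 2125], [17, 0, 7770, 2127], [17, 0, 7990, 2133], [11, 0, 7992, 775], [13, 0, 7990, 2137], [17, 0, 7924, 2143], [12, 0, 7746, 1683], [14, 0, 7774, 1245], [18, 0, 7780, 2159], [12, 0, 8406, 7850, 1423], [14, 0, 8064, 1317], [18, 0, 8070, 2185], [14, 0, 7920, 1381], [18, 0, 7915, 2207], [9, 0, 8412, 2233], [10, 0, 8412, 2235], [14, 0, 8406, 7850, 1425], [18, 0, 7856, 2253], [3, 0, 7670, 2257],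 [4, 0, 8349, 2261], [5, 0, 8482, 2267], [6, 0, 8482, 2269], [12, 0, 8064, 1315], [14, 0, 8204, 1461], [18, 0, 8198, 2293], [14, 0, 7890, 1505], [18, 0, 7885, 2297], [12, 0, 8089, 1865], [14, 0, 8079, 1591], [18, 0, 8084, 2337], [14, 0, 8821, 1631], [18, 0, 8824, 2349], [4, 0, 8367, 2359], [14, 0, 7746, 1685], [17, 0, 7665, 1661], [18, 0, 7789, 2405], [5, 0, 8460, 2421], [6, 0, 8460, 2423], [12, 0, 7774, 1243], [14, 0, 7832, 1719], [15, 0, 7824, 2081], [16, 0, 7824, 2079], [18, 0, 7821, 2439], [5, 0, 1005, 973], [6, 0, 1005, 963], [12, 0, 7824, 2075], [14, 0, 8808, 1761], [15, 0, 1002, 969], [18, 0, 7799, 2441], [4, 0, 1090, 642], [9, 0, 1005, 955], [10, 0, 1005, 951], [14, 0, 8814, 1829], [18, 0, 8831, 2465], [14, 0, 8089, 1867], [18, 0, 8092, 2499], [12, 0, 8079, 1589], [14, 0, 8134, 1897], [18, 0, 8138, 2529], [7, 0, 7474, 2555], [8, 0, 7474, 2557], [12, 0, 8020, 1532], [14, 0, 8036, 1989], [18, 0, 8033, 2583], [14, 0, 8053, 2025], [18, 0, 8011, 2585], [14, 0, 7824, 2077], [18, 0, 7831, 2641], [12, 0, 8808,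 1759], [14, 0, 7755, 2121], [15, 0, 7746, 1689], [16, 0, 7746, 1687], [18, 0, 7750, 2677], [3, 0, 7533, 2707], [7, 0, 7607, 2745], [8, 0, 7607, 2747], [17, 0, 7818, 2771], [17, 0, 7783, 2783], [11, 0, 7818, 2773], [12, 0, 7665, 1659], [13, 0, 7783, 2787], [17, 0, 7784, 2789], [3, 0, 7672, 2795], [15, 0, 8377, 2833], [16, 0, 8377, 2843], [17, 0, 8208, 2845], [17, 0, 8073, 2875], [11, 0, 8377, 2835], [18, 0, 8056, 2901], [11, 0, 8208, 2847], [13, 0, 8073, 2877], [17, 0, 8074, 2911], [18, 0, 8102, 2999], [18, 0, 8128, 3067], [17, 0, 7912, 3073], [13, 0, 7912, 3075], [17, 0, 7923, 3079], [5, 0, 3371, 3085], [6, 0, 3371, 3087], [9, 0, 3385, 3095], [10, 0, 3385, 3097], [18, 0, 8178, 3123], [5, 0, 8390, 3445, 3129], [6, 0, 8390, 3445, 3131], [9, 0, 8504, 3141], [10, 0, 8504, 3143], [11, 0, 8427, 3149], [13, 0, 8492, 3153], [17, 0, 8485, 3169], [18, 0, 8485, 8164, 3175], [3, 0, 3451, 3181], [4, 0, 8304, 3183], [9, 0, 3457, 3199], [10, 0, 3457, 3201], [17, 0, 8575, 3231], [18, 0, 8926, 3235], [5, 0, 7818, 7598, 3239],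 [6, 0, 7818, 7598, 3241], [13, 0, 8432, 3251], [17, 0, 8463, 3267], [18, 0, 8438, 3269]]
def dJ29 : List (List ℕ) := [[3, 0, 8504, 3147], [4, 0, 3385, 3099], [5, 0, 3457, 3205], [6, 0, 3457, 3203], [11, 0, 8552, 3273], [12, 0, 8398, 3275], [13, 0, 8410, 3277], [14, 0, 8412, 2239], [17, 0, 8409, 3297], [18, 0, 8409, 7848, 3303], [4, 0, 8492, 3157], [7, 0, 8432, 3253], [8, 0, 8432, 3255], [9, 0, 8410, 3279], [10, 0, 8410, 3281], [13, 0, 8406, 1419], [17, 0, 7859, 3321], [17, 0, 8403, 3323], [18, 0, 8912, 3331], [5, 0, 3420, 3347], [6, 0, 3420, 3349], [9, 0, 3426, 3357], [10, 0, 3426, 3359], [11, 0, 7793, 3517], [12, 0, 7800, 7791, 3519], [13, 0, 7672, 2797], [14, 0, 7670, 2259], [15, 0, 7663, 3521], [16, 0, 7663, 3533], [17, 0, 7786, 3535], [18, 0, 7667, 3541], [14, 0, 8349, 2265], [17, 0, 8363, 3625], [18, 0, 8363, 8240, 3631], [3, 0, 8412, 3396], [4, 0, 8497, 3635], [11, 0, 8542, 3659], [14, 0, 8482, 2271], [17, 0, 8495, 3673], [18, 0, 8495, 8192, 3685], [11, 0, 9391, 3715], [18, 0, 8230, 3735], [4, 0, 3426,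 3361], [11, 0, 6565, 3761], [18, 0, 8220, 3791], [3, 0, 7663, 3523], [13, 0, 8377, 2839], [17, 0, 8373, 3797], [18, 0, 8373, 8210, 3809], [3, 0, 7786, 3537], [4, 0, 8363, 3627], [5, 0, 8495, 3675], [6, 0, 8495, 3677], [13, 0, 8208, 2849], [15, 0, 8373, 3805], [16, 0, 8373, 3807], [17, 0, 8207, 3815], [12, 0, 8377, 2837], [17, 0, 7882, 3821], [11, 0, 8403, 3325], [12, 0, 8373, 3801], [13, 0, 7882, 3823], [17, 0, 7893, 3829], [18, 0, 8848, 3895], [9, 0, 8598, 3945], [10, 0, 8598, 3947], [17, 0, 8141, 3957], [17, 0, 8087, 3963], [18, 0, 8116, 3989], [11, 0, 8141, 3959], [13, 0, 8087, 3967], [17, 0, 8076, 3997], [9, 0, 6733, 4039], [10, 0, 6733, 4041], [18, 0, 8856, 4079], [17, 0, 9264, 4157], [18, 0, 9264, 8832, 4165], [17, 0, 8827, 4171], [12, 0, 9264, 4161], [13, 0, 8827, 4173], [17, 0, 8818, 4175], [3, 0, 8390, 1637], [12, 0, 6769, 4195], [13, 0, 8360, 4197], [17, 0, 8340, 4219], [18, 0, 8340, 8154, 4225], [9, 0, 7672, 3419], [10, 0, 7672, 3436], [12, 0, 7721, 4325], [13, 0, 7700, 4327], [15, 0, 7711, 4333],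 [16, 0, 7711, 4341], [17, 0, 7719, 4345], [18, 0, 7681, 4351], [3, 0, 8578, 4239], [12, 0, 6254, 4383], [13, 0, 7648, 4385], [17, 0, 7647, 4401], [18, 0, 8964, 4409], [3, 0, 8510, 4251], [5, 0, 7672, 3417], [6, 0, 7672, 3415], [13, 0, 7694, 4421], [15, 0, 7683, 4427], [16, 0, 7683, 4439], [17, 0, 7679, 4443], [18, 0, 7717, 4449], [4, 0, 8389, 4269], [5, 0, 7711, 4335], [6, 0, 7711, 4337], [9, 0, 7683, 4431], [10, 0, 7683, 4433], [17, 0, 7753, 4471], [3, 0, 8340, 4221], [4, 0, 8392, 4285], [5, 0, 7719, 4347], [6, 0, 7719, 4349], [7, 0, 7647, 4403], [8, 0, 7647, 4405], [9, 0, 7679, 4445], [10, 0, 7679, 4447], [11, 0, 7783, 2785], [13, 0, 7786, 7675, 4469], [14, 0, 7665, 1678], [15, 0, 7753, 4477], [16, 0, 7753, 4479], [17, 0, 8956, 4481], [7, 0, 7596, 4509], [8, 0, 7596, 4511], [11, 0, 9027, 4535], [12, 0, 7631, 4537], [13, 0, 7533, 2709], [17, 0, 7528, 4539], [18, 0, 7619, 4545], [11, 0, 6656, 4565], [12, 0, 7722, 4567], [17, 0, 8982, 4569], [18, 0, 8982, 8932, 4575], [7, 0, 8412, 2241], [8, 0, 8412, 2237],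 [12, 0, 8549, 4603], [14, 0, 8460, 2425], [17, 0, 8435, 4605], [18, 0, 8435, 7842, 4615], [4, 0, 7596, 4515], [11, 0, 6946, 4629], [13, 0, 7607, 2749], [17, 0, 7621, 4633], [18, 0, 7531, 4641], [12, 0, 6680, 4657], [18, 0, 7836, 4669], [3, 0, 7528, 4541], [4, 0, 8982, 4571], [5, 0, 8435, 4607], [6, 0, 8435, 4609], [7, 0, 7621, 4635], [8, 0, 7621, 4637], [13, 0, 7818, 2777], [17, 0, 7835, 4675], [17, 0, 7796, 4677], [11, 0, 7753, 4473], [13, 0, 7796, 4681], [17, 0, 8876, 4685], [18, 0, 8864, 4785], [7, 0, 7585, 4817], [8, 0, 7585, 4819], [17, 0, 9276, 4849], [18, 0, 9276, 8838, 4859], [17, 0, 8828, 4865], [12, 0, 9276, 4853], [13, 0, 8828, 4867], [17, 0, 8817, 4871], [7, 0, 8722, 4881], [8, 0, 8722, 4883], [17, 0, 8299, 4905], [18, 0, 8658, 4911], [5, 0, 8588, 4915], [6, 0, 8588, 4917], [7, 0, 8260, 4927], [8, 0, 8260, 4929], [9, 0, 8303, 4935], [10, 0, 8303, 4937], [13, 0, 8272, 4949], [17, 0, 8271, 4957], [18, 0, 8649, 4963], [3, 0, 7683, 4429], [12, 0, 6568, 5003], [18, 0, 8884, 5021], [3, 0, 8260, 4933],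 [4, 0, 8722, 4889], [9, 0, 8744, 5051], [10, 0, 8744, 5053], [18, 0, 8878, 5085], [3, 0, 8303, 4943], [13, 0, 8634, 5095], [17, 0, 8651, 5103], [18, 0, 8269, 5109], [4, 0, 8272, 4953], [9, 0, 8634, 5097], [10, 0, 8634, 5099]]
def dJ30 : List (List ℕ) := [[17, 0, 8095, 5123], [3, 0, 8299, 4907], [4, 0, 8271, 4959], [9, 0, 8651, 5105], [10, 0, 8651, 5107], [11, 0, 8087, 3965], [13, 0, 8095, 5125], [17, 0, 8096, 5127], [7, 0, 9505, 5155], [8, 0, 9505, 5157], [11, 0, 6248, 5189], [12, 0, 6964, 5191], [18, 0, 8802, 5199], [9, 0, 8700, 5213], [10, 0, 8700, 5215], [12, 0, 8327, 5225], [18, 0, 8792, 5235], [4, 0, 8690, 5243], [11, 0, 7411, 5251], [12, 0, 9632, 5255], [18, 0, 8738, 5269], [4, 0, 9505, 5161], [9, 0, 9505, 5169], [10, 0, 9505, 5171], [11, 0, 9603, 5291], [18, 0, 8784, 5303], [3, 0, 8700, 5221], [11, 0, 6771, 5309], [12, 0, 7134, 5311], [13, 0, 8598, 3951], [18, 0, 8148, 5321], [13, 0, 8141, 3961], [17, 0, 8142, 5327], [5, 0, 8598, 3955], [6, 0, 8598, 3949], [7, 0, 8744, 5063], [8, 0, 8744, 5055], [11,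 0, 9496, 5345], [12, 0, 9259, 5347], [17, 0, 8251, 5369], [7, 0, 8251, 7455, 5373], [8, 0, 8251, 7455, 5375], [9, 0, 8676, 5385], [10, 0, 8676, 5387], [12, 0, 9485, 5401], [17, 0, 8744, 7451, 5423], [11, 0, 6850, 5447], [12, 0, 6723, 5449], [13, 0, 6707, 5451], [17, 0, 8765, 5475], [3, 0, 8676, 5395], [17, 0, 8722, 7502, 5519], [5, 0, 6707, 5453], [6, 0, 6707, 5455], [7, 0, 8039, 5487], [8, 0, 8039, 5489], [13, 0, 8030, 7477, 1947], [17, 0, 8039, 7480, 5537], [7, 0, 8045, 5495], [8, 0, 8045, 5497], [17, 0, 8045, 7482, 5539], [7, 0, 7436, 5551], [8, 0, 7436, 5553], [11, 0, 9500, 5563], [12, 0, 9252, 5567], [18, 0, 8246, 5587], [7, 0, 7464, 5601], [8, 0, 7464, 5603], [9, 0, 8690, 5247], [10, 0, 8690, 5249], [11, 0, 6705, 5609], [12, 0, 9488, 5613], [18, 0, 8761, 5627], [11, 0, 6845, 5649], [12, 0, 6724, 5655], [17, 0, 6707, 5457], [18, 0, 8769, 5659], [3, 0, 8690, 5245], [7, 0, 8279, 5723], [8, 0, 8279, 5725], [18, 0, 8735, 5751], [7, 0, 7489, 5709], [8, 0, 7489, 5711], [18, 0, 8040, 5757], [17, 0, 8008, 5767],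 [11, 0, 8045, 7482, 5541], [13, 0, 8008, 5771], [17, 0, 8055, 5775], [7, 0, 7600, 5785], [8, 0, 7600, 5787], [11, 0, 9025, 5801], [13, 0, 7521, 5805], [15, 0, 7533, 2713], [16, 0, 7533, 2711], [17, 0, 7553, 5821], [18, 0, 7605, 5827], [11, 0, 7569, 5851], [12, 0, 6049, 5853], [17, 0, 9004, 5871], [18, 0, 9004, 8940, 5877], [3, 0, 6733, 4047], [11, 0, 8547, 5905], [12, 0, 8545, 5907], [17, 0, 8457, 5921], [18, 0, 8464, 5929], [4, 0, 7600, 5791], [5, 0, 8722, 4893], [6, 0, 8722, 4885], [9, 0, 8765, 7555, 5483], [10, 0, 8765, 7555, 5481], [12, 0, 6958, 5937], [13, 0, 7622, 5939], [15, 0, 7607, 2753], [16, 0, 7607, 2751], [17, 0, 7603, 5949], [18, 0, 7551, 5955], [7, 0, 9291, 5963], [8, 0, 9291, 5965], [11, 0, 7683, 4435], [12, 0, 6624, 5975], [13, 0, 7569, 6641, 5977], [18, 0, 8773, 6001], [3, 0, 7521, 5807], [7, 0, 7622, 5941], [8, 0, 7622, 5943], [9, 0, 7569, 6641, 5981], [10, 0, 7569, 6641, 5983], [17, 0, 7828, 6109], [3, 0, 7553, 5823], [4, 0, 9004, 5873], [5, 0, 8457, 5923], [6, 0, 8457, 5925], [7, 0, 7603,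 5951], [8, 0, 7603, 5953], [11, 0, 7796, 4679], [13, 0, 7828, 6111], [15, 0, 7818, 2779], [16, 0, 7818, 2781], [17, 0, 7827, 6113], [11, 0, 6629, 6121], [12, 0, 9654, 6125], [17, 0, 8357, 6127], [18, 0, 8593, 6141], [5, 0, 6663, 6145], [6, 0, 6663, 6147], [7, 0, 9733, 6157], [8, 0, 9733, 6159], [11, 0, 8400, 6175], [12, 0, 8597, 6183], [13, 0, 8389, 4275], [15, 0, 8367, 2365], [16, 0, 8367, 2367], [17, 0, 8370, 6185], [18, 0, 8375, 6191], [4, 0, 8623, 6195], [9, 0, 7663, 3529], [10, 0, 7663, 3531], [11, 0, 6600, 6211], [12, 0, 8981, 6215], [13, 0, 7711, 4339], [17, 0, 7706, 6217], [18, 0, 7691, 6225], [3, 0, 9733, 6163], [17, 0, 7654, 6271], [18, 0, 8958, 6281], [5, 0, 7663, 3525], [6, 0, 7663, 3527], [13, 0, 7683, 4437], [17, 0, 7693, 6287], [18, 0, 7709, 6299], [3, 0, 8357, 6129], [4, 0, 8370, 6187], [5, 0, 7706, 6219], [6, 0, 7706, 6221], [7, 0, 7654, 6273], [8, 0, 7654, 6275], [9, 0, 7693, 6291], [10, 0, 7693, 6293], [13, 0, 7753, 4475], [15, 0, 7665, 2114], [16, 0, 7665, 2112], [17, 0, 7794, 6303], [12,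 0, 8912, 3333], [14, 0, 8056, 2907], [18, 0, 8216, 6347], [3, 0, 8554, 6355], [14, 0, 8102, 3003], [18, 0, 8098, 6409], [9, 0, 9654, 6776, 6461], [10, 0, 9654, 6776, 6463], [12, 0, 8116, 3993], [14, 0, 8128, 3069], [18, 0, 8144, 6471], [14, 0, 8178, 3127], [18, 0, 8174, 6519], [5, 0, 8367, 3441], [6, 0, 8367, 3443], [9, 0, 8497, 3639], [10, 0, 8497, 3643], [11, 0, 6687, 6535]]
def dJ31 : List (List ℕ) := [[12, 0, 9755, 6539], [14, 0, 8485, 8164, 3179], [15, 0, 6663, 6155], [16, 0, 6663, 6153], [17, 0, 8492, 3159], [18, 0, 8492, 8172, 6543], [4, 0, 8312, 6549], [9, 0, 8554, 6375], [10, 0, 8554, 6363], [12, 0, 6988, 6905], [14, 0, 8926, 3237], [15, 0, 8279, 5737], [16, 0, 8279, 5735], [18, 0, 8922, 6909], [5, 0, 7596, 4519], [6, 0, 7596, 4513], [14, 0, 8438, 3271], [15, 0, 8443, 7025], [16, 0, 8443, 7041], [17, 0, 8432, 3257], [18, 0, 8437, 7043], [4, 0, 6663, 6149], [5, 0, 8279, 5739], [6, 0, 8279, 5731], [7, 0, 8443, 7029], [8, 0, 8443, 7031], [9, 0, 8414, 7065], [10, 0, 8414, 7067], [14, 0, 8912, 3335],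 [18, 0, 8908, 7079], [3, 0, 8581, 7173], [4, 0, 7644, 7091], [11, 0, 9394, 7299], [12, 0, 9423, 7303], [14, 0, 8230, 3739], [18, 0, 8236, 7317], [3, 0, 8525, 7183], [4, 0, 7681, 4353], [5, 0, 8178, 3378], [6, 0, 8178, 3376], [7, 0, 8327, 6079], [8, 0, 8327, 6077], [11, 0, 8884, 6563], [14, 0, 8220, 3795], [15, 0, 8513, 7335], [16, 0, 8513, 7353], [18, 0, 8226, 7355], [3, 0, 8587, 7143], [4, 0, 8350, 7201], [5, 0, 8530, 7251], [6, 0, 8530, 7253], [9, 0, 8513, 7343], [10, 0, 8513, 7345], [12, 0, 8056, 2905], [14, 0, 8373, 8210, 3811], [17, 0, 8377, 2841], [18, 0, 8377, 8212, 7359], [12, 0, 8864, 4787], [14, 0, 8848, 3899], [18, 0, 8844, 7375], [12, 0, 8102, 3001], [14, 0, 8116, 3995], [18, 0, 8124, 7381], [14, 0, 8856, 4083], [14, 0, 9264, 8832, 4169], [3, 0, 8367, 2361], [14, 0, 8340, 8154, 4227], [17, 0, 8360, 4199], [14, 0, 7681, 4359], [17, 0, 7700, 4331], [14, 0, 8964, 4413], [17, 0, 7648, 4387], [14, 0, 7717, 4459], [17, 0, 7694, 4425], [14, 0, 7619, 4547], [15, 0, 7605, 5841], [16, 0, 7605, 5839], [17,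 0, 7533, 2715], [14, 0, 8982, 8932, 4581], [15, 0, 9004, 8940, 5891], [16, 0, 9004, 8940, 5889], [14, 0, 7531, 4643], [15, 0, 7551, 5961], [16, 0, 7551, 5959], [17, 0, 7607, 2755], [11, 0, 7717, 4457], [12, 0, 8982, 8932, 6684], [14, 0, 7836, 4673], [15, 0, 8773, 6011], [16, 0, 8773, 6009], [4, 0, 7722, 6028], [14, 0, 8864, 4789], [12, 0, 8848, 3897], [14, 0, 9276, 8838, 4861], [5, 0, 8414, 7057], [6, 0, 8414, 7059], [7, 0, 7507, 5697], [8, 0, 7507, 5695], [9, 0, 8279, 5741], [10, 0, 8279, 5727], [14, 0, 8658, 4913], [15, 0, 8554, 6369], [16, 0, 8554, 6367], [14, 0, 8649, 4967], [17, 0, 8272, 4955], [14, 0, 8884, 5031], [4, 0, 7507, 5687], [9, 0, 7436, 5561], [10, 0, 7436, 5555], [14, 0, 8878, 5089], [4, 0, 8279, 5729], [11, 0, 8700, 6607], [14, 0, 8269, 5121], [17, 0, 8634, 5101], [11, 0, 8964, 6259], [12, 0, 7531, 6968], [14, 0, 8802, 5201], [5, 0, 9004, 8940, 5885], [6, 0, 9004, 8940, 5883], [14, 0, 8792, 5241], [7, 0, 8269, 5117], [8, 0, 8269, 5115], [14, 0, 8738, 5271], [14, 0, 8784, 5307], [14, 0, 8148,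 5325], [15, 0, 9654, 6776, 6469], [16, 0, 9654, 6776, 6467], [17, 0, 8598, 3953], [14, 0, 8246, 5591], [14, 0, 8761, 5629], [3, 0, 8773, 6005], [9, 0, 7605, 5835], [10, 0, 7605, 5833], [12, 0, 8761, 6729], [14, 0, 8769, 5661], [5, 0, 7605, 5831], [6, 0, 7605, 5829], [14, 0, 8735, 5755], [12, 0, 8053, 2572], [14, 0, 8040, 5759], [14, 0, 7605, 5837], [17, 0, 7521, 5819], [14, 0, 9004, 8940, 5887], [4, 0, 7631, 6874], [7, 0, 8414, 7061], [8, 0, 8414, 7063], [14, 0, 8464, 5931], [18, 0, 8443, 8431], [5, 0, 7507, 5693], [6, 0, 7507, 5689], [9, 0, 7556, 5673], [10, 0, 7556, 5671], [14, 0, 7551, 5957], [17, 0, 7622, 5947], [12, 0, 9004, 8940, 6639], [14, 0, 8773, 6007], [17, 0, 7569, 6641, 5989], [5, 0, 8269, 5113], [6, 0, 8269, 5111], [9, 0, 8884, 5029], [10, 0, 8884, 5027], [14, 0, 8593, 6143], [15, 0, 8340, 8154, 4231], [16, 0, 8340, 8154, 4229], [14, 0, 8375, 6193], [15, 0, 8392, 8160, 4297], [16, 0, 8392, 8160, 4295], [17, 0, 8389, 4279], [3, 0, 8513, 7337], [9, 0, 8587, 7149], [10, 0, 8587, 7151], [14, 0,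 7691, 6227], [15, 0, 7681, 4363], [16, 0, 7681, 4361], [17, 0, 7711, 4343], [14, 0, 8958, 6285], [15, 0, 8964, 4417], [16, 0, 8964, 4415], [4, 0, 8884, 5023], [5, 0, 8587, 7145], [6, 0, 8587, 7147], [12, 0, 8773, 6003], [14, 0, 7709, 6301], [15, 0, 7717, 4463], [16, 0, 7717, 4461], [17, 0, 7683, 4441], [4, 0, 7533, 2718], [13, 0, 8982, 4573], [13, 0, 8435, 4613], [18, 0, 8460, 2738], [4, 0, 7672, 2802], [13, 0, 8363, 3629], [15, 0, 8588, 4923], [16, 0, 8588, 4921], [17, 0, 8349, 8245], [18, 0, 8349, 2806], [4, 0, 8504, 3389], [13, 0, 8495, 3683], [17, 0, 8482, 8197], [18, 0, 8482, 2814]]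
def dJ32 : List (List ℕ) := [[11, 0, 8373, 3799], [14, 0, 8554, 6365], [9, 0, 8304, 3504], [10, 0, 8304, 3506], [18, 0, 8652, 7163], [4, 0, 8510, 4245], [18, 0, 8327, 6089], [3, 0, 8304, 3453], [4, 0, 8652, 8105], [5, 0, 8327, 8107], [6, 0, 8327, 8109], [12, 0, 7551, 6971], [12, 0, 8884, 6052], [12, 0, 7507, 7139], [14, 0, 9654, 6776, 6465], [3, 0, 8492, 3155], [9, 0, 8495, 3679], [10, 0, 8495, 3681], [17, 0, 9603, 9208], [18, 0, 9603, 9204], [3, 0, 8485, 3171], [4, 0, 8406, 3118], [9, 0, 8482, 8185], [10, 0, 8482, 8187], [15, 0, 9603, 9146], [16, 0, 9603, 9148], [9, 0, 8864, 8475], [10, 0, 8864, 8477], [12, 0, 8542, 3661], [14, 0, 9755, 6541], [5, 0, 8389, 4271], [6, 0, 8389, 4273], [9, 0, 9603, 9200], [10, 0, 9603, 9202], [11, 0, 8432, 6703], [14, 0, 6663, 6151], [5, 0, 7533, 3467], [6, 0, 7533, 3497], [14, 0, 6988, 6907], [13, 0, 8575, 3233], [4, 0, 8303, 4939], [14, 0, 8279, 5733], [12, 0, 8260, 6892], [7, 0, 9423, 9416], [8, 0, 9423, 9418], [5, 0, 7600, 5799], [6, 0, 7600, 5789], [13, 0, 8427, 6691],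 [14, 0, 8443, 7037], [3, 0, 9603, 9188], [12, 0, 8400, 6181], [14, 0, 8414, 7069], [7, 0, 8427, 6696], [8, 0, 8427, 6694], [13, 0, 8403, 3327], [14, 0, 7644, 7093], [4, 0, 8554, 6357], [9, 0, 8312, 6555], [10, 0, 8312, 6561], [14, 0, 8652, 7161], [14, 0, 8581, 7169], [5, 0, 8312, 6553], [6, 0, 8312, 6559], [14, 0, 8525, 7179], [15, 0, 8623, 6203], [16, 0, 8623, 6205], [14, 0, 8666, 7187], [14, 0, 8621, 7197], [4, 0, 7663, 3576], [9, 0, 8623, 6201], [10, 0, 8623, 6207], [13, 0, 8588, 4919], [14, 0, 8350, 7205], [12, 0, 8443, 7035], [14, 0, 8468, 7227], [14, 0, 8534, 7247], [3, 0, 8414, 7055], [14, 0, 8530, 7255], [15, 0, 9505, 5165], [16, 0, 9505, 5163], [14, 0, 9423, 7305], [5, 0, 9505, 5167], [6, 0, 9505, 5159], [17, 0, 9733, 9728], [18, 0, 9733, 9726], [14, 0, 8327, 6069], [3, 0, 8623, 6197], [14, 0, 8513, 7349], [4, 0, 7700, 4329], [13, 0, 9276, 4855], [11, 0, 9276, 4851], [5, 0, 6733, 4045], [6, 0, 6733, 4043], [4, 0, 8676, 5391], [3, 0, 8598, 4024], [7, 0, 8598, 4028], [8, 0, 8598, 4030], [5, 0, 8744,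 5061], [6, 0, 8744, 5059], [11, 0, 9264, 4159], [9, 0, 9423, 9387], [10, 0, 9423, 9420], [7, 0, 7556, 5681], [8, 0, 7556, 5667], [12, 0, 7556, 6931], [13, 0, 9291, 5971], [4, 0, 7556, 5679], [11, 0, 7693, 7575], [15, 0, 7585, 4823], [16, 0, 7585, 4821], [11, 0, 8251, 7455, 6847], [12, 0, 8856, 4124], [5, 0, 9291, 5973], [6, 0, 9291, 5969], [13, 0, 9264, 4163], [4, 0, 8578, 4237], [3, 0, 8389, 4267], [13, 0, 8357, 6137], [17, 0, 8588, 8355], [5, 0, 8304, 4312], [6, 0, 8304, 4302], [7, 0, 8510, 4314], [8, 0, 8510, 4304], [12, 0, 8513, 8331], [15, 0, 8884, 8335], [16, 0, 8884, 8337], [18, 0, 8525, 7181], [7, 0, 7672, 4368], [8, 0, 7672, 4374], [18, 0, 7644, 7095], [3, 0, 8427, 6692], [11, 0, 7621, 6957], [13, 0, 7654, 6277], [11, 0, 8982, 6024], [18, 0, 7722, 6026], [12, 0, 8666, 7189], [3, 0, 7596, 4552], [12, 0, 8581, 7171], [7, 0, 8497, 4588], [8, 0, 8497, 4586], [9, 0, 7722, 6106], [10, 0, 7722, 6104], [15, 0, 7631, 6882], [16, 0, 7631, 6880], [3, 0, 7722, 6034], [11, 0, 8260, 7413], [7, 0, 8554, 6371],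 [8, 0, 8554, 6373], [9, 0, 7489, 5713], [10, 0, 7489, 5715], [15, 0, 7507, 5701], [16, 0, 7507, 5699], [3, 0, 7585, 4825], [5, 0, 7489, 5705], [6, 0, 7489, 5707], [15, 0, 7556, 5677], [16, 0, 7556, 5675], [3, 0, 8443, 7027], [4, 0, 9423, 9410], [12, 0, 8964, 6942], [11, 0, 7694, 4664], [15, 0, 7569, 6641, 5987], [16, 0, 7569, 6641, 5985], [14, 0, 7722, 6032], [12, 0, 8554, 7129], [11, 0, 9733, 9730], [15, 0, 6733, 4754], [16, 0, 6733, 4756], [18, 0, 8468, 7229], [11, 0, 8722, 6635], [3, 0, 8272, 4951], [13, 0, 8299, 4909], [4, 0, 7683, 4970], [5, 0, 9603, 9192], [6, 0, 9603, 9194], [7, 0, 8884, 8515], [8, 0, 8884, 8517], [9, 0, 8389, 4978], [10, 0, 8389, 4972], [15, 0, 8510, 4976], [16, 0, 8510, 4974], [4, 0, 7711, 4992], [9, 0, 8377, 4998], [10, 0, 8377, 4996], [18, 0, 8513, 7351], [5, 0, 8982, 6101], [6, 0, 8982, 6099], [3, 0, 7693, 6289], [9, 0, 8357, 6133], [10, 0, 8357, 6135], [11, 0, 7607, 6951], [12, 0, 6248, 5792], [4, 0, 8598, 6613], [14, 0, 8700, 6609], [12, 0, 8634, 6806], [18, 0, 8700, 6796],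 [3, 0, 7631, 6872], [13, 0, 6733, 5138], [17, 0, 9423, 9402], [18, 0, 9423, 9406]]
def dJ33 : List (List ℕ) := [[4, 0, 8700, 5219], [12, 0, 8658, 7103], [5, 0, 9423, 9412], [6, 0, 9423, 9414], [11, 0, 7648, 6261], [12, 0, 7607, 6962], [3, 0, 9505, 5206], [7, 0, 8634, 5264], [8, 0, 8634, 5262], [4, 0, 9733, 6161], [5, 0, 9733, 9724], [6, 0, 9733, 9722], [11, 0, 8340, 6790], [14, 0, 8598, 5318], [13, 0, 8251, 5371], [3, 0, 7569, 6709], [9, 0, 7521, 6715], [10, 0, 7521, 6717], [13, 0, 8765, 6719], [14, 0, 6705, 5611], [11, 0, 8765, 6730], [13, 0, 8744, 7451, 5427], [4, 0, 9291, 5967], [13, 0, 9259, 9257], [9, 0, 7533, 5468], [10, 0, 7533, 5466], [9, 0, 6629, 6580], [10, 0, 6629, 6578], [5, 0, 7521, 5809], [6, 0, 7521, 5811], [13, 0, 8722, 7502, 5523], [13, 0, 8045, 7482, 5543], [9, 0, 7631, 6876], [10, 0, 7631, 6878], [15, 0, 7722, 6042], [16, 0, 7722, 6040], [5, 0, 7722, 6036], [6, 0, 7722, 6038], [5, 0, 8700, 5646], [6, 0, 8700, 5634], [11, 0, 8279, 6985], [12, 0, 8350, 7203], [15, 0, 8666, 7191], [16, 0,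 8666, 7193], [7, 0, 8504, 6889], [8, 0, 8504, 6891], [3, 0, 7600, 5846], [12, 0, 6600, 6213], [4, 0, 7521, 5856], [13, 0, 9004, 5875], [15, 0, 8982, 5864], [16, 0, 8982, 5866], [4, 0, 6733, 5894], [5, 0, 8676, 5902], [6, 0, 8676, 5896], [7, 0, 9603, 9196], [8, 0, 9603, 9198], [11, 0, 7533, 6868], [14, 0, 7631, 6870], [3, 0, 9423, 9408], [12, 0, 8485, 8453], [13, 0, 8457, 5927], [15, 0, 8435, 5914], [16, 0, 8435, 5916], [11, 0, 7654, 6978], [4, 0, 8765, 5994], [14, 0, 7569, 6641, 5998], [7, 0, 8623, 6199], [8, 0, 8623, 6209], [7, 0, 7663, 6234], [8, 0, 7663, 6240], [3, 0, 8312, 6551], [5, 0, 8468, 7237], [6, 0, 8468, 7225], [3, 0, 6663, 6504], [14, 0, 9603, 9186], [12, 0, 8538, 7241], [5, 0, 7585, 6920], [6, 0, 7585, 7006], [3, 0, 8912, 7016], [4, 0, 9603, 9190], [15, 0, 8485, 8164, 7010], [16, 0, 8485, 8164, 7022], [3, 0, 8964, 7286], [7, 0, 8340, 8154, 7284], [8, 0, 8340, 8154, 7294], [4, 0, 8784, 7326], [7, 0, 8792, 7328], [8, 0, 8792, 7330], [5, 0, 7436, 7422], [6, 0, 7436, 7428]]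
def dJS : List (List ℕ) := List.flatten [dJ0, dJ1, dJ2, dJ3, dJ4, dJ5, dJ6, dJ7, dJ8, dJ9, dJ10, dJ11, dJ12, dJ13, dJ14, dJ15, dJ16, dJ17, dJ18, dJ19, dJ20, dJ21, dJ22, dJ23, dJ24, dJ25, dJ26, dJ27, dJ28, dJ29, dJ30, dJ31, dJ32, dJ33]
def dLive_0 : BT := .node (.node (.node (.node (.node (.node (.node (.leaf 0) (.leaf 464)) (.node (.leaf 239) (.leaf 808))) (.node (.node (.leaf 110) (.leaf 624)) (.leaf 347))) (.node (.node (.node (.leaf 52) (.leaf 543)) (.node (.leaf 285) (.leaf 933))) (.node (.node (.leaf 191) (.leaf 697)) (.leaf 409)))) (.node (.node (.node (.node (.leaf 20) (.leaf 507)) (.node (.leaf 261) (.leaf 880))) (.node (.node (.leaf 172) (.leaf 665)) (.leaf 370))) (.node (.node (.node (.leaf 79) (.leaf 568)) (.node (.leaf 319) (.leaf 949))) (.node (.node (.leaf 215) (.leaf 741)) (.leaf 434))))) (.node (.node (.node (.node (.node (.leaf 10) (.leaf 492)) (.node (.leaf 248) (.leaf 862))) (.node (.node (.leaf 131) (.leaf 644)) (.leaf 356))) (.node (.node (.node (.leaf 65) (.leaf 553)) (.node (.leaf 305)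 (.leaf 941))) (.node (.node (.leaf 204) (.leaf 717)) (.leaf 420)))) (.node (.node (.node (.node (.leaf 41) (.leaf 528)) (.node (.leaf 273) (.leaf 925))) (.node (.node (.leaf 181) (.leaf 679)) (.leaf 392))) (.node (.node (.node (.leaf 99) (.leaf 604)) (.node (.leaf 333) (.leaf 957))) (.node (.node (.leaf 225) (.leaf 768)) (.leaf 448)))))) (.node (.node (.node (.node (.node (.node (.leaf 4) (.leaf 482)) (.node (.leaf 243) (.leaf 857))) (.node (.node (.leaf 119) (.leaf 640)) (.leaf 352))) (.node (.node (.node (.leaf 56) (.leaf 548)) (.node (.leaf 289) (.leaf 937))) (.node (.node (.leaf 200) (.leaf 708)) (.leaf 416)))) (.node (.node (.node (.node (.leaf 24) (.leaf 513)) (.node (.leaf 266) (.leaf 911))) (.node (.node (.leaf 177) (.leaf 672)) (.leaf 375))) (.node (.node (.node (.leaf 85) (.leaf 587)) (.node (.leaf 327) (.leaf 953))) (.node (.node (.leaf 221) (.leaf 753)) (.leaf 439))))) (.node (.node (.node (.node (.node (.leaf 14) (.leaf 500)) (.node (.leaf 256) (.leaf 869))) (.node (.node (.leaf 167) (.leaf 650))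 (.leaf 363))) (.node (.node (.node (.leaf 74) (.leaf 557)) (.node (.leaf 310) (.leaf 945))) (.node (.node (.leaf 209) (.leaf 733)) (.leaf 425)))) (.node (.node (.node (.node (.leaf 45) (.leaf 533)) (.node (.leaf 280) (.leaf 929))) (.node (.node (.leaf 187) (.leaf 684)) (.leaf 402))) (.node (.node (.node (.leaf 103) (.leaf 616)) (.node (.leaf 339) (.leaf 961))) (.node (.node (.leaf 234) (.leaf 796)) (.leaf 457))))))
def dLive_1 : BT := .node (.node (.node (.node (.node (.node (.node (.leaf 2) (.leaf 472)) (.node (.leaf 241) (.leaf 827))) (.node (.node (.leaf 115) (.leaf 629)) (.leaf 349))) (.node (.node (.node (.leaf 54) (.leaf 545)) (.node (.leaf 287) (.leaf 935))) (.node (.node (.leaf 194) (.leaf 701)) (.leaf 414)))) (.node (.node (.node (.node (.leaf 22) (.leaf 509)) (.node (.leaf 264) (.leaf 907))) (.node (.node (.leaf 174) (.leaf 670)) (.leaf 372))) (.node (.node (.node (.leaf 82) (.leaf 580)) (.node (.leaf 324) (.leaf 951))) (.node (.node (.leaf 218) (.leaf 750)) (.leaf 437))))) (.node (.node (.node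 (.node (.node (.leaf 12) (.leaf 494)) (.node (.leaf 250) (.leaf 867))) (.node (.node (.leaf 164) (.leaf 647)) (.leaf 360))) (.node (.node (.node (.leaf 67) (.leaf 555)) (.node (.leaf 308) (.leaf 943))) (.node (.node (.leaf 207) (.leaf 727)) (.leaf 423)))) (.node (.node (.node (.node (.leaf 43) (.leaf 530)) (.node (.leaf 278) (.leaf 927))) (.node (.node (.leaf 183) (.leaf 681)) (.leaf 395))) (.node (.node (.node (.leaf 101) (.leaf 610)) (.node (.leaf 336) (.leaf 959))) (.node (.node (.leaf 229) (.leaf 780)) (.leaf 455)))))) (.node (.node (.node (.node (.node (.node (.leaf 7) (.leaf 490)) (.node (.leaf 246) (.leaf 860))) (.node (.node (.leaf 127) (.leaf 642)) (.leaf 354))) (.node (.node (.node (.leaf 59) (.leaf 550)) (.node (.leaf 302) (.leaf 939))) (.node (.node (.leaf 202) (.leaf 712)) (.leaf 418)))) (.node (.node (.node (.node (.leaf 30) (.leaf 515)) (.node (.leaf 269) (.leaf 923))) (.node (.node (.leaf 179) (.leaf 675)) (.leaf 377))) (.node (.node (.node (.leaf 91) (.leaf 593)) (.node (.leaf 331) (.leaf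 955))) (.node (.node (.leaf 223) (.leaf 762)) (.leaf 443))))) (.node (.node (.node (.node (.node (.leaf 17) (.leaf 504)) (.node (.leaf 258) (.leaf 872))) (.node (.node (.leaf 169) (.leaf 658)) (.leaf 368))) (.node (.node (.node (.leaf 76) (.leaf 564)) (.node (.leaf 317) (.leaf 947))) (.node (.node (.leaf 213) (.leaf 736)) (.leaf 427)))) (.node (.node (.node (.node (.leaf 47) (.leaf 535)) (.node (.leaf 282) (.leaf 931))) (.node (.node (.leaf 189) (.leaf 692)) (.leaf 404))) (.node (.node (.node (.leaf 108) (.leaf 621)) (.node (.leaf 344) (.leaf 963))) (.node (.node (.leaf 236) (.leaf 802)) (.leaf 462))))))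
def dLive_2 : BT := .node dLive_0 dLive_1
def dLive_3 : BT := .node (.node (.node (.node (.node (.node (.node (.leaf 1) (.leaf 466)) (.node (.leaf 240) (.leaf 816))) (.node (.node (.leaf 111) (.leaf 627)) (.leaf 348))) (.node (.node (.node (.leaf 53) (.leaf 544)) (.node (.leaf 286) (.leaf 934))) (.node (.node (.leaf 192) (.leaf 699)) (.leaf 413)))) (.node (.node (.node (.node (.leaf 21) (.leaf 508)) (.node (.leaf 262) (.leaf 881))) (.node (.node (.leaf 173) (.leaf 666)) (.leaf 371))) (.node (.node (.node (.leaf 81) (.leaf 579)) (.node (.leaf 323) (.leaf 950))) (.node (.node (.leaf 217) (.leaf 749)) (.leaf 436))))) (.node (.node (.node (.node (.node (.leaf 11) (.leaf 493)) (.node (.leaf 249) (.leaf 863))) (.node (.node (.leaf 163) (.leaf 645)) (.leaf 359))) (.node (.node (.node (.leaf 66) (.leaf 554)) (.node (.leaf 307) (.leaf 942))) (.node (.node (.leaf 206) (.leaf 726)) (.leaf 422)))) (.node (.node (.node (.node (.leaf 42) (.leaf 529)) (.node (.leaf 277) (.leaf 926))) (.node (.node (.leaf 182) (.leaf 680))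 (.leaf 393))) (.node (.node (.node (.leaf 100) (.leaf 609)) (.node (.leaf 335) (.leaf 958))) (.node (.node (.leaf 227) (.leaf 779)) (.leaf 453)))))) (.node (.node (.node (.node (.node (.node (.leaf 5) (.leaf 489)) (.node (.leaf 244) (.leaf 858))) (.node (.node (.leaf 126) (.leaf 641)) (.leaf 353))) (.node (.node (.node (.leaf 57) (.leaf 549)) (.node (.leaf 290) (.leaf 938))) (.node (.node (.leaf 201) (.leaf 710)) (.leaf 417)))) (.node (.node (.node (.node (.leaf 27) (.leaf 514)) (.node (.leaf 268) (.leaf 913))) (.node (.node (.leaf 178) (.leaf 674)) (.leaf 376))) (.node (.node (.node (.leaf 87) (.leaf 590)) (.node (.leaf 329) (.leaf 954))) (.node (.node (.leaf 222) (.leaf 760)) (.leaf 440))))) (.node (.node (.node (.node (.node (.leaf 15) (.leaf 501)) (.node (.leaf 257) (.leaf 870))) (.node (.node (.leaf 168) (.leaf 657)) (.leaf 364))) (.node (.node (.node (.leaf 75) (.leaf 558)) (.node (.leaf 312) (.leaf 946))) (.node (.node (.leaf 211) (.leaf 734)) (.leaf 426)))) (.node (.node (.node (.node (.leaf 46) (.leaf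 534)) (.node (.leaf 281) (.leaf 930))) (.node (.node (.leaf 188) (.leaf 685)) (.leaf 403))) (.node (.node (.node (.leaf 107) (.leaf 617)) (.node (.leaf 343) (.leaf 962))) (.node (.node (.leaf 235) (.leaf 799)) (.leaf 458))))))
def dLive_4 : BT := .node (.node (.node (.node (.node (.node (.node (.leaf 3) (.leaf 475)) (.node (.leaf 242) (.leaf 837))) (.node (.node (.leaf 118) (.leaf 639)) (.leaf 350))) (.node (.node (.node (.leaf 55) (.leaf 546)) (.node (.leaf 288) (.leaf 936))) (.node (.node (.leaf 196) (.leaf 703)) (.leaf 415)))) (.node (.node (.node (.node (.leaf 23) (.leaf 511)) (.node (.leaf 265) (.leaf 908))) (.node (.node (.leaf 175) (.leaf 671)) (.leaf 374))) (.node (.node (.node (.leaf 83) (.leaf 586)) (.node (.leaf 326) (.leaf 952))) (.node (.node (.leaf 220) (.leaf 751)) (.leaf 438))))) (.node (.node (.node (.node (.node (.leaf 13) (.leaf 498)) (.node (.leaf 251) (.leaf 868))) (.node (.node (.leaf 165) (.leaf 648)) (.leaf 361))) (.node (.node (.node (.leaf 70) (.leaf 556)) (.node (.leaf 309) (.leaf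 944))) (.node (.node (.leaf 208) (.leaf 731)) (.leaf 424)))) (.node (.node (.node (.node (.leaf 44) (.leaf 532)) (.node (.leaf 279) (.leaf 928))) (.node (.node (.leaf 186) (.leaf 682)) (.leaf 401))) (.node (.node (.node (.leaf 102) (.leaf 615)) (.node (.leaf 338) (.leaf 960))) (.node (.node (.leaf 233) (.leaf 792)) (.leaf 456)))))) (.node (.node (.node (.node (.node (.node (.leaf 9) (.leaf 491)) (.node (.leaf 247) (.leaf 861))) (.node (.node (.leaf 130) (.leaf 643)) (.leaf 355))) (.node (.node (.node (.leaf 62) (.leaf 552)) (.node (.leaf 304) (.leaf 940))) (.node (.node (.leaf 203) (.leaf 713)) (.leaf 419)))) (.node (.node (.node (.node (.leaf 34) (.leaf 527)) (.node (.leaf 271) (.leaf 924))) (.node (.node (.leaf 180) (.leaf 677)) (.leaf 378))) (.node (.node (.node (.leaf 98) (.leaf 602)) (.node (.leaf 332) (.leaf 956))) (.node (.node (.leaf 224) (.leaf 766)) (.leaf 446))))) (.node (.node (.node (.node (.node (.leaf 19) (.leaf 505)) (.node (.leaf 260) (.leaf 877))) (.node (.node (.leaf 170) (.leaf 659)) (.leaf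 369))) (.node (.node (.node (.leaf 77) (.leaf 565)) (.node (.leaf 318) (.leaf 948))) (.node (.node (.leaf 214) (.leaf 737)) (.leaf 428)))) (.node (.node (.node (.node (.leaf 49) (.leaf 539)) (.node (.leaf 283) (.leaf 932))) (.node (.node (.leaf 190) (.leaf 694)) (.leaf 407))) (.node (.node (.node (.leaf 109) (.leaf 622)) (.node (.leaf 346) (.leaf 964))) (.node (.node (.leaf 238) (.leaf 805)) (.leaf 463))))))
def dLive_5 : BT := .node dLive_3 dLive_4
def dLive_6 : BT := .node dLive_2 dLive_5
def dLive : BT := dLive_6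
def dPos_0 : BT := .node (.node (.node (.node (.node (.node (.node (.leaf 0) (.leaf 0)) (.node (.leaf 140) (.leaf 376))) (.node (.node (.leaf 0) (.leaf 324)) (.node (.leaf 0) (.leaf 0)))) (.node (.node (.node (.leaf 0) (.leaf 0)) (.node (.leaf 0) (.leaf 0))) (.node (.node (.leaf 97) (.leaf 0)) (.node (.leaf 248) (.leaf 443))))) (.node (.node (.node (.node (.leaf 0) (.leaf 289)) (.node (.leaf 163) (.leaf 0))) (.node (.node (.leaf 0) (.leaf 340)) (.node (.leaf 228) (.leaf 411)))) (.node (.node (.node (.leaf 0) (.leaf 0)) (.node (.leaf 196) (.leaf 0))) (.node (.node (.leaf 119) (.leaf 366)) (.leaf 0))))) (.node (.node (.node (.node (.node (.leaf 0) (.leaf 280)) (.node (.leaf 0) (.leaf 0))) (.node (.node (.leaf 0) (.leaf 0)) (.node (.leaf 0) (.leaf 0)))) (.node (.node (.node (.leaf 0) (.leaf 0)) (.node (.leaf 186) (.leaf 0))) (.node (.node (.leaf 107) (.leaf 0)) (.leaf 256)))) (.node (.node (.node (.node (.leaf 0) (.leaf 0)) (.node (.leaf 167) (.leaf 385))) (.node (.node (.leaf 0) (.leaf 0)) (.node (.leaf 0)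 (.leaf 427)))) (.node (.node (.node (.leaf 0) (.leaf 320)) (.node (.leaf 206) (.leaf 400))) (.node (.node (.leaf 129) (.leaf 0)) (.leaf 0)))))) (.node (.node (.node (.node (.node (.node (.leaf 0) (.leaf 0)) (.node (.leaf 146) (.leaf 0))) (.node (.node (.leaf 0) (.leaf 331)) (.node (.leaf 216) (.leaf 0)))) (.node (.node (.node (.leaf 0) (.leaf 0)) (.node (.leaf 0) (.leaf 0))) (.node (.node (.leaf 100) (.leaf 358)) (.leaf 251)))) (.node (.node (.node (.node (.leaf 0) (.leaf 295)) (.node (.leaf 0) (.leaf 384))) (.node (.node (.leaf 77) (.leaf 345)) (.node (.leaf 235) (.leaf 419)))) (.node (.node (.node (.leaf 0) (.leaf 316)) (.node (.leaf 202) (.leaf 398))) (.node (.node (.leaf 0) (.leaf 0)) (.leaf 0))))) (.node (.node (.node (.node (.node (.leaf 20) (.leaf 0)) (.node (.leaf 156) (.leaf 379))) (.node (.node (.leaf 0) (.leaf 0)) (.node (.leaf 0) (.leaf 0)))) (.node (.node (.node (.leaf 0) (.leaf 0)) (.node (.leaf 190) (.leaf 0))) (.node (.node (.leaf 0) (.leaf 0)) (.leaf 258)))) (.node (.node (.node (.node (.leaf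 36) (.leaf 304)) (.node (.leaf 173) (.leaf 0))) (.node (.node (.leaf 0) (.leaf 0)) (.node (.leaf 245) (.leaf 435)))) (.node (.node (.node (.leaf 0) (.leaf 0)) (.node (.leaf 213) (.leaf 0))) (.node (.node (.leaf 136) (.leaf 373)) (.leaf 270))))))
def dPos_1 : BT := .node (.node (.node (.node (.node (.node (.node (.leaf 4) (.leaf 0)) (.node (.leaf 143) (.leaf 0))) (.node (.node (.leaf 0) (.leaf 328)) (.node (.leaf 0) (.leaf 0)))) (.node (.node (.node (.leaf 0) (.leaf 306)) (.node (.leaf 178) (.leaf 0))) (.node (.node (.leaf 99) (.leaf 356)) (.node (.leaf 0) (.leaf 447))))) (.node (.node (.node (.node (.leaf 0) (.leaf 292)) (.node (.leaf 0) (.leaf 0))) (.node (.node (.leaf 74) (.leaf 0)) (.node (.leaf 232) (.leaf 415)))) (.node (.node (.node (.leaf 57) (.leaf 0)) (.node (.leaf 200) (.leaf 395))) (.node (.node (.leaf 0) (.leaf 0)) (.leaf 0))))) (.node (.node (.node (.node (.node (.leaf 16) (.leaf 283)) (.node (.leaf 0) (.leaf 0))) (.node (.node (.leaf 0) (.leaf 0)) (.node (.leaf 222) (.leaf 0)))) (.node (.node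 (.node (.leaf 0) (.leaf 0)) (.node (.leaf 0) (.leaf 0))) (.node (.node (.leaf 0) (.leaf 0)) (.leaf 0)))) (.node (.node (.node (.node (.leaf 32) (.leaf 302)) (.node (.leaf 170) (.leaf 0))) (.node (.node (.leaf 87) (.leaf 350)) (.node (.leaf 241) (.leaf 431)))) (.node (.node (.node (.leaf 0) (.leaf 0)) (.node (.leaf 210) (.leaf 0))) (.node (.node (.leaf 133) (.leaf 0)) (.leaf 268)))))) (.node (.node (.node (.node (.node (.node (.leaf 10) (.leaf 0)) (.node (.leaf 149) (.leaf 378))) (.node (.node (.leaf 0) (.leaf 0)) (.node (.leaf 0) (.leaf 403)))) (.node (.node (.node (.leaf 46) (.leaf 0)) (.node (.leaf 183) (.leaf 0))) (.node (.node (.leaf 104) (.leaf 0)) (.leaf 0)))) (.node (.node (.node (.node (.leaf 27) (.leaf 299)) (.node (.leaf 0) (.leaf 0))) (.node (.node (.leaf 80) (.leaf 348)) (.node (.leaf 239) (.leaf 423)))) (.node (.node (.node (.leaf 62) (.leaf 0)) (.node (.leaf 205) (.leaf 0))) (.node (.node (.leaf 126) (.leaf 0)) (.leaf 264))))) (.node (.node (.node (.node (.node (.leaf 0) (.leaf 0)) (.node (.leaf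 0) (.leaf 380))) (.node (.node (.leaf 0) (.leaf 0)) (.node (.leaf 0) (.leaf 407)))) (.node (.node (.node (.leaf 0) (.leaf 312)) (.node (.leaf 193) (.leaf 390))) (.node (.node (.leaf 115) (.leaf 0)) (.leaf 0)))) (.node (.node (.node (.node (.leaf 0) (.leaf 0)) (.node (.leaf 0) (.leaf 0))) (.node (.node (.leaf 93) (.leaf 0)) (.node (.leaf 0) (.leaf 439)))) (.node (.node (.node (.leaf 0) (.leaf 0)) (.node (.leaf 0) (.leaf 0))) (.node (.node (.leaf 0) (.leaf 0)) (.leaf 273))))))
def dPos_2 : BT := .node dPos_0 dPos_1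
def dPos_3 : BT := .node (.node (.node (.node (.node (.node (.node (.leaf 2) (.leaf 277)) (.node (.leaf 142) (.leaf 0))) (.node (.node (.leaf 71) (.leaf 326)) (.node (.leaf 0) (.leaf 0)))) (.node (.node (.node (.leaf 41) (.leaf 0)) (.node (.leaf 0) (.leaf 0))) (.node (.node (.leaf 98) (.leaf 0)) (.node (.leaf 0) (.leaf 445))))) (.node (.node (.node (.node (.leaf 23) (.leaf 291)) (.node (.leaf 165) (.leaf 382))) (.node (.node (.leaf 0) (.leaf 341)) (.node (.leaf 230) (.leaf 413)))) (.node (.node (.node (.leaf 55) (.leaf 314)) (.node (.leaf 198) (.leaf 0))) (.node (.node (.leaf 0) (.leaf 0)) (.leaf 260))))) (.node (.node (.node (.node (.node (.leaf 0) (.leaf 282)) (.node (.leaf 0) (.leaf 0))) (.node (.node (.leaf 0) (.leaf 334)) (.node (.leaf 220) (.leaf 0)))) (.node (.node (.node (.leaf 50) (.leaf 0)) (.node (.leaf 187) (.leaf 0))) (.node (.node (.leaf 0) (.leaf 0)) (.leaf 257)))) (.node (.node (.node (.node (.leaf 0) (.leaf 0)) (.node (.leaf 0) (.leaf 0))) (.node (.node (.leaf 85) (.leaf 0)) (.node (.leaf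 240) (.leaf 429)))) (.node (.node (.node (.leaf 0) (.leaf 0)) (.node (.leaf 208) (.leaf 0))) (.node (.node (.leaf 131) (.leaf 0)) (.leaf 267)))))) (.node (.node (.node (.node (.node (.node (.leaf 8) (.leaf 0)) (.node (.leaf 148) (.leaf 0))) (.node (.node (.leaf 0) (.leaf 332)) (.node (.leaf 0) (.leaf 0)))) (.node (.node (.node (.leaf 44) (.leaf 307)) (.node (.leaf 0) (.leaf 0))) (.node (.node (.leaf 102) (.leaf 0)) (.leaf 253)))) (.node (.node (.node (.node (.leaf 25) (.leaf 297)) (.node (.leaf 0) (.leaf 0))) (.node (.node (.leaf 79) (.leaf 347)) (.node (.leaf 237) (.leaf 421)))) (.node (.node (.node (.leaf 0) (.leaf 0)) (.node (.leaf 0) (.leaf 0))) (.node (.node (.leaf 124) (.leaf 0)) (.leaf 262))))) (.node (.node (.node (.node (.node (.leaf 0) (.leaf 0)) (.node (.leaf 158) (.leaf 0))) (.node (.node (.leaf 0) (.leaf 337)) (.node (.leaf 0) (.leaf 0)))) (.node (.node (.node (.leaf 0) (.leaf 311)) (.node (.leaf 191) (.leaf 389))) (.node (.node (.leaf 114) (.leaf 0)) (.leaf 0)))) (.node (.node (.node (.node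 (.leaf 0) (.leaf 0)) (.node (.leaf 0) (.leaf 0))) (.node (.node (.leaf 91) (.leaf 0)) (.node (.leaf 0) (.leaf 437)))) (.node (.node (.node (.leaf 0) (.leaf 0)) (.node (.leaf 215) (.leaf 0))) (.node (.node (.leaf 138) (.leaf 374)) (.leaf 0))))))
def dPos_4 : BT := .node (.node (.node (.node (.node (.node (.node (.leaf 0) (.leaf 0)) (.node (.leaf 145) (.leaf 0))) (.node (.node (.leaf 0) (.leaf 0)) (.node (.leaf 0) (.leaf 0)))) (.node (.node (.node (.leaf 43) (.leaf 0)) (.node (.leaf 179) (.leaf 0))) (.node (.node (.leaf 0) (.leaf 357)) (.leaf 0)))) (.node (.node (.node (.node (.leaf 0) (.leaf 294)) (.node (.leaf 0) (.leaf 0))) (.node (.node (.leaf 0) (.leaf 0)) (.node (.leaf 233) (.leaf 417)))) (.node (.node (.node (.leaf 59) (.leaf 0)) (.node (.leaf 0) (.leaf 397))) (.node (.node (.leaf 0) (.leaf 0)) (.leaf 0))))) (.node (.node (.node (.node (.node (.leaf 18) (.leaf 285)) (.node (.leaf 154) (.leaf 0))) (.node (.node (.leaf 0) (.leaf 0)) (.node (.leaf 0) (.leaf 0)))) (.node (.node (.node (.leaf 0) (.leaf 0))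 (.node (.leaf 0) (.leaf 0))) (.node (.node (.leaf 111) (.leaf 361)) (.leaf 0)))) (.node (.node (.node (.node (.leaf 34) (.leaf 0)) (.node (.leaf 172) (.leaf 0))) (.node (.node (.leaf 89) (.leaf 351)) (.node (.leaf 243) (.leaf 433)))) (.node (.node (.node (.leaf 67) (.leaf 0)) (.node (.leaf 211) (.leaf 0))) (.node (.node (.leaf 134) (.leaf 0)) (.leaf 0)))))) (.node (.node (.node (.node (.node (.node (.leaf 12) (.leaf 0)) (.node (.leaf 0) (.leaf 0))) (.node (.node (.leaf 0) (.leaf 0)) (.node (.leaf 0) (.leaf 0)))) (.node (.node (.node (.leaf 0) (.leaf 309)) (.node (.leaf 0) (.leaf 0))) (.node (.node (.leaf 105) (.leaf 0)) (.leaf 254)))) (.node (.node (.node (.node (.leaf 29) (.leaf 301)) (.node (.leaf 166) (.leaf 0))) (.node (.node (.leaf 82) (.leaf 0)) (.node (.leaf 0) (.leaf 425)))) (.node (.node (.node (.leaf 64) (.leaf 319)) (.node (.leaf 0) (.leaf 0))) (.node (.node (.leaf 127) (.leaf 370)) (.leaf 266))))) (.node (.node (.node (.node (.node (.leaf 22) (.leaf 0)) (.node (.leaf 161) (.leaf 0))) (.node (.node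 (.leaf 0) (.leaf 338)) (.node (.leaf 226) (.leaf 409)))) (.node (.node (.node (.leaf 0) (.leaf 0)) (.node (.leaf 195) (.leaf 392))) (.node (.node (.leaf 117) (.leaf 365)) (.leaf 0)))) (.node (.node (.node (.node (.leaf 39) (.leaf 0)) (.node (.leaf 175) (.leaf 0))) (.node (.node (.leaf 95) (.leaf 0)) (.node (.leaf 247) (.leaf 441)))) (.node (.node (.node (.leaf 69) (.leaf 0)) (.node (.leaf 0) (.leaf 0))) (.node (.node (.leaf 0) (.leaf 375)) (.leaf 0))))))
def dPos_5 : BT := .node dPos_3 dPos_4
def dPos_6 : BT := .node dPos_2 dPos_5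
def dPos_7 : BT := .node (.node (.node (.node (.node (.node (.node (.leaf 1) (.leaf 276)) (.node (.leaf 141) (.leaf 0))) (.node (.node (.leaf 0) (.leaf 325)) (.node (.leaf 0) (.leaf 0)))) (.node (.node (.node (.leaf 40) (.leaf 0)) (.node (.leaf 0) (.leaf 0))) (.node (.node (.leaf 0) (.leaf 0)) (.node (.leaf 0) (.leaf 444))))) (.node (.node (.node (.node (.leaf 0) (.leaf 290)) (.node (.leaf 164) (.leaf 0))) (.node (.node (.leaf 0) (.leaf 0)) (.node (.leaf 229) (.leaf 412)))) (.node (.node (.node (.leaf 0) (.leaf 313)) (.node (.leaf 197) (.leaf 0))) (.node (.node (.leaf 120) (.leaf 367)) (.leaf 0))))) (.node (.node (.node (.node (.node (.leaf 14) (.leaf 281)) (.node (.leaf 152) (.leaf 0))) (.node (.node (.leaf 0) (.leaf 333)) (.node (.leaf 219) (.leaf 405)))) (.node (.node (.node (.leaf 49) (.leaf 310)) (.node (.leaf 0) (.leaf 0))) (.node (.node (.leaf 108) (.leaf 0)) (.leaf 0)))) (.node (.node (.node (.node (.leaf 31) (.leaf 0)) (.node (.leaf 168) (.leaf 0))) (.node (.node (.leaf 84) (.leaf 0)) (.node (.leaf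 0) (.leaf 428)))) (.node (.node (.node (.leaf 0) (.leaf 0)) (.node (.leaf 207) (.leaf 401))) (.node (.node (.leaf 130) (.leaf 372)) (.leaf 0)))))) (.node (.node (.node (.node (.node (.node (.leaf 7) (.leaf 0)) (.node (.leaf 147) (.leaf 0))) (.node (.node (.leaf 0) (.leaf 0)) (.node (.leaf 217) (.leaf 0)))) (.node (.node (.node (.leaf 0) (.leaf 0)) (.node (.leaf 181) (.leaf 0))) (.node (.node (.leaf 101) (.leaf 359)) (.leaf 252)))) (.node (.node (.node (.node (.leaf 24) (.leaf 296)) (.node (.leaf 0) (.leaf 0))) (.node (.node (.leaf 78) (.leaf 346)) (.node (.leaf 236) (.leaf 420)))) (.node (.node (.node (.leaf 0) (.leaf 317)) (.node (.leaf 203) (.leaf 0))) (.node (.node (.leaf 123) (.leaf 0)) (.leaf 261))))) (.node (.node (.node (.node (.node (.leaf 0) (.leaf 0)) (.node (.leaf 157) (.leaf 0))) (.node (.node (.leaf 0) (.leaf 336)) (.node (.leaf 224) (.leaf 0)))) (.node (.node (.node (.leaf 0) (.leaf 0)) (.node (.leaf 0) (.leaf 388))) (.node (.node (.leaf 113) (.leaf 0)) (.leaf 0)))) (.node (.node (.node (.node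 (.leaf 37) (.leaf 0)) (.node (.leaf 0) (.leaf 0))) (.node (.node (.leaf 0) (.leaf 352)) (.node (.leaf 0) (.leaf 436)))) (.node (.node (.node (.leaf 0) (.leaf 0)) (.node (.leaf 214) (.leaf 0))) (.node (.node (.leaf 137) (.leaf 0)) (.leaf 271))))))
def dPos_8 : BT := .node (.node (.node (.node (.node (.node (.node (.leaf 5) (.leaf 0)) (.node (.leaf 144) (.leaf 0))) (.node (.node (.leaf 0) (.leaf 329)) (.node (.leaf 0) (.leaf 0)))) (.node (.node (.node (.leaf 0) (.leaf 0)) (.node (.leaf 0) (.leaf 387))) (.node (.node (.leaf 0) (.leaf 0)) (.leaf 249)))) (.node (.node (.node (.node (.leaf 0) (.leaf 293)) (.node (.leaf 0) (.leaf 383))) (.node (.node (.leaf 75) (.leaf 343)) (.node (.leaf 0) (.leaf 416)))) (.node (.node (.node (.leaf 58) (.leaf 0)) (.node (.leaf 0) (.leaf 396))) (.node (.node (.leaf 122) (.leaf 368)) (.leaf 0))))) (.node (.node (.node (.node (.node (.leaf 17) (.leaf 284)) (.node (.leaf 153) (.leaf 0))) (.node (.node (.leaf 0) (.leaf 0)) (.node (.leaf 0) (.leaf 0)))) (.node (.node (.node (.leaf 52)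 (.leaf 0)) (.node (.leaf 0) (.leaf 0))) (.node (.node (.leaf 110) (.leaf 0)) (.leaf 0)))) (.node (.node (.node (.node (.leaf 33) (.leaf 303)) (.node (.leaf 171) (.leaf 0))) (.node (.node (.leaf 88) (.leaf 0)) (.node (.leaf 242) (.leaf 432)))) (.node (.node (.node (.leaf 0) (.leaf 322)) (.node (.leaf 0) (.leaf 0))) (.node (.node (.leaf 0) (.leaf 0)) (.leaf 269)))))) (.node (.node (.node (.node (.node (.node (.leaf 11) (.leaf 0)) (.node (.leaf 150) (.leaf 0))) (.node (.node (.leaf 0) (.leaf 0)) (.node (.leaf 0) (.leaf 0)))) (.node (.node (.node (.leaf 47) (.leaf 0)) (.node (.leaf 184) (.leaf 0))) (.node (.node (.leaf 0) (.leaf 360)) (.leaf 0)))) (.node (.node (.node (.node (.leaf 28) (.leaf 300)) (.node (.leaf 0) (.leaf 0))) (.node (.node (.leaf 81) (.leaf 349)) (.node (.leaf 0) (.leaf 424)))) (.node (.node (.node (.leaf 63) (.leaf 318)) (.node (.leaf 0) (.leaf 399))) (.node (.node (.leaf 0) (.leaf 369)) (.leaf 265))))) (.node (.node (.node (.node (.node (.leaf 0) (.leaf 0)) (.node (.leaf 160) (.leaf 0))) (.node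 (.node (.leaf 0) (.leaf 0)) (.node (.leaf 225) (.leaf 408)))) (.node (.node (.node (.leaf 0) (.leaf 0)) (.node (.leaf 194) (.leaf 391))) (.node (.node (.leaf 116) (.leaf 364)) (.leaf 0)))) (.node (.node (.node (.node (.leaf 0) (.leaf 0)) (.node (.leaf 174) (.leaf 0))) (.node (.node (.leaf 94) (.leaf 354)) (.node (.leaf 0) (.leaf 440)))) (.node (.node (.node (.leaf 0) (.leaf 0)) (.node (.leaf 0) (.leaf 0))) (.node (.node (.leaf 0) (.leaf 0)) (.leaf 274))))))
def dPos_9 : BT := .node dPos_7 dPos_8
def dPos_10 : BT := .node (.node (.node (.node (.node (.node (.node (.leaf 3) (.leaf 278)) (.node (.leaf 0) (.leaf 0))) (.node (.node (.leaf 72) (.leaf 327)) (.node (.leaf 0) (.leaf 0)))) (.node (.node (.node (.leaf 42) (.leaf 305)) (.node (.leaf 177) (.leaf 0))) (.node (.node (.leaf 0) (.leaf 0)) (.node (.leaf 0) (.leaf 446))))) (.node (.node (.node (.node (.leaf 0) (.leaf 0)) (.node (.leaf 0) (.leaf 0))) (.node (.node (.leaf 73) (.leaf 342)) (.node (.leaf 231) (.leaf 414)))) (.node (.node (.node (.leaf 56) (.leaf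 0)) (.node (.leaf 199) (.leaf 394))) (.node (.node (.leaf 121) (.leaf 0)) (.leaf 0))))) (.node (.node (.node (.node (.node (.leaf 15) (.leaf 0)) (.node (.leaf 0) (.leaf 0))) (.node (.node (.leaf 0) (.leaf 335)) (.node (.leaf 221) (.leaf 0)))) (.node (.node (.node (.leaf 51) (.leaf 0)) (.node (.leaf 188) (.leaf 0))) (.node (.node (.leaf 109) (.leaf 0)) (.leaf 0)))) (.node (.node (.node (.node (.leaf 0) (.leaf 0)) (.node (.leaf 169) (.leaf 0))) (.node (.node (.leaf 86) (.leaf 0)) (.node (.leaf 0) (.leaf 430)))) (.node (.node (.node (.leaf 66) (.leaf 321)) (.node (.leaf 209) (.leaf 0))) (.node (.node (.leaf 132) (.leaf 0)) (.leaf 0)))))) (.node (.node (.node (.node (.node (.node (.leaf 9) (.leaf 0)) (.node (.leaf 0) (.leaf 377))) (.node (.node (.leaf 0) (.leaf 0)) (.node (.leaf 218) (.leaf 402)))) (.node (.node (.node (.leaf 45) (.leaf 308)) (.node (.leaf 182) (.leaf 0))) (.node (.node (.leaf 103) (.leaf 0)) (.leaf 0)))) (.node (.node (.node (.node (.leaf 26) (.leaf 298)) (.node (.leaf 0) (.leaf 0))) (.node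 (.node (.leaf 0) (.leaf 0)) (.node (.leaf 238) (.leaf 422)))) (.node (.node (.node (.leaf 61) (.leaf 0)) (.node (.leaf 204) (.leaf 0))) (.node (.node (.leaf 125) (.leaf 0)) (.leaf 263))))) (.node (.node (.node (.node (.node (.leaf 21) (.leaf 287)) (.node (.leaf 159) (.leaf 0))) (.node (.node (.leaf 0) (.leaf 0)) (.node (.leaf 0) (.leaf 406)))) (.node (.node (.node (.leaf 54) (.leaf 0)) (.node (.leaf 192) (.leaf 0))) (.node (.node (.leaf 0) (.leaf 363)) (.leaf 259)))) (.node (.node (.node (.node (.leaf 38) (.leaf 0)) (.node (.leaf 0) (.leaf 386))) (.node (.node (.leaf 92) (.leaf 353)) (.node (.leaf 246) (.leaf 438)))) (.node (.node (.node (.leaf 0) (.leaf 0)) (.node (.leaf 0) (.leaf 0))) (.node (.node (.leaf 139) (.leaf 0)) (.leaf 272))))))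
def dPos_11 : BT := .node (.node (.node (.node (.node (.node (.node (.leaf 6) (.leaf 0)) (.node (.leaf 0) (.leaf 0))) (.node (.node (.leaf 0) (.leaf 330)) (.node (.leaf 0) (.leaf 0)))) (.node (.node (.node (.leaf 0) (.leaf 0)) (.node (.leaf 180) (.leaf 0))) (.node (.node (.leaf 0) (.leaf 0)) (.leaf 250)))) (.node (.node (.node (.node (.leaf 0) (.leaf 0)) (.node (.leaf 0) (.leaf 0))) (.node (.node (.leaf 76) (.leaf 344)) (.node (.leaf 234) (.leaf 418)))) (.node (.node (.node (.leaf 60) (.leaf 315)) (.node (.leaf 201) (.leaf 0))) (.node (.node (.leaf 0) (.leaf 0)) (.leaf 0))))) (.node (.node (.node (.node (.node (.leaf 19) (.leaf 286)) (.node (.leaf 155) (.leaf 0))) (.node (.node (.leaf 0) (.leaf 0)) (.node (.leaf 223) (.leaf 0)))) (.node (.node (.node (.leaf 53) (.leaf 0)) (.node (.leaf 189) (.leaf 0))) (.node (.node (.leaf 112) (.leaf 362)) (.leaf 0)))) (.node (.node (.node (.node (.leaf 35) (.leaf 0)) (.node (.leaf 0) (.leaf 0))) (.node (.node (.leaf 90) (.leaf 0)) (.node (.leaf 244) (.leaf 434)))) (.node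 (.node (.node (.leaf 68) (.leaf 0)) (.node (.leaf 212) (.leaf 0))) (.node (.node (.leaf 135) (.leaf 0)) (.leaf 0)))))) (.node (.node (.node (.node (.node (.node (.leaf 13) (.leaf 279)) (.node (.leaf 151) (.leaf 0))) (.node (.node (.leaf 0) (.leaf 0)) (.node (.leaf 0) (.leaf 404)))) (.node (.node (.node (.leaf 48) (.leaf 0)) (.node (.leaf 185) (.leaf 0))) (.node (.node (.leaf 106) (.leaf 0)) (.leaf 255)))) (.node (.node (.node (.node (.leaf 30) (.leaf 0)) (.node (.leaf 0) (.leaf 0))) (.node (.node (.leaf 83) (.leaf 0)) (.node (.leaf 0) (.leaf 426)))) (.node (.node (.node (.leaf 65) (.leaf 0)) (.node (.leaf 0) (.leaf 0))) (.node (.node (.leaf 128) (.leaf 371)) (.leaf 0))))) (.node (.node (.node (.node (.node (.leaf 0) (.leaf 288)) (.node (.leaf 162) (.leaf 381))) (.node (.node (.leaf 0) (.leaf 339)) (.node (.leaf 227) (.leaf 410)))) (.node (.node (.node (.leaf 0) (.leaf 0)) (.node (.leaf 0) (.leaf 393))) (.node (.node (.leaf 118) (.leaf 0)) (.leaf 0)))) (.node (.node (.node (.node (.leaf 0) (.leaf 0)) (.node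 (.leaf 176) (.leaf 0))) (.node (.node (.leaf 96) (.leaf 355)) (.node (.leaf 0) (.leaf 442)))) (.node (.node (.node (.leaf 70) (.leaf 323)) (.node (.leaf 0) (.leaf 0))) (.node (.node (.leaf 0) (.leaf 0)) (.leaf 275))))))
def dPos_12 : BT := .node dPos_10 dPos_11
def dPos_13 : BT := .node dPos_9 dPos_12
def dPos_14 : BT := .node dPos_6 dPos_13
def dPos : BT := dPos_14
def dFin_0 : BT := .node (.node (.node (.node (.node (.node (.node (.leaf 0) (.leaf 6664)) (.node (.leaf 1833) (.leaf 6977))) (.node (.node (.leaf 2410) (.leaf 13114)) (.leaf 2471))) (.node (.node (.node (.leaf 293) (.leaf 4014)) (.node (.leaf 2086) (.leaf 10135))) (.node (.node (.leaf 11690) (.leaf 5228)) (.leaf 2881)))) (.node (.node (.node (.node (.leaf 121) (.leaf 9462)) (.node (.leaf 5350) (.leaf 9242))) (.node (.node (.leaf 2916) (.leaf 10286)) (.leaf 5144))) (.node (.node (.node (.leaf 1574) (.leaf 13032)) (.node (.leaf 12494) (.leaf 10569))) (.node (.node (.leaf 11798) (.leaf 5461)) (.leaf 3093))))) (.node (.node (.node (.node (.node (.leaf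 71) (.leaf 6831)) (.node (.leaf 3596) (.leaf 10004))) (.node (.node (.leaf 2644) (.leaf 9241)) (.leaf 9895))) (.node (.node (.node (.leaf 1830) (.leaf 4087)) (.node (.leaf 6416) (.leaf 10351))) (.node (.node (.leaf 1577) (.leaf 6800)) (.leaf 8306)))) (.node (.node (.node (.node (.leaf 11236) (.leaf 3850)) (.node (.leaf 3970) (.leaf 9917))) (.node (.node (.leaf 11600) (.leaf 9506)) (.leaf 2717))) (.node (.node (.node (.leaf 551) (.leaf 4525)) (.node (.leaf 7702) (.leaf 10785))) (.node (.node (.leaf 11902) (.leaf 5631)) (.leaf 3165)))))) (.node (.node (.node (.node (.node (.node (.leaf 31) (.leaf 3355)) (.node (.leaf 4900) (.leaf 10670))) (.node (.node (.leaf 2500) (.leaf 4717)) (.leaf 2506))) (.node (.node (.node (.leaf 313) (.leaf 4056)) (.node (.leaf 6172) (.leaf 10239))) (.node (.node (.leaf 1517) (.leaf 5510)) (.leaf 9684)))) (.node (.node (.node (.node (.leaf 572) (.leaf 10230)) (.node (.leaf 3490) (.leaf 10772))) (.node (.node (.leaf 1386) (.leaf 6096)) (.leaf 2649))) (.node (.node (.node (.leaf 1614)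 (.leaf 13060)) (.node (.leaf 9292) (.leaf 10673))) (.node (.node (.leaf 1693) (.leaf 10996)) (.leaf 3162))))) (.node (.node (.node (.node (.node (.leaf 264) (.leaf 9734)) (.node (.leaf 1914) (.leaf 10922))) (.node (.node (.leaf 11522) (.leaf 6811)) (.leaf 8724))) (.node (.node (.node (.leaf 1910) (.leaf 4113)) (.node (.leaf 6532) (.leaf 10457))) (.node (.node (.leaf 1617) (.leaf 5407)) (.leaf 6058)))) (.node (.node (.node (.node (.leaf 1426) (.leaf 3907)) (.node (.leaf 5848) (.leaf 10033))) (.node (.node (.leaf 1429) (.leaf 6610)) (.leaf 3386))) (.node (.node (.node (.leaf 620) (.leaf 13088)) (.node (.leaf 10070) (.leaf 10903))) (.node (.node (.leaf 4792) (.leaf 13292)) (.leaf 8556))))))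
def dFin_1 : BT := .node (.node (.node (.node (.node (.node (.node (.leaf 116) (.leaf 12898)) (.node (.leaf 11976) (.leaf 6169))) (.node (.node (.leaf 641) (.leaf 10782)) (.leaf 9592))) (.node (.node (.node (.leaf 1632) (.leaf 12988)) (.node (.leaf 3766) (.leaf 10201))) (.node (.node (.leaf 1722) (.leaf 6061)) (.leaf 2923)))) (.node (.node (.node (.node (.leaf 598) (.leaf 9379)) (.node (.leaf 1954) (.leaf 7273))) (.node (.node (.leaf 1333) (.leaf 4969)) (.leaf 5632))) (.node (.node (.node (.leaf 2082) (.leaf 7724)) (.node (.leaf 2323) (.leaf 10637))) (.node (.node (.leaf 11826) (.leaf 6814)) (.leaf 10722))))) (.node (.node (.node (.node (.node (.leaf 294) (.leaf 3579)) (.node (.leaf 12052) (.leaf 6485))) (.node (.node (.leaf 1786) (.leaf 4808)) (.leaf 2539))) (.node (.node (.node (.leaf 1190) (.leaf 10172)) (.node (.leaf 2215) (.leaf 10397))) (.node (.node (.leaf 4084) (.leaf 5412)) (.leaf 3011)))) (.node (.node (.node (.node (.leaf 257) (.leaf 3882)) (.node (.leaf 2039) (.leaf 9984))) (.node (.node (.leaf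 3112) (.leaf 8692)) (.leaf 6997))) (.node (.node (.node (.leaf 2210) (.leaf 4561)) (.node (.leaf 2415) (.leaf 10845))) (.node (.node (.leaf 1745) (.leaf 9328)) (.leaf 9803)))))) (.node (.node (.node (.node (.node (.node (.leaf 54) (.leaf 3559)) (.node (.leaf 1872) (.leaf 6428))) (.node (.node (.leaf 2320) (.leaf 9061)) (.leaf 3608))) (.node (.node (.node (.leaf 331) (.leaf 10816)) (.node (.leaf 2165) (.leaf 10297))) (.node (.node (.leaf 1545) (.leaf 9709)) (.leaf 2961)))) (.node (.node (.node (.node (.leaf 182) (.leaf 9340)) (.node (.leaf 5572) (.leaf 7393))) (.node (.node (.leaf 11578) (.leaf 8886)) (.leaf 9761))) (.node (.node (.node (.leaf 1486) (.leaf 6023)) (.node (.leaf 3428) (.leaf 10725))) (.node (.node (.leaf 4554) (.leaf 5597)) (.leaf 3137))))) (.node (.node (.node (.node (.node (.leaf 276) (.leaf 3695)) (.node (.leaf 3492) (.leaf 6529))) (.node (.node (.leaf 1279) (.leaf 9871)) (.leaf 2600))) (.node (.node (.node (.leaf 1546) (.leaf 4187)) (.node (.leaf 12460) (.leaf 10533))) (.node (.node (.leaf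 3412) (.leaf 5429)) (.leaf 10478)))) (.node (.node (.node (.node (.leaf 318) (.leaf 10884)) (.node (.leaf 12244) (.leaf 10100))) (.node (.node (.leaf 3560) (.leaf 13192)) (.leaf 4300))) (.node (.node (.node (.leaf 605) (.leaf 6386)) (.node (.leaf 10076) (.leaf 10967))) (.node (.node (.leaf 1809) (.leaf 5893)) (.leaf 4740))))))
def dFin_2 : BT := .node dFin_0 dFin_1
def dFin_3 : BT := .node (.node (.node (.node (.node (.node (.node (.leaf 68) (.leaf 9461)) (.node (.leaf 11970) (.leaf 9880))) (.node (.node (.leaf 623) (.leaf 4842)) (.leaf 3584))) (.node (.node (.node (.leaf 301) (.leaf 4013)) (.node (.leaf 2085) (.leaf 10163))) (.node (.node (.leaf 11698) (.leaf 13212)) (.leaf 2924)))) (.node (.node (.node (.node (.leaf 11154) (.leaf 10846)) (.node (.leaf 5364) (.leaf 13358))) (.node (.node (.leaf 3004) (.leaf 8702)) (.leaf 7522))) (.node (.node (.node (.leaf 2036) (.leaf 4299)) (.node (.leaf 2309) (.leaf 10595))) (.node (.node (.leaf 4202) (.leaf 10554)) (.leaf 10606))))) (.node (.node (.node (.node (.node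 (.leaf 11072) (.leaf 8600)) (.node (.leaf 5208) (.leaf 10308))) (.node (.node (.leaf 11504) (.leaf 9237)) (.leaf 2540))) (.node (.node (.node (.leaf 1868) (.leaf 4131)) (.node (.leaf 2216) (.leaf 10398))) (.node (.node (.leaf 4002) (.leaf 5404)) (.leaf 3012)))) (.node (.node (.node (.node (.leaf 251) (.leaf 3866)) (.node (.leaf 2040) (.leaf 9949))) (.node (.node (.leaf 3106) (.leaf 9604)) (.leaf 4758))) (.node (.node (.node (.leaf 559) (.leaf 13072)) (.node (.leaf 2416) (.leaf 10815))) (.node (.node (.leaf 1725) (.leaf 10662)) (.leaf 9569)))))) (.node (.node (.node (.node (.node (.node (.leaf 42) (.leaf 3549)) (.node (.leaf 12002) (.leaf 13342))) (.node (.node (.leaf 2532) (.leaf 10444)) (.leaf 2505))) (.node (.node (.node (.leaf 321) (.leaf 10934)) (.node (.leaf 12340) (.leaf 10271))) (.node (.node (.leaf 3900) (.leaf 5285)) (.leaf 12814)))) (.node (.node (.node (.node (.leaf 158) (.leaf 12972)) (.node (.leaf 12154) (.leaf 9706))) (.node (.node (.leaf 1385) (.leaf 13174)) (.leaf 12736))) (.node (.node (.node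 (.leaf 1464) (.leaf 9774)) (.node (.leaf 12530) (.leaf 10699))) (.node (.node (.leaf 3652) (.leaf 5618)) (.leaf 12840))))) (.node (.node (.node (.node (.node (.leaf 270) (.leaf 12952)) (.node (.leaf 1913) (.leaf 13348))) (.node (.node (.leaf 1259) (.leaf 7117)) (.leaf 10368))) (.node (.node (.node (.leaf 1948) (.leaf 9960)) (.node (.leaf 6502) (.leaf 10487))) (.node (.node (.leaf 11762) (.leaf 5415)) (.leaf 10576)))) (.node (.node (.node (.node (.leaf 310) (.leaf 3923)) (.node (.leaf 5430) (.leaf 10055))) (.node (.node (.leaf 11668) (.leaf 7110)) (.leaf 9388))) (.node (.node (.node (.leaf 595) (.leaf 9424)) (.node (.leaf 4598) (.leaf 10933))) (.node (.node (.leaf 1789) (.leaf 5859)) (.leaf 3468))))))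
def dFin_4 : BT := .node (.node (.node (.node (.node (.node (.node (.leaf 14) (.leaf 10252)) (.node (.leaf 11986) (.leaf 6233))) (.node (.node (.leaf 2466) (.leaf 4718)) (.leaf 8274))) (.node (.node (.node (.leaf 1690) (.leaf 9033)) (.node (.leaf 12324) (.leaf 10217))) (.node (.node (.leaf 1742) (.leaf 5231)) (.leaf 3407)))) (.node (.node (.node (.node (.leaf 608) (.leaf 3747)) (.node (.leaf 1953) (.leaf 13366))) (.node (.node (.leaf 1355) (.leaf 9357)) (.leaf 2650))) (.node (.node (.node (.leaf 1598) (.leaf 4373)) (.node (.leaf 7390) (.leaf 10651))) (.node (.node (.leaf 1694) (.leaf 7508)) (.leaf 12830))))) (.node (.node (.node (.node (.node (.leaf 302) (.leaf 4584)) (.node (.leaf 5194) (.leaf 9582))) (.node (.node (.leaf 1806) (.leaf 4807)) (.leaf 12660))) (.node (.node (.node (.leaf 1218) (.leaf 6828)) (.node (.leaf 6402) (.leaf 10634))) (.node (.node (.leaf 1601) (.leaf 13230)) (.leaf 4498)))) (.node (.node (.node (.node (.leaf 1382) (.leaf 3908)) (.node (.leaf 12200) (.leaf 10001))) (.node (.node (.leaf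 1430) (.leaf 8678)) (.leaf 2801))) (.node (.node (.node (.leaf 11394) (.leaf 4583)) (.node (.leaf 7534) (.leaf 10879))) (.node (.node (.leaf 4696) (.leaf 6858)) (.leaf 6994)))))) (.node (.node (.node (.node (.node (.node (.leaf 72) (.leaf 3567)) (.node (.leaf 1871) (.leaf 6427))) (.node (.node (.leaf 2590) (.leaf 6867)) (.leaf 6585))) (.node (.node (.node (.leaf 343) (.leaf 4088)) (.node (.leaf 12370) (.leaf 10319))) (.node (.node (.leaf 1563) (.leaf 8786)) (.leaf 8314)))) (.node (.node (.node (.node (.leaf 208) (.leaf 10150)) (.node (.leaf 2968) (.leaf 7435))) (.node (.node (.leaf 3138) (.leaf 5043)) (.leaf 7712))) (.node (.node (.node (.leaf 1092) (.leaf 9581)) (.node (.leaf 9369) (.leaf 10757))) (.node (.node (.leaf 4562) (.leaf 5621)) (.leaf 10324))))) (.node (.node (.node (.node (.node (.leaf 122) (.leaf 3701)) (.node (.leaf 12100) (.leaf 9825))) (.node (.node (.leaf 1297) (.leaf 13140)) (.leaf 2599))) (.node (.node (.node (.leaf 1560) (.leaf 6764)) (.node (.leaf 12472) (.leaf 10553))) (.node (.node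 (.leaf 11788) (.leaf 9918)) (.leaf 6974)))) (.node (.node (.node (.node (.leaf 328) (.leaf 3973)) (.node (.leaf 12256) (.leaf 10099))) (.node (.node (.leaf 3568) (.leaf 5179)) (.leaf 2853))) (.node (.node (.node (.leaf 2350) (.leaf 13104)) (.node (.leaf 2472) (.leaf 10995))) (.node (.node (.leaf 1834) (.leaf 13318)) (.leaf 6734))))))
def dFin_5 : BT := .node dFin_3 dFin_4
def dFin_6 : BT := .node dFin_2 dFin_5
def dFin_7 : BT := .node (.node (.node (.node (.node (.node (.node (.leaf 8) (.leaf 3249)) (.node (.leaf 4944) (.leaf 13328))) (.node (.node (.leaf 615) (.leaf 4631)) (.leaf 8644))) (.node (.node (.node (.leaf 1534) (.leaf 9531)) (.node (.leaf 12278) (.leaf 11010))) (.node (.node (.leaf 1447) (.leaf 13208)) (.leaf 8058)))) (.node (.node (.node (.node (.leaf 610) (.leaf 3717)) (.node (.leaf 1933) (.leaf 9250))) (.node (.node (.leaf 2958) (.leaf 9892)) (.leaf 8540))) (.node (.node (.node (.leaf 11346) (.leaf 8352)) (.node (.leaf 2287) (.leaf 10563))) (.node (.node (.leaf 4418) (.leaf 10094)) (.leaf 6960)))))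 (.node (.node (.node (.node (.node (.leaf 304) (.leaf 6843)) (.node (.leaf 12036) (.leaf 10830))) (.node (.node (.leaf 733) (.leaf 4767)) (.leaf 6761))) (.node (.node (.node (.leaf 1554) (.leaf 10006)) (.node (.leaf 2199) (.leaf 10341))) (.node (.node (.leaf 11738) (.leaf 13224)) (.leaf 8110)))) (.node (.node (.node (.node (.leaf 1176) (.leaf 12980)) (.node (.leaf 12170) (.leaf 9927))) (.node (.node (.leaf 11608) (.leaf 9716)) (.leaf 6678))) (.node (.node (.node (.leaf 1168) (.leaf 6886)) (.node (.leaf 6017) (.leaf 10801))) (.node (.node (.leaf 1713) (.leaf 13280)) (.leaf 12868)))))) (.node (.node (.node (.node (.node (.node (.leaf 29) (.leaf 7100)) (.node (.leaf 1853) (.leaf 9533))) (.node (.node (.leaf 669) (.leaf 6018)) (.leaf 12628))) (.node (.node (.node (.leaf 11286) (.leaf 12998)) (.node (.leaf 6015) (.leaf 10233))) (.node (.node (.leaf 3840) (.leaf 9247)) (.leaf 9527)))) (.node (.node (.node (.node (.leaf 147) (.leaf 3763)) (.node (.leaf 12146) (.leaf 9777))) (.node (.node (.leaf 3100) (.leaf 9683))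 (.leaf 8382))) (.node (.node (.node (.leaf 2068) (.leaf 13062)) (.node (.leaf 2345) (.leaf 10948))) (.node (.node (.leaf 11868) (.leaf 5529)) (.leaf 9574))))) (.node (.node (.node (.node (.node (.leaf 91) (.leaf 3663)) (.node (.leaf 12074) (.leaf 6497))) (.node (.node (.leaf 1253) (.leaf 10382)) (.leaf 10424))) (.node (.node (.node (.leaf 1528) (.leaf 4103)) (.node (.leaf 6755) (.leaf 10459))) (.node (.node (.leaf 4074) (.leaf 13240)) (.leaf 9140)))) (.node (.node (.node (.node (.leaf 261) (.leaf 10900)) (.node (.leaf 5934) (.leaf 10156))) (.node (.node (.leaf 3570) (.leaf 6772)) (.leaf 8486))) (.node (.node (.node (.leaf 2244) (.leaf 13090)) (.node (.leaf 12570) (.leaf 10905))) (.node (.node (.leaf 1779) (.leaf 9010)) (.leaf 8568))))))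
def dFin_8 : BT := .node (.node (.node (.node (.node (.node (.node (.leaf 11) (.leaf 8916)) (.node (.leaf 5064) (.leaf 9331))) (.node (.node (.leaf 2446) (.leaf 13120)) (.leaf 10204))) (.node (.node (.node (.leaf 1204) (.leaf 10778)) (.node (.leaf 12314) (.leaf 10886))) (.node (.node (.leaf 3310) (.leaf 6599)) (.leaf 10540)))) (.node (.node (.node (.node (.leaf 11180) (.leaf 9783)) (.node (.leaf 12126) (.leaf 9720))) (.node (.node (.leaf 2980) (.leaf 8518)) (.leaf 2633))) (.node (.node (.node (.leaf 445) (.leaf 7736)) (.node (.leaf 2331) (.leaf 10617))) (.node (.node (.leaf 11842) (.leaf 5507)) (.leaf 3103))))) (.node (.node (.node (.node (.node (.leaf 408) (.leaf 6823)) (.node (.leaf 12054) (.leaf 6940))) (.node (.node (.leaf 1710) (.leaf 9857)) (.leaf 6726))) (.node (.node (.node (.leaf 1850) (.leaf 13014)) (.node (.leaf 12398) (.leaf 10415))) (.node (.node (.leaf 1595) (.leaf 10412)) (.leaf 6047)))) (.node (.node (.node (.node (.leaf 1318) (.leaf 8850)) (.node (.leaf 12192) (.leaf 9971))) (.node (.node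 (.leaf 2866) (.leaf 10364)) (.leaf 2761))) (.node (.node (.node (.leaf 1173) (.leaf 6990)) (.node (.leaf 6682) (.leaf 10863))) (.node (.node (.leaf 11920) (.leaf 5747)) (.leaf 9801)))))) (.node (.node (.node (.node (.node (.node (.leaf 104) (.leaf 7174)) (.node (.leaf 12020) (.leaf 6425))) (.node (.node (.leaf 1978) (.leaf 9864)) (.leaf 8264))) (.node (.node (.node (.leaf 1676) (.leaf 8858)) (.node (.leaf 2179) (.leaf 10299))) (.node (.node (.leaf 1888) (.leaf 5293)) (.leaf 3056)))) (.node (.node (.node (.node (.leaf 191) (.leaf 6573)) (.node (.leaf 1981) (.leaf 9597))) (.node (.node (.leaf 3206) (.leaf 8896)) (.leaf 6490))) (.node (.node (.node (.leaf 11364) (.leaf 13066)) (.node (.leaf 6597) (.leaf 10749))) (.node (.node (.leaf 11890) (.leaf 6045)) (.leaf 9479))))) (.node (.node (.node (.node (.node (.leaf 11130) (.leaf 9718)) (.node (.leaf 12092) (.leaf 9455))) (.node (.node (.leaf 11532) (.leaf 4897)) (.leaf 9136))) (.node (.node (.node (.leaf 1930) (.leaf 8582)) (.node (.leaf 12464) (.leaf 10513))) (.node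 (.node (.leaf 4322) (.leaf 6986)) (.leaf 3047)))) (.node (.node (.node (.node (.leaf 1410) (.leaf 9180)) (.node (.leaf 2059) (.leaf 10097))) (.node (.node (.leaf 11680) (.leaf 9399)) (.leaf 6570))) (.node (.node (.node (.leaf 2340) (.leaf 7136)) (.node (.leaf 2457) (.leaf 10989))) (.node (.node (.leaf 4776) (.leaf 13314)) (.leaf 9637))))))
def dFin_9 : BT := .node dFin_7 dFin_8
def dFin_10 : BT := .node (.node (.node (.node (.node (.node (.node (.leaf 22) (.leaf 6753)) (.node (.leaf 5000) (.leaf 8774))) (.node (.node (.leaf 1139) (.leaf 9278)) (.leaf 10184))) (.node (.node (.node (.leaf 1592) (.leaf 6050)) (.node (.leaf 12294) (.leaf 10159))) (.node (.node (.leaf 1455) (.leaf 6595)) (.leaf 10510)))) (.node (.node (.node (.node (.leaf 664) (.leaf 9756)) (.node (.leaf 1996) (.leaf 7009))) (.node (.node (.leaf 1325) (.leaf 4947)) (.leaf 10454))) (.node (.node (.node (.leaf 1728) (.leaf 8328)) (.node (.leaf 2317) (.leaf 10613))) (.node (.node (.leaf 1667) (.leaf 9660)) (.leaf 10720))))) (.node (.node (.node (.node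 (.node (.leaf 364) (.leaf 3573)) (.node (.leaf 12048) (.leaf 9144))) (.node (.node (.leaf 1185) (.leaf 8870)) (.leaf 9486))) (.node (.node (.node (.leaf 367) (.leaf 9266)) (.node (.leaf 6492) (.leaf 10385))) (.node (.node (.leaf 4048) (.leaf 9490)) (.leaf 6247)))) (.node (.node (.node (.node (.leaf 1248) (.leaf 4146)) (.node (.leaf 12180) (.leaf 9969))) (.node (.node (.leaf 1405) (.leaf 5067)) (.leaf 9477))) (.node (.node (.node (.leaf 2188) (.leaf 8988)) (.node (.leaf 7612) (.leaf 10833))) (.node (.node (.leaf 2106) (.leaf 9648)) (.leaf 9640)))))) (.node (.node (.node (.node (.node (.node (.leaf 96) (.leaf 10646)) (.node (.leaf 12010) (.leaf 10564))) (.node (.node (.leaf 711) (.leaf 7130)) (.leaf 10294))) (.node (.node (.node (.leaf 1664) (.leaf 9994)) (.node (.leaf 2109) (.leaf 10326))) (.node (.node (.leaf 1539) (.leaf 9884)) (.leaf 10614)))) (.node (.node (.node (.node (.leaf 478) (.leaf 6577)) (.node (.leaf 5742) (.leaf 7321))) (.node (.node (.leaf 11570) (.leaf 9698)) (.leaf 7432))) (.node (.node (.node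 (.leaf 481) (.leaf 9100)) (.node (.leaf 6758) (.leaf 10693))) (.node (.node (.leaf 4600) (.leaf 10972)) (.leaf 9528))))) (.node (.node (.node (.node (.node (.leaf 166) (.leaf 9223)) (.node (.leaf 5398) (.leaf 9588))) (.node (.node (.leaf 1452) (.leaf 10860)) (.leaf 2575))) (.node (.node (.node (.leaf 411) (.leaf 4149)) (.node (.leaf 2247) (.leaf 10509))) (.node (.node (.leaf 4192) (.leaf 9319)) (.leaf 6792)))) (.node (.node (.node (.node (.leaf 1402) (.leaf 7416)) (.node (.leaf 12236) (.leaf 10059))) (.node (.node (.leaf 11672) (.leaf 5093)) (.leaf 9400))) (.node (.node (.node (.leaf 1171) (.leaf 9440)) (.node (.leaf 2449) (.leaf 10951))) (.node (.node (.leaf 4764) (.leaf 6661)) (.leaf 8660))))))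
def dFin_11 : BT := .node (.node (.node (.node (.node (.node (.node (.leaf 88) (.leaf 3313)) (.node (.leaf 5090) (.leaf 7106))) (.node (.node (.leaf 1166) (.leaf 9634)) (.leaf 12622))) (.node (.node (.node (.leaf 307) (.leaf 6602)) (.node (.leaf 6265) (.leaf 10229))) (.node (.node (.leaf 11718) (.leaf 10744)) (.leaf 6090)))) (.node (.node (.node (.node (.leaf 728) (.leaf 6082)) (.node (.leaf 12140) (.leaf 10798))) (.node (.node (.leaf 2990) (.leaf 6575)) (.leaf 10122))) (.node (.node (.node (.leaf 2056) (.leaf 8968)) (.node (.leaf 3876) (.leaf 10643))) (.node (.node (.leaf 11858) (.leaf 7514)) (.leaf 9534))))) (.node (.node (.node (.node (.node (.leaf 442) (.leaf 9767)) (.node (.leaf 1891) (.leaf 10492))) (.node (.node (.leaf 11514) (.leaf 13138)) (.leaf 9966))) (.node (.node (.node (.leaf 1858) (.leaf 13020)) (.node (.leaf 6900) (.leaf 10427))) (.node (.node (.leaf 4068) (.leaf 7562)) (.leaf 7408)))) (.node (.node (.node (.node (.leaf 1272) (.leaf 6256)) (.node (.leaf 12202) (.leaf 10027))) (.node (.node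 (.leaf 11646) (.leaf 9678)) (.leaf 9922))) (.node (.node (.node (.leaf 567) (.leaf 6885)) (.node (.leaf 6966) (.leaf 10895))) (.node (.node (.leaf 3860) (.leaf 5803)) (.leaf 3209)))))) (.node (.node (.node (.node (.node (.node (.leaf 258) (.leaf 9332)) (.node (.leaf 5222) (.leaf 6593))) (.node (.node (.leaf 1143) (.leaf 13130)) (.leaf 10234))) (.node (.node (.node (.leaf 1772) (.leaf 9260)) (.node (.leaf 2191) (.leaf 10339))) (.node (.node (.leaf 3044) (.leaf 9184)) (.leaf 3980)))) (.node (.node (.node (.node (.leaf 502) (.leaf 3845)) (.node (.leaf 5526) (.leaf 9047))) (.node (.node (.leaf 3246) (.leaf 13180)) (.leaf 6013))) (.node (.node (.node (.leaf 1153) (.leaf 9600)) (.node (.leaf 6250) (.leaf 10763))) (.node (.node (.leaf 2402) (.leaf 6756)) (.leaf 3151))))) (.node (.node (.node (.node (.node (.leaf 562) (.leaf 10072)) (.node (.leaf 5504) (.leaf 9817))) (.node (.node (.leaf 11536) (.leaf 10292)) (.leaf 6626))) (.node (.node (.node (.leaf 1938) (.leaf 8668)) (.node (.leaf 12484) (.leaf 10543))) (.node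 (.node (.leaf 4380) (.leaf 9254)) (.leaf 3059)))) (.node (.node (.node (.node (.leaf 11266) (.leaf 8118)) (.node (.leaf 12268) (.leaf 10105))) (.node (.node (.leaf 11686) (.leaf 7132)) (.leaf 12800))) (.node (.node (.node (.leaf 1111) (.leaf 6929)) (.node (.leaf 7127) (.leaf 11013))) (.node (.node (.leaf 4894) (.leaf 8450)) (.leaf 9371))))))
def dFin_12 : BT := .node dFin_10 dFin_11
def dFin_13 : BT := .node dFin_9 dFin_12
def dFin_14 : BT := .node dFin_6 dFin_13
def dFin_15 : BT := .node (.node (.node (.node (.node (.node (.node (.leaf 4) (.leaf 12886)) (.node (.leaf 11956) (.leaf 10714))) (.node (.node (.leaf 2426) (.leaf 6937)) (.leaf 8636))) (.node (.node (.node (.leaf 291) (.leaf 10822)) (.node (.leaf 5286) (.leaf 10133))) (.node (.node (.leaf 3720) (.leaf 9710)) (.leaf 2889)))) (.node (.node (.node (.node (.leaf 590) (.leaf 9470)) (.node (.leaf 12108) (.leaf 6919))) (.node (.node (.leaf 2942) (.leaf 9901)) (.leaf 12688))) (.node (.node (.node (.leaf 435) (.leaf 10776)) (.node (.leaf 7308) (.leaf 10582)))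 (.node (.node (.leaf 1651) (.leaf 10090)) (.leaf 3091))))) (.node (.node (.node (.node (.node (.leaf 288) (.leaf 6837)) (.node (.leaf 2496) (.leaf 9687))) (.node (.node (.leaf 2660) (.leaf 6896)) (.leaf 10290))) (.node (.node (.node (.leaf 1840) (.leaf 10180)) (.node (.leaf 6450) (.leaf 10357))) (.node (.node (.leaf 1581) (.leaf 7122)) (.leaf 9559)))) (.node (.node (.node (.node (.leaf 11240) (.leaf 3856)) (.node (.leaf 2015) (.leaf 9939))) (.node (.node (.leaf 2740) (.leaf 9514)) (.leaf 9138))) (.node (.node (.node (.leaf 549) (.leaf 4846)) (.node (.leaf 2393) (.leaf 10793))) (.node (.node (.leaf 11910) (.leaf 6834)) (.leaf 9469)))))) (.node (.node (.node (.node (.node (.node (.leaf 35) (.leaf 3353)) (.node (.leaf 5070) (.leaf 6379))) (.node (.node (.leaf 2516) (.leaf 9064)) (.leaf 10222))) (.node (.node (.node (.leaf 1548) (.leaf 4062)) (.node (.leaf 2101) (.leaf 10259))) (.node (.node (.leaf 1519) (.leaf 13214)) (.leaf 2945)))) (.node (.node (.node (.node (.leaf 716) (.leaf 6588)) (.node (.leaf 4142) (.leaf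 7311))) (.node (.node (.leaf 3088) (.leaf 10746)) (.leaf 9765))) (.node (.node (.node (.leaf 1360) (.leaf 10260)) (.node (.leaf 9298) (.leaf 10681))) (.node (.node (.leaf 4548) (.leaf 7494)) (.leaf 5044))))) (.node (.node (.node (.node (.node (.leaf 414) (.leaf 9742)) (.node (.leaf 12070) (.leaf 9175))) (.node (.node (.leaf 2816) (.leaf 4835)) (.leaf 8726))) (.node (.node (.node (.leaf 11328) (.leaf 4119)) (.node (.leaf 2229) (.leaf 10504))) (.node (.node (.leaf 1620) (.leaf 7442)) (.leaf 3029)))) (.node (.node (.node (.node (.leaf 1436) (.leaf 10892)) (.node (.leaf 2049) (.leaf 10154))) (.node (.node (.leaf 3554) (.leaf 6618)) (.leaf 4760))) (.node (.node (.node (.leaf 2170) (.leaf 6926)) (.node (.leaf 9845) (.leaf 10929))) (.node (.node (.leaf 11928) (.leaf 5845)) (.leaf 8560))))))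
def dFin_16 : BT := .node (.node (.node (.node (.node (.node (.node (.leaf 132) (.leaf 3289)) (.node (.leaf 1843) (.leaf 13334))) (.node (.node (.leaf 1113) (.leaf 7592)) (.leaf 2485))) (.node (.node (.node (.leaf 1642) (.leaf 12990)) (.node (.leaf 2102) (.leaf 10926))) (.node (.node (.leaf 2858) (.leaf 6065)) (.leaf 9688)))) (.node (.node (.node (.node (.leaf 135) (.leaf 3731)) (.node (.leaf 12122) (.leaf 7269))) (.node (.node (.leaf 1341) (.leaf 13150)) (.leaf 4126))) (.node (.node (.node (.leaf 2092) (.leaf 6899)) (.node (.leaf 2327) (.leaf 10640))) (.node (.node (.leaf 11834) (.leaf 6820)) (.leaf 9155))))) (.node (.node (.node (.node (.node (.leaf 81) (.leaf 10852)) (.node (.leaf 5186) (.leaf 6481))) (.node (.node (.leaf 1199) (.leaf 4803)) (.leaf 8750))) (.node (.node (.node (.leaf 1196) (.leaf 4097)) (.node (.leaf 6524) (.leaf 10407))) (.node (.node (.leaf 4094) (.leaf 10404)) (.leaf 6062)))) (.node (.node (.node (.node (.leaf 894) (.leaf 3888)) (.node (.leaf 5842) (.leaf 9990))) (.node (.node (.leaf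 3260) (.leaf 5073)) (.leaf 9834))) (.node (.node (.node (.leaf 2226) (.leaf 6819)) (.node (.leaf 9859) (.leaf 10855))) (.node (.node (.leaf 3974) (.leaf 10074)) (.leaf 9807)))))) (.node (.node (.node (.node (.node (.node (.leaf 58) (.leaf 3557)) (.node (.leaf 12016) (.leaf 7274))) (.node (.node (.leaf 719) (.leaf 4735)) (.leaf 12640))) (.node (.node (.node (.leaf 1578) (.leaf 9051)) (.node (.leaf 2173) (.leaf 10313))) (.node (.node (.leaf 1551) (.leaf 9713)) (.leaf 2973)))) (.node (.node (.node (.node (.leaf 186) (.leaf 9342)) (.node (.leaf 12162) (.leaf 10940))) (.node (.node (.leaf 3186) (.leaf 8888)) (.leaf 2663))) (.node (.node (.node (.leaf 2012) (.leaf 9076)) (.node (.leaf 2400) (.leaf 10729))) (.node (.node (.leaf 1703) (.leaf 9042)) (.leaf 3135))))) (.node (.node (.node (.node (.node (.leaf 432) (.leaf 3691)) (.node (.leaf 5436) (.leaf 6527))) (.node (.node (.leaf 1287) (.leaf 9873)) (.leaf 7624))) (.node (.node (.node (.leaf 417) (.leaf 4183)) (.node (.leaf 2275) (.leaf 10539))) (.node (.node (.leaf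 1652) (.leaf 9920)) (.leaf 9172)))) (.node (.node (.node (.node (.leaf 1284) (.leaf 3939)) (.node (.leaf 12246) (.leaf 10079))) (.node (.node (.leaf 1439) (.leaf 5149)) (.leaf 2938))) (.node (.node (.node (.leaf 1119) (.leaf 13092)) (.node (.leaf 9853) (.leaf 10969))) (.node (.node (.leaf 1812) (.leaf 13310)) (.leaf 4714))))))
def dFin_17 : BT := .node dFin_15 dFin_16
def dFin_18 : BT := .node (.node (.node (.node (.node (.node (.node (.leaf 78) (.leaf 3263)) (.node (.leaf 4980) (.leaf 9836))) (.node (.node (.leaf 2324) (.leaf 4647)) (.leaf 3768))) (.node (.node (.node (.leaf 1115) (.leaf 9052)) (.node (.leaf 12290) (.leaf 10179))) (.node (.node (.leaf 3728) (.leaf 5205)) (.leaf 10022)))) (.node (.node (.node (.node (.leaf 11156) (.leaf 3723)) (.node (.leaf 12116) (.leaf 9218))) (.node (.node (.leaf 3026) (.leaf 8710)) (.leaf 2621))) (.node (.node (.node (.leaf 2046) (.leaf 13042)) (.node (.leaf 2311) (.leaf 10589))) (.node (.node (.leaf 4390) (.leaf 9826)) (.leaf 9560))))) (.node (.node (.node (.node (.node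 (.leaf 11074) (.leaf 8608)) (.node (.leaf 1881) (.leaf 6453))) (.node (.node (.leaf 11506) (.leaf 9063)) (.leaf 8252))) (.node (.node (.node (.leaf 1878) (.leaf 4129)) (.node (.leaf 6478) (.leaf 10377))) (.node (.node (.leaf 4034) (.leaf 7466)) (.leaf 3692)))) (.node (.node (.node (.node (.leaf 249) (.leaf 3872)) (.node (.leaf 12176) (.leaf 9947))) (.node (.node (.leaf 11622) (.leaf 9612)) (.leaf 2743))) (.node (.node (.node (.leaf 906) (.leaf 4551)) (.node (.leaf 7608) (.leaf 10825))) (.node (.node (.leaf 2970) (.leaf 10536)) (.leaf 3189)))))) (.node (.node (.node (.node (.node (.node (.leaf 46) (.leaf 10678)) (.node (.leaf 5078) (.leaf 6395))) (.node (.node (.leaf 11476) (.leaf 10448)) (.leaf 6587))) (.node (.node (.node (.leaf 1564) (.leaf 9028)) (.node (.leaf 12348) (.leaf 10269))) (.node (.node (.leaf 3936) (.leaf 5277)) (.leaf 10586)))) (.node (.node (.node (.node (.leaf 162) (.leaf 3771)) (.node (.leaf 12156) (.leaf 13374))) (.node (.node (.leaf 3132) (.leaf 8626)) (.leaf 2674))) (.node (.node (.node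 (.leaf 1992) (.leaf 4393)) (.node (.leaf 3704) (.leaf 10713))) (.node (.node (.leaf 11876) (.leaf 10990)) (.leaf 8506))))) (.node (.node (.node (.node (.node (.leaf 422) (.leaf 5146)) (.node (.leaf 12080) (.leaf 6938))) (.node (.node (.leaf 1267) (.leaf 7125)) (.leaf 8046))) (.node (.node (.node (.leaf 11336) (.leaf 9840)) (.node (.leaf 12448) (.leaf 10489))) (.node (.node (.leaf 4180) (.leaf 10374)) (.leaf 9790)))) (.node (.node (.node (.node (.leaf 1264) (.leaf 3935)) (.node (.leaf 12232) (.leaf 10057))) (.node (.node (.leaf 3644) (.leaf 6802)) (.leaf 2819))) (.node (.node (.node (.leaf 593) (.leaf 9432)) (.node (.leaf 9075) (.leaf 10943))) (.node (.node (.leaf 1792) (.leaf 9784)) (.leaf 3227))))))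
def dFin_19 : BT := .node (.node (.node (.node (.node (.node (.node (.leaf 18) (.leaf 12904)) (.node (.leaf 3932) (.leaf 13338))) (.node (.node (.leaf 2482) (.leaf 4713)) (.leaf 2493))) (.node (.node (.node (.leaf 1700) (.leaf 4037)) (.node (.leaf 2095) (.leaf 10225))) (.node (.node (.leaf 2886) (.leaf 8794)) (.leaf 2941)))) (.node (.node (.node (.node (.leaf 11192) (.leaf 3743)) (.node (.leaf 12132) (.leaf 13368))) (.node (.node (.leaf 1363) (.leaf 4983)) (.leaf 10334))) (.node (.node (.node (.leaf 1338) (.leaf 13054)) (.node (.leaf 7418) (.leaf 10664))) (.node (.node (.leaf 11854) (.leaf 7510)) (.leaf 8498))))) (.node (.node (.node (.node (.node (.leaf 11104) (.leaf 3647)) (.node (.leaf 5296) (.leaf 9550))) (.node (.node (.leaf 1227) (.leaf 10790)) (.leaf 9964))) (.node (.node (.node (.leaf 1224) (.leaf 4111)) (.node (.leaf 4506) (.leaf 10451))) (.node (.node (.leaf 1604) (.leaf 7558)) (.leaf 6406)))) (.node (.node (.node (.node (.leaf 1392) (.leaf 10358)) (.node (.leaf 3286) (.leaf 10003))) (.node (.node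 (.leaf 3350) (.leaf 5081)) (.leaf 8342))) (.node (.node (.node (.leaf 2272) (.leaf 13076)) (.node (.leaf 2429) (.leaf 10881))) (.node (.node (.leaf 4732) (.leaf 13288)) (.leaf 10102)))))) (.node (.node (.node (.node (.node (.node (.leaf 246) (.leaf 9345)) (.node (.leaf 5202) (.leaf 10310))) (.node (.node (.leaf 2618) (.leaf 4751)) (.leaf 2519))) (.node (.node (.node (.leaf 993) (.leaf 13004)) (.node (.leaf 6376) (.leaf 10321))) (.node (.node (.leaf 1567) (.leaf 5299)) (.leaf 9549)))) (.node (.node (.node (.node (.leaf 212) (.leaf 9846)) (.node (.leaf 1995) (.leaf 7421))) (.node (.node (.leaf 1395) (.leaf 5037)) (.leaf 2671))) (.node (.node (.node (.leaf 1096) (.leaf 4505)) (.node (.leaf 2381) (.leaf 10755))) (.node (.node (.leaf 4644) (.leaf 11002)) (.leaf 9762))))) (.node (.node (.node (.node (.node (.leaf 546) (.leaf 3707)) (.node (.leaf 3224) (.leaf 9823))) (.node (.node (.leaf 1305) (.leaf 8284)) (.leaf 9677))) (.node (.node (.node (.leaf 425) (.leaf 9882)) (.node (.leaf 12480) (.leaf 10558))) (.node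 (.node (.leaf 1645) (.leaf 5439)) (.leaf 9156)))) (.node (.node (.node (.node (.leaf 1302) (.leaf 3977)) (.node (.leaf 12264) (.leaf 10121))) (.node (.node (.leaf 3740) (.leaf 5177)) (.leaf 2861))) (.node (.node (.node (.leaf 2378) (.leaf 4804)) (.node (.leaf 12592) (.leaf 11005))) (.node (.node (.leaf 11944) (.leaf 8446)) (.leaf 9221))))))
def dFin_20 : BT := .node dFin_18 dFin_19
def dFin_21 : BT := .node dFin_17 dFin_20
def dFin_22 : BT := .node (.node (.node (.node (.node (.node (.node (.leaf 40) (.leaf 6674)) (.node (.leaf 2926) (.leaf 6983))) (.node (.node (.leaf 11438) (.leaf 6923)) (.leaf 3550))) (.node (.node (.node (.leaf 1558) (.leaf 4704)) (.node (.leaf 2356) (.leaf 10145))) (.node (.node (.leaf 1449) (.leaf 6980)) (.leaf 2899)))) (.node (.node (.node (.node (.leaf 618) (.leaf 9458)) (.node (.leaf 5524) (.leaf 10954))) (.node (.node (.leaf 1321) (.leaf 10550)) (.leaf 2615))) (.node (.node (.node (.leaf 2018) (.leaf 4215)) (.node (.leaf 2291) (.leaf 10567))) (.node (.node (.leaf 11806) (.leaf 5473))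 (.leaf 5040))))) (.node (.node (.node (.node (.node (.leaf 316) (.leaf 6825)) (.node (.leaf 3024) (.leaf 6447))) (.node (.node (.leaf 11498) (.leaf 4769)) (.leaf 12650))) (.node (.node (.node (.leaf 1322) (.leaf 4810)) (.node (.leaf 2205) (.leaf 10498))) (.node (.node (.leaf 3984) (.leaf 9643)) (.leaf 2997)))) (.node (.node (.node (.node (.leaf 1088) (.leaf 4054)) (.node (.leaf 2021) (.leaf 10110))) (.node (.node (.leaf 3284) (.leaf 9522)) (.leaf 2725))) (.node (.node (.node (.leaf 2162) (.leaf 4529)) (.node (.leaf 2397) (.leaf 10803))) (.node (.node (.leaf 2062) (.leaf 5643)) (.leaf 3167)))))) (.node (.node (.node (.node (.node (.node (.leaf 180) (.leaf 6238)) (.node (.leaf 2984) (.leaf 6383))) (.node (.node (.leaf 2202) (.leaf 4723)) (.leaf 6422))) (.node (.node (.node (.leaf 1720) (.leaf 4053)) (.node (.leaf 2398) (.leaf 10237))) (.node (.node (.leaf 3864) (.leaf 10686)) (.leaf 2947)))) (.node (.node (.node (.node (.leaf 11214) (.leaf 10306)) (.node (.leaf 4530) (.leaf 7315))) (.node (.node (.leaf 3110)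 (.leaf 6094)) (.leaf 12730))) (.node (.node (.node (.leaf 1234) (.leaf 7640)) (.node (.leaf 2460) (.leaf 10689))) (.node (.node (.leaf 2604) (.leaf 5535)) (.leaf 3115))))) (.node (.node (.node (.node (.node (.leaf 476) (.leaf 9537)) (.node (.leaf 5362) (.leaf 9179))) (.node (.node (.leaf 11524) (.leaf 4839)) (.leaf 10014))) (.node (.node (.node (.leaf 1936) (.leaf 4109)) (.node (.leaf 12434) (.leaf 10469))) (.node (.node (.leaf 1820) (.leaf 10980)) (.leaf 3031)))) (.node (.node (.node (.node (.leaf 1444) (.leaf 10194)) (.node (.leaf 12224) (.leaf 10041))) (.node (.node (.leaf 3574) (.leaf 10626)) (.leaf 8488))) (.node (.node (.node (.leaf 1020) (.leaf 7404)) (.node (.leaf 12576) (.leaf 10915))) (.node (.node (.leaf 1783) (.leaf 9016)) (.leaf 8570))))))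
def dFin_23 : BT := .node (.node (.node (.node (.node (.node (.node (.leaf 144) (.leaf 3295)) (.node (.leaf 2948) (.leaf 9339))) (.node (.node (.leaf 912) (.leaf 13122)) (.leaf 6384))) (.node (.node (.node (.leaf 1662) (.leaf 4730)) (.node (.leaf 2376) (.leaf 10193))) (.node (.node (.leaf 1479) (.leaf 6055)) (.leaf 2929)))) (.node (.node (.node (.node (.leaf 714) (.leaf 9753)) (.node (.leaf 5570) (.leaf 10214))) (.node (.node (.leaf 1347) (.leaf 13158)) (.leaf 2637))) (.node (.node (.node (.leaf 1134) (.leaf 7740)) (.node (.leaf 2335) (.leaf 10625))) (.node (.node (.leaf 11848) (.leaf 6826)) (.leaf 9161))))) (.node (.node (.node (.node (.node (.leaf 420) (.leaf 3587)) (.node (.leaf 3040) (.leaf 6952))) (.node (.node (.leaf 1207) (.leaf 4797)) (.leaf 10394))) (.node (.node (.node (.leaf 1348) (.leaf 13016)) (.node (.leaf 12404) (.leaf 10423))) (.node (.node (.leaf 1780) (.leaf 5367)) (.leaf 3017)))) (.node (.node (.node (.node (.leaf 11248) (.leaf 9980)) (.node (.leaf 2722) (.leaf 9975))) (.node (.node (.leaf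 1413) (.leaf 9595)) (.leaf 2765))) (.node (.node (.node (.leaf 2242) (.leaf 5640)) (.node (.leaf 12558) (.leaf 10873))) (.node (.node (.leaf 1753) (.leaf 13284)) (.leaf 9799)))))) (.node (.node (.node (.node (.node (.node (.leaf 218) (.leaf 10842)) (.node (.leaf 3008) (.leaf 6421))) (.node (.node (.leaf 1108) (.leaf 4737)) (.leaf 6448))) (.node (.node (.node (.leaf 1750) (.leaf 4780)) (.node (.leaf 2183) (.leaf 10305))) (.node (.node (.leaf 2966) (.leaf 10702)) (.leaf 2965)))) (.node (.node (.node (.node (.leaf 11226) (.leaf 9336)) (.node (.leaf 1985) (.leaf 7403))) (.node (.node (.leaf 3218) (.leaf 8902)) (.leaf 12752))) (.node (.node (.node (.leaf 1048) (.leaf 9034)) (.node (.leaf 2375) (.leaf 10737))) (.node (.node (.leaf 2626) (.leaf 13268)) (.leaf 9483))))) (.node (.node (.node (.node (.node (.leaf 506) (.leaf 12956)) (.node (.leaf 5458) (.leaf 9451))) (.node (.node (.leaf 1293) (.leaf 10064)) (.leaf 2595))) (.node (.node (.node (.leaf 1990) (.leaf 10768)) (.node (.leaf 7306) (.leaf 10523))) (.node (.node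 (.leaf 11780) (.leaf 7003)) (.leaf 3049)))) (.node (.node (.node (.node (.leaf 1028) (.leaf 9176)) (.node (.leaf 2061) (.leaf 10087))) (.node (.node (.leaf 3718) (.leaf 5141)) (.leaf 4990))) (.node (.node (.node (.leaf 1175) (.leaf 13100)) (.node (.leaf 2463) (.leaf 10979))) (.node (.node (.leaf 1823) (.leaf 6863)) (.leaf 10812))))))
def dFin_24 : BT := .node dFin_22 dFin_23
def dFin_25 : BT := .node (.node (.node (.node (.node (.node (.node (.leaf 94) (.leaf 3265)) (.node (.leaf 2936) (.leaf 8778))) (.node (.node (.leaf 11452) (.leaf 4651)) (.leaf 3756))) (.node (.node (.node (.leaf 11274) (.leaf 4720)) (.node (.leaf 12300) (.leaf 10804))) (.node (.node (.leaf 11708) (.leaf 6056)) (.leaf 2919)))) (.node (.node (.node (.node (.leaf 11166) (.leaf 3725)) (.node (.leaf 1941) (.leaf 13362))) (.node (.node (.leaf 1329) (.leaf 10574)) (.leaf 2625))) (.node (.node (.node (.leaf 1182) (.leaf 13048)) (.node (.leaf 4106) (.leaf 10599))) (.node (.node (.leaf 1671) (.leaf 9664)) (.leaf 9566))))) (.node (.node (.node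 (.node (.node (.leaf 11082) (.leaf 10438)) (.node (.leaf 3032) (.leaf 6457))) (.node (.node (.leaf 1181) (.leaf 4783)) (.leaf 10366))) (.node (.node (.node (.leaf 1326) (.leaf 4652)) (.node (.leaf 6500) (.leaf 10393))) (.node (.node (.leaf 1776) (.leaf 10992)) (.leaf 3007)))) (.node (.node (.node (.node (.leaf 1276) (.leaf 3879)) (.node (.leaf 12184) (.leaf 10146))) (.node (.node (.leaf 3308) (.leaf 9624)) (.leaf 2735))) (.node (.node (.node (.leaf 1036) (.leaf 8996)) (.node (.leaf 12550) (.leaf 10841))) (.node (.node (.leaf 1735) (.leaf 9644)) (.leaf 3195)))))) (.node (.node (.node (.node (.node (.node (.leaf 11050) (.leaf 3553)) (.node (.leaf 2994) (.leaf 6399))) (.node (.node (.leaf 2570) (.leaf 4729)) (.leaf 6432))) (.node (.node (.node (.leaf 11298) (.leaf 4770)) (.node (.leaf 12358) (.leaf 10279))) (.node (.node (.leaf 3050) (.leaf 5281)) (.leaf 2955)))) (.node (.node (.node (.node (.leaf 11218) (.leaf 3777)) (.node (.leaf 4496) (.leaf 10738))) (.node (.node (.leaf 3160) (.leaf 8630)) (.leaf 12744)))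 (.node (.node (.node (.leaf 1052) (.leaf 4397)) (.node (.leaf 2355) (.leaf 10697))) (.node (.node (.leaf 2616) (.leaf 5585)) (.leaf 12848))))) (.node (.node (.node (.node (.node (.leaf 11126) (.leaf 3671)) (.node (.leaf 5410) (.leaf 6517))) (.node (.node (.leaf 2850) (.leaf 10524)) (.leaf 2581))) (.node (.node (.node (.leaf 1976) (.leaf 4151)) (.node (.leaf 2251) (.leaf 10497))) (.node (.node (.leaf 4200) (.leaf 5421)) (.leaf 3039)))) (.node (.node (.node (.node (.leaf 1462) (.leaf 10600)) (.node (.leaf 2766) (.leaf 10063))) (.node (.node (.leaf 3664) (.leaf 10658)) (.leaf 9769))) (.node (.node (.node (.leaf 2318) (.leaf 9452)) (.node (.leaf 2453) (.leaf 10953))) (.node (.node (.leaf 1799) (.leaf 13300)) (.leaf 3229))))))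
def dFin_26 : BT := .node (.node (.node (.node (.node (.node (.node (.leaf 156) (.leaf 3319)) (.node (.leaf 2956) (.leaf 6237))) (.node (.node (.leaf 2196) (.leaf 4703)) (.leaf 6400))) (.node (.node (.node (.leaf 1148) (.leaf 4738)) (.node (.leaf 2386) (.leaf 10213))) (.node (.node (.leaf 1501) (.leaf 6093)) (.leaf 2935)))) (.node (.node (.node (.node (.leaf 11198) (.leaf 3759)) (.node (.leaf 5616) (.leaf 10332))) (.node (.node (.leaf 1373) (.leaf 4989)) (.leaf 12724))) (.node (.node (.node (.leaf 1208) (.leaf 8974)) (.node (.leaf 2454) (.leaf 10649))) (.node (.node (.leaf 2596) (.leaf 7516)) (.leaf 10246))))) (.node (.node (.node (.node (.node (.leaf 11108) (.leaf 5142)) (.node (.leaf 3062) (.leaf 9576))) (.node (.node (.leaf 1237) (.leaf 4813)) (.leaf 10042))) (.node (.node (.node (.leaf 1370) (.leaf 4840)) (.node (.leaf 12422) (.leaf 10437))) (.node (.node (.leaf 1800) (.leaf 7564)) (.leaf 3023)))) (.node (.node (.node (.node (.leaf 1408) (.leaf 10470)) (.node (.leaf 2736) (.leaf 10013))) (.node (.node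 (.leaf 11654) (.leaf 9565)) (.leaf 12784))) (.node (.node (.node (.leaf 2284) (.leaf 13084)) (.node (.leaf 12564) (.leaf 10916))) (.node (.node (.leaf 1775) (.leaf 6864)) (.leaf 7004)))))) (.node (.node (.node (.node (.node (.node (.leaf 268) (.leaf 12928)) (.node (.leaf 3014) (.leaf 6435))) (.node (.node (.leaf 1151) (.leaf 13132)) (.leaf 6458))) (.node (.node (.node (.leaf 952) (.leaf 4798)) (.node (.leaf 2195) (.leaf 10331))) (.node (.node (.leaf 1571) (.leaf 9162)) (.leaf 2983)))) (.node (.node (.node (.node (.leaf 11232) (.leaf 4152)) (.node (.leaf 2003) (.leaf 9037))) (.node (.node (.leaf 3258) (.leaf 5039)) (.leaf 12766))) (.node (.node (.node (.leaf 1100) (.leaf 4495)) (.node (.leaf 2385) (.leaf 10767))) (.node (.node (.leaf 2638) (.leaf 5625)) (.leaf 9770))))) (.node (.node (.node (.node (.node (.leaf 570) (.leaf 5282)) (.node (.leaf 3196) (.leaf 10280))) (.node (.node (.leaf 2896) (.leaf 8294)) (.leaf 2607))) (.node (.node (.node (.leaf 1104) (.leaf 8672)) (.node (.leaf 12488) (.leaf 10549))) (.node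 (.node (.leaf 4388) (.leaf 10088)) (.leaf 3065)))) (.node (.node (.node (.node (.leaf 1498) (.leaf 3987)) (.node (.leaf 12272) (.leaf 10113))) (.node (.node (.leaf 3764) (.leaf 9796)) (.leaf 2873))) (.node (.node (.node (.leaf 1137) (.leaf 13110)) (.node (.leaf 12602) (.leaf 11023))) (.node (.node (.leaf 2920) (.leaf 13324)) (.leaf 6748))))))
def dFin_27 : BT := .node dFin_25 dFin_26
def dFin_28 : BT := .node dFin_24 dFin_27
def dFin_29 : BT := .node dFin_21 dFin_28
def dFin_30 : BT := .node dFin_14 dFin_29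
def dFin_31 : BT := .node (.node (.node (.node (.node (.node (.node (.leaf 2) (.leaf 6668)) (.node (.leaf 11952) (.leaf 9116))) (.node (.node (.leaf 11430) (.leaf 6933)) (.leaf 3580))) (.node (.node (.node (.leaf 1512) (.leaf 4011)) (.node (.leaf 3595) (.leaf 10137))) (.node (.node (.leaf 3666) (.leaf 13204)) (.leaf 2885)))) (.node (.node (.node (.node (.leaf 11144) (.leaf 9466)) (.node (.leaf 12104) (.leaf 13354))) (.node (.node (.leaf 2930) (.leaf 9898)) (.leaf 2611))) (.node (.node (.node (.leaf 1298) (.leaf 4207)) (.node (.leaf 12498) (.leaf 10581))) (.node (.node (.leaf 11800) (.leaf 5465)) (.leaf 3400))))) (.node (.node (.node (.node (.node (.leaf 11064) (.leaf 6832)) (.node (.leaf 1877) (.leaf 6443))) (.node (.node (.leaf 2654) (.leaf 10514)) (.leaf 3610))) (.node (.node (.node (.leaf 1836) (.leaf 4140)) (.node (.leaf 6440) (.leaf 10353))) (.node (.node (.leaf 3884) (.leaf 5352)) (.leaf 12818)))) (.node (.node (.node (.node (.leaf 245) (.leaf 3855)) (.node (.leaf 2882) (.leaf 9937))) (.node (.node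 (.leaf 11604) (.leaf 9510)) (.leaf 10186))) (.node (.node (.node (.leaf 1156) (.leaf 4527)) (.node (.leaf 3422) (.leaf 10789))) (.node (.node (.leaf 11906) (.leaf 13276)) (.leaf 12860)))))) (.node (.node (.node (.node (.node (.node (.leaf 33) (.leaf 3514)) (.node (.leaf 5006) (.leaf 6488))) (.node (.node (.leaf 2510) (.leaf 5416)) (.leaf 9465))) (.node (.node (.node (.leaf 1212) (.leaf 4061)) (.node (.leaf 12330) (.leaf 10255))) (.node (.node (.leaf 1515) (.leaf 5261)) (.leaf 3399)))) (.node (.node (.node (.node (.leaf 11204) (.leaf 10874)) (.node (.leaf 1961) (.leaf 10218))) (.node (.node (.leaf 11552) (.leaf 13170)) (.leaf 7020))) (.node (.node (.node (.leaf 1488) (.leaf 6269)) (.node (.leaf 9294) (.leaf 10677))) (.node (.node (.leaf 3621) (.leaf 7490)) (.leaf 4994))))) (.node (.node (.node (.node (.node (.leaf 370) (.leaf 9738)) (.node (.leaf 12066) (.leaf 9171))) (.node (.node (.leaf 2808) (.leaf 4837)) (.leaf 12670))) (.node (.node (.node (.leaf 1916) (.leaf 4115)) (.node (.leaf 12428) (.leaf 10481)))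 (.node (.node (.leaf 1618) (.leaf 7438)) (.leaf 3702)))) (.node (.node (.node (.node (.leaf 1432) (.leaf 3917)) (.node (.leaf 12212) (.leaf 10035))) (.node (.node (.leaf 3542) (.leaf 6614)) (.leaf 2811))) (.node (.node (.node (.leaf 1012) (.leaf 4595)) (.node (.leaf 9229) (.leaf 10925))) (.node (.node (.leaf 4654) (.leaf 9006)) (.leaf 3215))))))
def dFin_32 : BT := .node (.node (.node (.node (.node (.node (.node (.leaf 126) (.leaf 3474)) (.node (.leaf 5032) (.leaf 10256))) (.node (.node (.leaf 1147) (.leaf 7588)) (.leaf 6934))) (.node (.node (.node (.leaf 1638) (.leaf 4023)) (.node (.leaf 2091) (.leaf 10203))) (.node (.node (.leaf 1469) (.leaf 10732)) (.leaf 3509)))) (.node (.node (.node (.node (.leaf 11172) (.leaf 10710)) (.node (.leaf 3615) (.leaf 7267))) (.node (.node (.leaf 1337) (.leaf 13146)) (.leaf 7398))) (.node (.node (.node (.leaf 2088) (.leaf 7728)) (.node (.leaf 4116) (.leaf 10639))) (.node (.node (.leaf 11830) (.leaf 6813)) (.leaf 9380))))) (.node (.node (.node (.node (.node (.leaf 11088) (.leaf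 3583)) (.node (.leaf 3602) (.leaf 6483))) (.node (.node (.leaf 1195) (.leaf 4844)) (.leaf 8746))) (.node (.node (.node (.leaf 373) (.leaf 10936)) (.node (.leaf 12390) (.leaf 10403))) (.node (.node (.leaf 4090) (.leaf 10428)) (.leaf 3622)))) (.node (.node (.node (.node (.leaf 890) (.leaf 3887)) (.node (.leaf 3914) (.leaf 9989))) (.node (.node (.leaf 3220) (.leaf 6266)) (.leaf 4706))) (.node (.node (.node (.leaf 2220) (.leaf 10578)) (.node (.leaf 6438) (.leaf 10851))) (.node (.node (.leaf 1746) (.leaf 6817)) (.leaf 9805)))))) (.node (.node (.node (.node (.node (.node (.leaf 56) (.leaf 9383)) (.node (.leaf 5134) (.leaf 13344))) (.node (.node (.leaf 2166) (.leaf 10400)) (.leaf 2513))) (.node (.node (.node (.leaf 1214) (.leaf 10288)) (.node (.leaf 2169) (.leaf 10906))) (.node (.node (.leaf 3852) (.leaf 13220)) (.leaf 4058)))) (.node (.node (.node (.node (.leaf 184) (.leaf 3783)) (.node (.leaf 4532) (.leaf 7395))) (.node (.node (.leaf 1391) (.leaf 5017)) (.leaf 9867))) (.node (.node (.node (.leaf 1356) (.leaf 10962))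 (.node (.leaf 2371) (.leaf 10727))) (.node (.node (.leaf 4620) (.leaf 5595)) (.leaf 8470))))) (.node (.node (.node (.node (.node (.leaf 390) (.leaf 3689)) (.node (.leaf 1919) (.leaf 9119))) (.node (.node (.leaf 1283) (.leaf 9897)) (.leaf 3485))) (.node (.node (.node (.leaf 1260) (.leaf 9168)) (.node (.leaf 7264) (.leaf 10535))) (.node (.node (.leaf 1641) (.leaf 6617)) (.leaf 10608)))) (.node (.node (.node (.node (.leaf 1024) (.leaf 10774)) (.node (.leaf 5910) (.leaf 10152))) (.node (.node (.leaf 3686) (.leaf 5137)) (.leaf 3372))) (.node (.node (.node (.leaf 1145) (.leaf 4623)) (.node (.leaf 9851) (.leaf 10965))) (.node (.node (.leaf 1810) (.leaf 13306)) (.leaf 9226))))))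
def dFin_33 : BT := .node dFin_31 dFin_32
def dFin_34 : BT := .node (.node (.node (.node (.node (.node (.node (.leaf 74) (.leaf 12890)) (.node (.leaf 1839) (.leaf 10818))) (.node (.node (.leaf 11444) (.leaf 4649)) (.leaf 2479))) (.node (.node (.node (.leaf 1141) (.leaf 4017)) (.node (.leaf 12286) (.leaf 10175))) (.node (.node (.leaf 11702) (.leaf 9675)) (.leaf 3458)))) (.node (.node (.node (.node (.leaf 129) (.leaf 12962)) (.node (.leaf 5462) (.leaf 7019))) (.node (.node (.leaf 3018) (.leaf 8706)) (.leaf 12696))) (.node (.node (.node (.leaf 2042) (.leaf 13038)) (.node (.leaf 2307) (.leaf 10591))) (.node (.node (.leaf 11816) (.leaf 10370)) (.leaf 9556))))) (.node (.node (.node (.node (.node (.leaf 77) (.leaf 8604)) (.node (.leaf 5272) (.leaf 7296))) (.node (.node (.leaf 2728) (.leaf 9814)) (.leaf 3613))) (.node (.node (.node (.leaf 1874) (.leaf 4093)) (.node (.leaf 3364) (.leaf 10373))) (.node (.node (.leaf 4020) (.leaf 5355)) (.leaf 3650)))) (.node (.node (.node (.node (.leaf 1162) (.leaf 3871)) (.node (.leaf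 3479) (.leaf 9951))) (.node (.node (.leaf 3212) (.leaf 9608)) (.leaf 2731))) (.node (.node (.node (.leaf 902) (.leaf 8984)) (.node (.leaf 9996) (.leaf 10821))) (.node (.node (.leaf 1726) (.leaf 10998)) (.leaf 12872)))))) (.node (.node (.node (.node (.node (.node (.leaf 44) (.leaf 3545)) (.node (.leaf 5014) (.leaf 6393))) (.node (.node (.leaf 2546) (.leaf 4727)) (.leaf 12634))) (.node (.node (.node (.leaf 11290) (.leaf 7118)) (.node (.leaf 12344) (.leaf 10273))) (.node (.node (.leaf 3918) (.leaf 5275)) (.leaf 3409)))) (.node (.node (.node (.node (.leaf 160) (.leaf 6506)) (.node (.leaf 3482) (.leaf 9598))) (.node (.node (.leaf 11562) (.leaf 5009)) (.leaf 2657))) (.node (.node (.node (.leaf 1334) (.leaf 9860)) (.node (.leaf 6404) (.leaf 10709))) (.node (.node (.leaf 1699) (.leaf 5577)) (.leaf 8180))))) (.node (.node (.node (.node (.node (.leaf 11118) (.leaf 3669)) (.node (.leaf 4018) (.leaf 6509))) (.node (.node (.leaf 1263) (.leaf 7121)) (.leaf 10048))) (.node (.node (.node (.leaf 1958) (.leaf 13024)) (.node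 (.leaf 12444) (.leaf 10485))) (.node (.node (.leaf 3410) (.leaf 5419)) (.leaf 5574)))) (.node (.node (.node (.node (.leaf 1192) (.leaf 3921)) (.node (.leaf 4008) (.leaf 10544))) (.node (.node (.leaf 1435) (.leaf 10176)) (.leaf 10482))) (.node (.node (.node (.leaf 2304) (.leaf 9428)) (.node (.leaf 9792) (.leaf 10939))) (.node (.node (.leaf 1790) (.leaf 5863)) (.leaf 3223))))))
def dFin_35 : BT := .node (.node (.node (.node (.node (.node (.node (.leaf 16) (.leaf 8418)) (.node (.leaf 4204) (.leaf 6231))) (.node (.node (.leaf 2476) (.leaf 4709)) (.leaf 3592))) (.node (.node (.node (.leaf 1696) (.leaf 12994)) (.node (.leaf 6228) (.leaf 10221))) (.node (.node (.leaf 1491) (.leaf 5860)) (.leaf 2933)))) (.node (.node (.node (.node (.leaf 11188) (.leaf 3749)) (.node (.leaf 5592) (.leaf 7289))) (.node (.node (.leaf 1359) (.leaf 4985)) (.leaf 12714))) (.node (.node (.node (.leaf 1466) (.leaf 4367)) (.node (.leaf 5184) (.leaf 10786))) (.node (.node (.leaf 4488) (.leaf 13256)) (.leaf 3780))))) (.node (.node (.node (.node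 (.node (.leaf 11100) (.leaf 3649)) (.node (.leaf 5258) (.leaf 9546))) (.node (.node (.leaf 1223) (.leaf 4815)) (.leaf 2549))) (.node (.node (.node (.leaf 393) (.leaf 4137)) (.node (.leaf 2223) (.leaf 10447))) (.node (.node (.leaf 1602) (.leaf 6710)) (.leaf 3021)))) (.node (.node (.node (.node (.leaf 1388) (.leaf 12982)) (.node (.leaf 2045) (.leaf 9999))) (.node (.node (.leaf 11638) (.leaf 8682)) (.leaf 3510))) (.node (.node (.node (.leaf 11398) (.leaf 9545)) (.node (.leaf 7538) (.leaf 10877))) (.node (.node (.leaf 4724) (.leaf 9555)) (.leaf 10618)))))) (.node (.node (.node (.node (.node (.node (.leaf 242) (.leaf 12922)) (.node (.leaf 3618) (.leaf 6437))) (.node (.node (.leaf 2608) (.leaf 10460)) (.leaf 10314))) (.node (.node (.node (.leaf 11308) (.leaf 4138)) (.node (.leaf 3752) (.leaf 10317))) (.node (.node (.leaf 3868) (.leaf 10848)) (.leaf 8318)))) (.node (.node (.node (.node (.leaf 210) (.leaf 9848)) (.node (.leaf 2854) (.leaf 13378))) (.node (.node (.leaf 11590) (.leaf 5035)) (.leaf 12758))) (.node (.node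 (.node (.leaf 543) (.leaf 4491)) (.node (.leaf 3513) (.leaf 10759))) (.node (.node (.leaf 4596) (.leaf 13272)) (.leaf 10354))))) (.node (.node (.node (.node (.node (.leaf 540) (.leaf 3709)) (.node (.leaf 3476) (.leaf 9813))) (.node (.node (.leaf 1301) (.leaf 8280)) (.leaf 3617))) (.node (.node (.node (.leaf 1280) (.leaf 6766)) (.node (.leaf 12476) (.leaf 10557))) (.node (.node (.leaf 4364) (.leaf 9962)) (.leaf 10674)))) (.node (.node (.node (.node (.leaf 1220) (.leaf 9986)) (.node (.leaf 12260) (.leaf 10119))) (.node (.node (.leaf 3367) (.leaf 5181)) (.leaf 2857))) (.node (.node (.node (.leaf 2368) (.leaf 13106)) (.node (.leaf 12588) (.leaf 11001))) (.node (.node (.leaf 3503) (.leaf 5913)) (.leaf 6738))))))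
def dFin_36 : BT := .node dFin_34 dFin_35
def dFin_37 : BT := .node dFin_33 dFin_36
def dFin_38 : BT := .node (.node (.node (.node (.node (.node (.node (.leaf 12) (.leaf 6672)) (.node (.leaf 11964) (.leaf 9132))) (.node (.node (.leaf 617) (.leaf 6945)) (.leaf 2475))) (.node (.node (.node (.leaf 1542) (.leaf 10930)) (.node (.leaf 4212) (.leaf 10141))) (.node (.node (.leaf 11692) (.leaf 8804)) (.leaf 8060)))) (.node (.node (.node (.node (.leaf 125) (.leaf 9404)) (.node (.leaf 12112) (.leaf 6925))) (.node (.node (.leaf 2978) (.leaf 9890)) (.leaf 2613))) (.node (.node (.node (.leaf 11348) (.leaf 13034)) (.node (.leaf 2289) (.leaf 10622))) (.node (.node (.leaf 11804) (.leaf 9317)) (.leaf 9098))))) (.node (.node (.node (.node (.node (.leaf 308) (.leaf 9924)) (.node (.leaf 3924) (.leaf 6445))) (.node (.node (.leaf 735) (.leaf 4778)) (.leaf 2527))) (.node (.node (.node (.leaf 1848) (.leaf 6763)) (.node (.leaf 2201) (.leaf 10345))) (.node (.node (.leaf 11740) (.leaf 8150)) (.leaf 8112)))) (.node (.node (.node (.node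 (.leaf 1188) (.leaf 3892)) (.node (.leaf 12172) (.leaf 9929))) (.node (.node (.leaf 11612) (.leaf 10342)) (.leaf 12774))) (.node (.node (.node (.leaf 553) (.leaf 5470)) (.node (.leaf 2395) (.leaf 10811))) (.node (.node (.leaf 11914) (.leaf 5639)) (.leaf 8532)))))) (.node (.node (.node (.node (.node (.node (.leaf 27) (.leaf 4370)) (.node (.leaf 1860) (.leaf 6381))) (.node (.node (.leaf 671) (.leaf 6020)) (.leaf 2503))) (.node (.node (.node (.leaf 332) (.leaf 9978)) (.node (.leaf 12334) (.leaf 10245))) (.node (.node (.leaf 3848) (.leaf 8740)) (.leaf 9563)))) (.node (.node (.node (.node (.leaf 149) (.leaf 6582)) (.node (.leaf 1963) (.leaf 7313))) (.node (.node (.leaf 3104) (.leaf 9134)) (.leaf 2653))) (.node (.node (.node (.leaf 11358) (.leaf 7638)) (.node (.leaf 2347) (.leaf 10685))) (.node (.node (.leaf 2720) (.leaf 13262)) (.leaf 10242))))) (.node (.node (.node (.node (.node (.leaf 106) (.leaf 9778)) (.node (.leaf 5348) (.leaf 6499))) (.node (.node (.leaf 1456) (.leaf 10084)) (.leaf 2567))) (.node (.node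 (.node (.leaf 1928) (.leaf 4105)) (.node (.leaf 2231) (.leaf 10465))) (.node (.node (.leaf 11758) (.leaf 13242)) (.leaf 9142)))) (.node (.node (.node (.node (.leaf 1250) (.leaf 5232)) (.node (.leaf 12222) (.leaf 10037))) (.node (.node (.leaf 2804) (.leaf 6808)) (.leaf 12794))) (.node (.node (.node (.leaf 575) (.leaf 4700)) (.node (.leaf 2437) (.leaf 10911))) (.node (.node (.leaf 3842) (.leaf 9012)) (.leaf 12878))))))
def dFin_39 : BT := .node (.node (.node (.node (.node (.node (.node (.leaf 25) (.leaf 8918)) (.node (.leaf 5068) (.leaf 6171))) (.node (.node (.leaf 645) (.leaf 7838)) (.leaf 2487))) (.node (.node (.node (.leaf 11280) (.leaf 7112)) (.node (.leaf 12318) (.leaf 10189))) (.node (.node (.leaf 1496) (.leaf 10912)) (.leaf 9690)))) (.node (.node (.node (.node (.leaf 137) (.leaf 8232)) (.node (.leaf 1951) (.leaf 7271))) (.node (.node (.leaf 1368) (.leaf 8520)) (.leaf 2635))) (.node (.node (.node (.leaf 1668) (.leaf 7738)) (.node (.leaf 2333) (.leaf 10656))) (.node (.node (.leaf 11844) (.leaf 10106))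 (.leaf 9165))))) (.node (.node (.node (.node (.node (.leaf 412) (.leaf 12942)) (.node (.leaf 12058) (.leaf 6487))) (.node (.node (.leaf 1232) (.leaf 10142)) (.leaf 2543))) (.node (.node (.node (.leaf 394) (.leaf 7578)) (.node (.leaf 2219) (.leaf 10417))) (.node (.node (.leaf 4144) (.leaf 11014)) (.leaf 10190)))) (.node (.node (.node (.node (.leaf 1330) (.leaf 8852)) (.node (.leaf 5854) (.leaf 9973))) (.node (.node (.leaf 3314) (.leaf 5082)) (.leaf 4666))) (.node (.node (.node (.leaf 565) (.leaf 6992)) (.node (.leaf 2419) (.leaf 10867))) (.node (.node (.leaf 11922) (.leaf 5749)) (.leaf 9809)))))) (.node (.node (.node (.node (.node (.node (.leaf 11054) (.leaf 9373)) (.node (.leaf 3902) (.leaf 6419))) (.node (.node (.leaf 721) (.leaf 6894)) (.leaf 2515))) (.node (.node (.node (.leaf 11302) (.leaf 8860)) (.node (.leaf 2181) (.leaf 10303))) (.node (.node (.leaf 1584) (.leaf 10210)) (.leaf 3982)))) (.node (.node (.node (.node (.leaf 193) (.leaf 8222)) (.node (.leaf 1983) (.leaf 7401))) (.node (.node (.leaf 3210)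 (.leaf 8900)) (.leaf 2665))) (.node (.node (.node (.leaf 11366) (.leaf 9068)) (.node (.leaf 2373) (.leaf 10735))) (.node (.node (.leaf 11892) (.leaf 5599)) (.leaf 8478))))) (.node (.node (.node (.node (.node (.leaf 11132) (.leaf 10494)) (.node (.leaf 12096) (.leaf 6531))) (.node (.node (.leaf 2868) (.leaf 9877)) (.leaf 2593))) (.node (.node (.node (.leaf 436) (.leaf 8584)) (.node (.leaf 2277) (.leaf 10519))) (.node (.node (.leaf 11778) (.leaf 10166)) (.leaf 3060)))) (.node (.node (.node (.node (.leaf 1474) (.leaf 5300)) (.node (.leaf 2070) (.leaf 10083))) (.node (.node (.leaf 2820) (.leaf 13194)) (.leaf 3788))) (.node (.node (.node (.leaf 607) (.leaf 10010)) (.node (.leaf 2459) (.leaf 10975))) (.node (.node (.leaf 11940) (.leaf 9093)) (.leaf 9230))))))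
def dFin_40 : BT := .node dFin_38 dFin_39
def dFin_41 : BT := .node (.node (.node (.node (.node (.node (.node (.leaf 86) (.leaf 12894)) (.node (.leaf 5004) (.leaf 8776))) (.node (.node (.leaf 625) (.leaf 9282)) (.leaf 2481))) (.node (.node (.node (.leaf 1596) (.leaf 9030)) (.node (.leaf 12298) (.leaf 10161))) (.node (.node (.leaf 11706) (.leaf 10890)) (.leaf 8928)))) (.node (.node (.node (.node (.leaf 131) (.leaf 9758)) (.node (.leaf 5530) (.leaf 7013))) (.node (.node (.leaf 3042) (.leaf 8718)) (.leaf 2623))) (.node (.node (.node (.leaf 2054) (.leaf 8332)) (.node (.leaf 2315) (.leaf 10682))) (.node (.node (.leaf 2110) (.leaf 9662)) (.leaf 9538))))) (.node (.node (.node (.node (.node (.leaf 368) (.leaf 8616)) (.node (.leaf 3940) (.leaf 6455))) (.node (.node (.leaf 1714) (.leaf 8872)) (.leaf 2535))) (.node (.node (.node (.leaf 1536) (.leaf 13010)) (.node (.leaf 2213) (.leaf 10387))) (.node (.node (.leaf 4066) (.leaf 13228)) (.leaf 10466)))) (.node (.node (.node (.node (.leaf 1256) (.leaf 4050)) (.node (.leaf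 12182) (.leaf 9953))) (.node (.node (.leaf 11630) (.leaf 9622)) (.leaf 12776))) (.node (.node (.node (.leaf 561) (.leaf 8992)) (.node (.leaf 2413) (.leaf 10835))) (.node (.node (.leaf 1748) (.leaf 5745)) (.leaf 9672)))))) (.node (.node (.node (.node (.node (.node (.leaf 168) (.leaf 3547)) (.node (.leaf 12012) (.leaf 6397))) (.node (.node (.leaf 713) (.leaf 10520)) (.leaf 2509))) (.node (.node (.node (.leaf 1730) (.leaf 4076)) (.node (.leaf 12356) (.leaf 10275))) (.node (.node (.leaf 1892) (.leaf 10764)) (.leaf 8654)))) (.node (.node (.node (.node (.leaf 216) (.leaf 4986)) (.node (.leaf 1975) (.leaf 7323))) (.node (.node (.leaf 11572) (.leaf 5018)) (.leaf 2659))) (.node (.node (.node (.leaf 504) (.leaf 13064)) (.node (.leaf 2353) (.leaf 10695))) (.node (.node (.leaf 2732) (.leaf 5583)) (.leaf 8188))))) (.node (.node (.node (.node (.node (.leaf 482) (.leaf 9217)) (.node (.leaf 5402) (.leaf 6515))) (.node (.node (.leaf 1310) (.leaf 10276)) (.leaf 2577))) (.node (.node (.node (.leaf 1526) (.leaf 13028)) (.node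 (.leaf 2249) (.leaf 10700))) (.node (.node (.leaf 11766) (.leaf 10976)) (.leaf 10434)))) (.node (.node (.node (.node (.leaf 278) (.leaf 5266)) (.node (.leaf 12240) (.leaf 10061))) (.node (.node (.leaf 2812) (.leaf 9911)) (.leaf 3732))) (.node (.node (.node (.leaf 597) (.leaf 9442)) (.node (.leaf 2451) (.leaf 10961))) (.node (.node (.leaf 1818) (.leaf 13298)) (.leaf 8662))))))
def dFin_42 : BT := .node (.node (.node (.node (.node (.node (.node (.leaf 62) (.leaf 12908)) (.node (.leaf 11988) (.leaf 8960))) (.node (.node (.leaf 667) (.leaf 9249)) (.leaf 2495))) (.node (.node (.node (.leaf 1178) (.leaf 9084)) (.node (.leaf 4394) (.leaf 10209))) (.node (.node (.leaf 11722) (.leaf 8798)) (.leaf 8526)))) (.node (.node (.node (.node (.leaf 143) (.leaf 3751)) (.node (.leaf 1957) (.leaf 7291))) (.node (.node (.leaf 11548) (.leaf 9334)) (.leaf 2647))) (.node (.node (.node (.leaf 466) (.leaf 8972)) (.node (.leaf 2343) (.leaf 10645))) (.node (.node (.leaf 11862) (.leaf 13260)) (.leaf 3120))))) (.node (.node (.node (.node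 (.node (.leaf 446) (.leaf 4752)) (.node (.leaf 12062) (.leaf 6495))) (.node (.node (.leaf 11518) (.leaf 9327)) (.leaf 2551))) (.node (.node (.node (.leaf 11324) (.leaf 5440)) (.node (.leaf 2225) (.leaf 10433))) (.node (.node (.leaf 1626) (.leaf 13236)) (.leaf 10596)))) (.node (.node (.node (.node (.leaf 1400) (.leaf 5196)) (.node (.leaf 5908) (.leaf 10009))) (.node (.node (.leaf 11650) (.leaf 8880)) (.leaf 12782))) (.node (.node (.node (.leaf 569) (.leaf 6861)) (.node (.leaf 2431) (.leaf 10889))) (.node (.node (.leaf 4762) (.leaf 9102)) (.leaf 10780)))))) (.node (.node (.node (.node (.node (.node (.leaf 262) (.leaf 4308)) (.node (.leaf 3910) (.leaf 6431))) (.node (.node (.leaf 731) (.leaf 9104)) (.leaf 2521))) (.node (.node (.node (.leaf 1784) (.leaf 9954)) (.node (.leaf 2193) (.leaf 10329))) (.node (.node (.leaf 2962) (.leaf 8788)) (.leaf 2992)))) (.node (.node (.node (.node (.leaf 11230) (.leaf 12978)) (.node (.leaf 2016) (.leaf 7427))) (.node (.node (.leaf 11594) (.leaf 6262)) (.leaf 2673))) (.node (.node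 (.node (.leaf 545) (.leaf 4493)) (.node (.leaf 2383) (.leaf 10864))) (.node (.node (.leaf 2762) (.leaf 5623)) (.leaf 8536))))) (.node (.node (.node (.node (.node (.leaf 119) (.leaf 4188)) (.node (.leaf 5508) (.leaf 6903))) (.node (.node (.leaf 11538) (.leaf 13142)) (.leaf 2603))) (.node (.node (.node (.leaf 1998) (.leaf 8670)) (.node (.leaf 2283) (.leaf 10572))) (.node (.node (.leaf 11792) (.leaf 13246)) (.leaf 8130)))) (.node (.node (.node (.node (.leaf 11268) (.leaf 8120)) (.node (.leaf 12270) (.leaf 10109))) (.node (.node (.leaf 2828) (.leaf 5183)) (.leaf 2894))) (.node (.node (.node (.leaf 613) (.leaf 10038)) (.node (.leaf 2469) (.leaf 11017))) (.node (.node (.leaf 4898) (.leaf 13322)) (.leaf 9457))))))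
def dFin_43 : BT := .node dFin_41 dFin_42
def dFin_44 : BT := .node dFin_40 dFin_43
def dFin_45 : BT := .node dFin_37 dFin_44
def dFin_46 : BT := .node (.node (.node (.node (.node (.node (.node (.leaf 6) (.leaf 10240)) (.node (.leaf 11960) (.leaf 10530))) (.node (.node (.leaf 2432) (.leaf 7430)) (.leaf 8640))) (.node (.node (.node (.leaf 1116) (.leaf 4005)) (.node (.leaf 3589) (.leaf 10131))) (.node (.node (.leaf 3772) (.leaf 7108)) (.leaf 2893)))) (.node (.node (.node (.node (.leaf 600) (.leaf 9474)) (.node (.leaf 5512) (.leaf 6917))) (.node (.node (.leaf 2950) (.leaf 9904)) (.leaf 7406))) (.node (.node (.node (.leaf 1306) (.leaf 4211)) (.node (.leaf 12502) (.leaf 10585))) (.node (.node (.leaf 1649) (.leaf 13248)) (.leaf 4744))))) (.node (.node (.node (.node (.node (.leaf 296) (.leaf 6841)) (.node (.leaf 3600) (.leaf 10378))) (.node (.node (.leaf 2666) (.leaf 9120)) (.leaf 2525))) (.node (.node (.node (.leaf 1844) (.leaf 6838)) (.node (.leaf 12376) (.leaf 10361))) (.node (.node (.leaf 1582) (.leaf 5317))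 (.leaf 8308)))) (.node (.node (.node (.node (.leaf 870) (.leaf 3858)) (.node (.leaf 2890) (.leaf 9935))) (.node (.node (.leaf 1399) (.leaf 9518)) (.leaf 7001))) (.node (.node (.node (.leaf 1124) (.leaf 4523)) (.node (.leaf 2391) (.leaf 10797))) (.node (.node (.leaf 4660) (.leaf 5645)) (.leaf 12864)))))) (.node (.node (.node (.node (.node (.node (.leaf 37) (.leaf 3438)) (.node (.leaf 11996) (.leaf 10986))) (.node (.node (.leaf 2522) (.leaf 6855)) (.leaf 10264))) (.node (.node (.node (.leaf 1606) (.leaf 4064)) (.node (.leaf 2099) (.leaf 10263))) (.node (.node (.leaf 1521) (.leaf 5356)) (.leaf 10408)))) (.node (.node (.node (.node (.leaf 11208) (.leaf 6591)) (.node (.leaf 3488) (.leaf 10336))) (.node (.node (.leaf 11556) (.leaf 10654)) (.leaf 8378))) (.node (.node (.node (.leaf 465) (.leaf 7634)) (.node (.leaf 9942) (.leaf 11006))) (.node (.node (.leaf 4556) (.leaf 7498)) (.leaf 9213))))) (.node (.node (.node (.node (.node (.leaf 448) (.leaf 10856)) (.node (.leaf 3928) (.leaf 10506))) (.node (.node (.leaf 2824)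 (.leaf 4833)) (.leaf 2565))) (.node (.node (.node (.leaf 1924) (.leaf 4121)) (.node (.leaf 6914) (.leaf 10463))) (.node (.node (.leaf 1625) (.leaf 7446)) (.leaf 3712)))) (.node (.node (.node (.node (.leaf 1440) (.leaf 6623)) (.node (.leaf 12216) (.leaf 10031))) (.node (.node (.leaf 3562) (.leaf 6620)) (.leaf 3390))) (.node (.node (.node (.leaf 1016) (.leaf 4593)) (.node (.leaf 2435) (.leaf 10909))) (.node (.node (.leaf 4830) (.leaf 9088)) (.leaf 8564))))))
def dFin_47 : BT := .node (.node (.node (.node (.node (.node (.node (.leaf 138) (.leaf 3293)) (.node (.leaf 11980) (.leaf 6167))) (.node (.node (.leaf 11458) (.leaf 4663)) (.leaf 12614))) (.node (.node (.node (.leaf 1646) (.leaf 4033)) (.node (.leaf 12310) (.leaf 10632))) (.node (.node (.leaf 1473) (.leaf 6066)) (.leaf 12804)))) (.node (.node (.node (.node (.leaf 11176) (.leaf 9364)) (.node (.leaf 3599) (.leaf 7277))) (.node (.node (.leaf 1345) (.leaf 13154)) (.leaf 2631))) (.node (.node (.node (.leaf 2096) (.leaf 7732)) (.node (.leaf 2328) (.leaf 10621)))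 (.node (.node (.leaf 11838) (.leaf 13252)) (.leaf 10718))))) (.node (.node (.node (.node (.node (.leaf 11092) (.leaf 12938)) (.node (.leaf 1885) (.leaf 9109))) (.node (.node (.leaf 1203) (.leaf 4795)) (.leaf 8754))) (.node (.node (.node (.leaf 1470) (.leaf 7570)) (.node (.leaf 12394) (.leaf 10411))) (.node (.node (.leaf 4098) (.leaf 10610)) (.leaf 10570)))) (.node (.node (.node (.node (.leaf 255) (.leaf 3890)) (.node (.leaf 5432) (.leaf 9992))) (.node (.node (.leaf 3290) (.leaf 8696)) (.leaf 2759))) (.node (.node (.node (.leaf 11386) (.leaf 4559)) (.node (.leaf 10050) (.leaf 10859))) (.node (.node (.leaf 1814) (.leaf 10126)) (.leaf 9787)))))) (.node (.node (.node (.node (.node (.node (.leaf 60) (.leaf 9367)) (.node (.leaf 5172) (.leaf 9818))) (.node (.node (.leaf 2174) (.leaf 4743)) (.leaf 3606))) (.node (.node (.node (.leaf 1622) (.leaf 9473)) (.node (.leaf 2177) (.leaf 10301))) (.node (.node (.leaf 1552) (.leaf 9701)) (.leaf 2974)))) (.node (.node (.node (.node (.leaf 188) (.leaf 3787)) (.node (.leaf 4500)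 (.leaf 7397))) (.node (.node (.leaf 11582) (.leaf 8892)) (.leaf 9828))) (.node (.node (.node (.leaf 1228) (.leaf 9106)) (.node (.leaf 3430) (.leaf 10731))) (.node (.node (.leaf 4624) (.leaf 13264)) (.leaf 12852))))) (.node (.node (.node (.node (.node (.leaf 462) (.leaf 3711)) (.node (.leaf 3494) (.leaf 9123))) (.node (.node (.leaf 1291) (.leaf 9869)) (.leaf 3487))) (.node (.node (.node (.leaf 1268) (.leaf 4185)) (.node (.leaf 7280) (.leaf 10517))) (.node (.node (.leaf 11772) (.leaf 5435)) (.leaf 10452)))) (.node (.node (.node (.node (.leaf 11260) (.leaf 10362)) (.node (.leaf 12250) (.leaf 10081))) (.node (.node (.leaf 3696) (.leaf 5153)) (.leaf 2827))) (.node (.node (.node (.leaf 603) (.leaf 13096)) (.node (.leaf 10128) (.leaf 10971))) (.node (.node (.leaf 1817) (.leaf 5901)) (.leaf 3245))))))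
def dFin_48 : BT := .node dFin_46 dFin_47
def dFin_49 : BT := .node (.node (.node (.node (.node (.node (.node (.leaf 82) (.leaf 10826)) (.node (.leaf 4208) (.leaf 5997))) (.node (.node (.leaf 1006) (.leaf 4800)) (.leaf 3590))) (.node (.node (.node (.leaf 299) (.leaf 5898)) (.node (.leaf 6164) (.leaf 10183))) (.node (.node (.leaf 3784) (.leaf 5210)) (.leaf 3462)))) (.node (.node (.node (.node (.leaf 11160) (.leaf 5288)) (.node (.leaf 3190) (.leaf 9206))) (.node (.node (.leaf 3034) (.leaf 8712)) (.leaf 12700))) (.node (.node (.node (.leaf 2050) (.leaf 4311)) (.node (.leaf 2313) (.leaf 10593))) (.node (.node (.leaf 11820) (.leaf 9656)) (.leaf 9572))))) (.node (.node (.node (.node (.node (.leaf 11078) (.leaf 8612)) (.node (.leaf 12044) (.leaf 7278))) (.node (.node (.leaf 2756) (.leaf 8866)) (.leaf 3605))) (.node (.node (.node (.leaf 1882) (.leaf 4135)) (.node (.leaf 3394) (.leaf 10381))) (.node (.node (.leaf 11744) (.leaf 5359)) (.leaf 9788)))) (.node (.node (.node (.node (.leaf 1130) (.leaf 3874)) (.node (.leaf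 3481) (.leaf 9945))) (.node (.node (.leaf 11626) (.leaf 9616)) (.leaf 4710))) (.node (.node (.node (.leaf 557) (.leaf 10794)) (.node (.leaf 10028) (.leaf 10829))) (.node (.node (.leaf 1794) (.leaf 9652)) (.leaf 3193)))))) (.node (.node (.node (.node (.node (.node (.leaf 48) (.leaf 12914)) (.node (.leaf 12006) (.leaf 6391))) (.node (.node (.leaf 2562) (.leaf 10476)) (.leaf 9903))) (.node (.node (.node (.leaf 11294) (.leaf 13000)) (.node (.leaf 12352) (.leaf 10267))) (.node (.node (.leaf 11728) (.leaf 5279)) (.leaf 2953)))) (.node (.node (.node (.node (.leaf 164) (.leaf 3775)) (.node (.leaf 1973) (.leaf 7333))) (.node (.node (.leaf 11566) (.leaf 13176)) (.leaf 12738))) (.node (.node (.node (.leaf 1200) (.leaf 9831)) (.node (.leaf 3754) (.leaf 10717))) (.node (.node (.leaf 4590) (.leaf 5581)) (.leaf 12844))))) (.node (.node (.node (.node (.node (.leaf 11122) (.leaf 6510)) (.node (.leaf 12084) (.leaf 6513))) (.node (.node (.leaf 1271) (.leaf 7105)) (.leaf 10020))) (.node (.node (.node (.leaf 1970) (.leaf 5442))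 (.node (.leaf 12452) (.leaf 10491))) (.node (.node (.leaf 3402) (.leaf 9571)) (.leaf 3037)))) (.node (.node (.node (.node (.leaf 1342) (.leaf 3931)) (.node (.leaf 2053) (.leaf 10053))) (.node (.node (.leaf 3369) (.leaf 6805)) (.leaf 4190))) (.node (.node (.node (.leaf 1120) (.leaf 9436)) (.node (.leaf 3654) (.leaf 10947))) (.node (.node (.leaf 1797) (.leaf 10164)) (.leaf 3472))))))
def dFin_50 : BT := .node (.node (.node (.node (.node (.node (.node (.leaf 20) (.leaf 8422)) (.node (.leaf 1847) (.leaf 6245))) (.node (.node (.leaf 2488) (.leaf 4699)) (.leaf 2491))) (.node (.node (.node (.leaf 1704) (.leaf 5046)) (.node (.leaf 6242) (.leaf 10207))) (.node (.node (.leaf 1495) (.leaf 6798)) (.leaf 3405)))) (.node (.node (.node (.node (.leaf 141) (.leaf 3745)) (.node (.leaf 12136) (.leaf 7283))) (.node (.node (.leaf 1367) (.leaf 13164)) (.leaf 12718))) (.node (.node (.node (.leaf 451) (.leaf 4379)) (.node (.leaf 5150) (.leaf 10667))) (.node (.node (.leaf 4520) (.leaf 5515)) (.leaf 12832))))) (.node (.node (.node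 (.node (.node (.leaf 85) (.leaf 3657)) (.node (.leaf 5314) (.leaf 9586))) (.node (.node (.leaf 1231) (.leaf 6630)) (.leaf 12662))) (.node (.node (.node (.leaf 1492) (.leaf 4101)) (.node (.leaf 12414) (.leaf 10431))) (.node (.node (.leaf 1609) (.leaf 13232)) (.leaf 5578)))) (.node (.node (.node (.node (.leaf 1396) (.leaf 4026)) (.node (.leaf 4006) (.leaf 10025))) (.node (.node (.leaf 11642) (.leaf 8686)) (.leaf 4306))) (.node (.node (.node (.leaf 2278) (.leaf 13080)) (.node (.leaf 7542) (.leaf 10883))) (.node (.node (.leaf 4746) (.leaf 6856)) (.leaf 6998)))))) (.node (.node (.node (.node (.node (.node (.leaf 252) (.leaf 3565)) (.node (.leaf 12026) (.leaf 10560))) (.node (.node (.leaf 2628) (.leaf 4749)) (.leaf 10226))) (.node (.node (.node (.leaf 11312) (.leaf 4132)) (.node (.leaf 6388) (.leaf 10323))) (.node (.node (.leaf 1568) (.leaf 9714)) (.leaf 8322)))) (.node (.node (.node (.node (.leaf 214) (.leaf 10092)) (.node (.leaf 2862) (.leaf 7425))) (.node (.node (.leaf 3242) (.leaf 5049)) (.leaf 2669))) (.node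 (.node (.node (.leaf 878) (.leaf 4503)) (.node (.leaf 3435) (.leaf 10753))) (.node (.node (.leaf 1707) (.leaf 9585)) (.leaf 10750))))) (.node (.node (.node (.node (.node (.leaf 554) (.leaf 3699)) (.node (.leaf 1927) (.leaf 9795))) (.node (.node (.leaf 1309) (.leaf 8288)) (.leaf 5636))) (.node (.node (.node (.leaf 1288) (.leaf 9940)) (.node (.leaf 2281) (.leaf 10547))) (.node (.node (.leaf 4376) (.leaf 5445)) (.leaf 9651)))) (.node (.node (.node (.node (.leaf 1364) (.leaf 3978)) (.node (.leaf 5992) (.leaf 10125))) (.node (.node (.leaf 1443) (.leaf 5175)) (.leaf 2865))) (.node (.node (.node (.leaf 2388) (.leaf 4627)) (.node (.leaf 12596) (.leaf 11009))) (.node (.node (.leaf 3471) (.leaf 10944)) (.leaf 6742))))))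
def dFin_51 : BT := .node dFin_49 dFin_50
def dFin_52 : BT := .node dFin_48 dFin_51
def dFin_53 : BT := .node (.node (.node (.node (.node (.node (.node (.leaf 52) (.leaf 9224)) (.node (.leaf 11966) (.leaf 9128))) (.node (.node (.leaf 1186) (.leaf 6955)) (.leaf 12608))) (.node (.node (.node (.leaf 1572) (.leaf 10838)) (.node (.leaf 12282) (.leaf 10149))) (.node (.node (.leaf 11694) (.leaf 8806)) (.leaf 8062)))) (.node (.node (.node (.node (.leaf 314) (.leaf 9448)) (.node (.leaf 12114) (.leaf 9238))) (.node (.node (.leaf 2988) (.leaf 9906)) (.leaf 5918))) (.node (.node (.node (.leaf 11350) (.leaf 13036)) (.node (.leaf 12510) (.leaf 10660))) (.node (.node (.leaf 11810) (.leaf 10046)) (.leaf 9094))))) (.node (.node (.node (.node (.node (.leaf 326) (.leaf 9305)) (.node (.leaf 5256) (.leaf 10604))) (.node (.node (.leaf 1672) (.leaf 9072)) (.leaf 12654))) (.node (.node (.node (.leaf 1856) (.leaf 9325)) (.node (.leaf 3052) (.leaf 10349))) (.node (.node (.leaf 11742) (.leaf 8152)) (.leaf 8114)))) (.node (.node (.node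 (.node (.leaf 1216) (.leaf 8846)) (.node (.leaf 12174) (.leaf 9933))) (.node (.node (.leaf 11616) (.leaf 9704)) (.leaf 9862))) (.node (.node (.node (.leaf 1274) (.leaf 9315)) (.node (.leaf 12546) (.leaf 10807))) (.node (.node (.leaf 11916) (.leaf 10168)) (.leaf 9211)))))) (.node (.node (.node (.node (.node (.node (.leaf 39) (.leaf 9833)) (.node (.leaf 12000) (.leaf 9541))) (.node (.node (.leaf 1540) (.leaf 9056)) (.leaf 3904))) (.node (.node (.node (.leaf 11288) (.leaf 9495)) (.node (.leaf 12336) (.leaf 10251))) (.node (.node (.leaf 3880) (.leaf 8742)) (.leaf 9579)))) (.node (.node (.node (.node (.leaf 484) (.leaf 10898)) (.node (.leaf 12150) (.leaf 9773))) (.node (.node (.leaf 3116) (.leaf 9130)) (.leaf 12734))) (.node (.node (.node (.leaf 11360) (.leaf 9044)) (.node (.leaf 4154) (.leaf 10691))) (.node (.node (.leaf 11872) (.leaf 8042)) (.leaf 12836))))) (.node (.node (.node (.node (.node (.leaf 11116) (.leaf 9748)) (.node (.leaf 12078) (.leaf 9159))) (.node (.node (.leaf 11528) (.leaf 9309)) (.leaf 2569)))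 (.node (.node (.node (.leaf 11334) (.leaf 4123)) (.node (.leaf 12438) (.leaf 10473))) (.node (.node (.leaf 11760) (.leaf 8762)) (.leaf 9150)))) (.node (.node (.node (.node (.leaf 1450) (.leaf 9360)) (.node (.leaf 12228) (.leaf 10045))) (.node (.node (.leaf 11664) (.leaf 9909)) (.leaf 12796))) (.node (.node (.node (.leaf 1476) (.leaf 9244)) (.node (.leaf 2768) (.leaf 10919))) (.node (.node (.leaf 11932) (.leaf 9020)) (.leaf 8924))))))
def dFin_54 : BT := .node (.node (.node (.node (.node (.node (.node (.leaf 92) (.leaf 8920)) (.node (.leaf 5076) (.leaf 9349))) (.node (.node (.leaf 1802) (.leaf 7840)) (.leaf 5074))) (.node (.node (.node (.leaf 1674) (.leaf 10284)) (.node (.leaf 12320) (.leaf 10197))) (.node (.node (.leaf 11716) (.leaf 10742)) (.leaf 9694)))) (.node (.node (.node (.node (.leaf 418) (.leaf 8234)) (.node (.leaf 5360) (.leaf 10502))) (.node (.node (.leaf 11546) (.leaf 8522)) (.leaf 12712))) (.node (.node (.node (.leaf 2104) (.leaf 7744)) (.node (.leaf 2976) (.leaf 10629))) (.node (.node (.leaf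 11852) (.leaf 9311)) (.leaf 9153))))) (.node (.node (.node (.node (.node (.leaf 430) (.leaf 8594)) (.node (.leaf 5312) (.leaf 9096))) (.node (.node (.leaf 11512) (.leaf 9313)) (.leaf 2545))) (.node (.node (.node (.leaf 11322) (.leaf 9854)) (.node (.leaf 12408) (.leaf 10419))) (.node (.node (.leaf 11750) (.leaf 10390)) (.leaf 6103)))) (.node (.node (.node (.node (.leaf 1352) (.leaf 8854)) (.node (.leaf 12196) (.leaf 9977))) (.node (.node (.leaf 11634) (.leaf 9591)) (.leaf 9234))) (.node (.node (.node (.leaf 1406) (.leaf 10808)) (.node (.leaf 2726) (.leaf 10869))) (.node (.node (.leaf 11924) (.leaf 10114)) (.leaf 10528)))))) (.node (.node (.node (.node (.node (.node (.leaf 11058) (.leaf 9375)) (.node (.leaf 5192) (.leaf 10474))) (.node (.node (.leaf 2000) (.leaf 9078)) (.leaf 3926))) (.node (.node (.node (.leaf 11304) (.leaf 8862)) (.node (.leaf 2870) (.leaf 10920))) (.node (.node (.leaf 11734) (.leaf 9703)) (.leaf 8126)))) (.node (.node (.node (.node (.leaf 195) (.leaf 8224)) (.node (.leaf 5532) (.leaf 10958)))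 (.node (.node (.leaf 11586) (.leaf 8906)) (.leaf 4398))) (.node (.node (.node (.leaf 11368) (.leaf 9070)) (.node (.leaf 12538) (.leaf 10741))) (.node (.node (.leaf 11894) (.leaf 9038)) (.leaf 8480))))) (.node (.node (.node (.node (.node (.leaf 11136) (.leaf 10704)) (.node (.leaf 12098) (.leaf 9126))) (.node (.node (.leaf 2878) (.leaf 9879)) (.leaf 12682))) (.node (.node (.node (.leaf 11342) (.leaf 9384)) (.node (.leaf 2822) (.leaf 10527))) (.node (.node (.leaf 11784) (.leaf 9874)) (.leaf 8146)))) (.node (.node (.node (.node (.leaf 1484) (.leaf 9182)) (.node (.leaf 12254) (.leaf 10138))) (.node (.node (.leaf 3726) (.leaf 13196)) (.leaf 8228))) (.node (.node (.node (.leaf 1610) (.leaf 9647)) (.node (.leaf 3846) (.leaf 10983))) (.node (.node (.leaf 11942) (.leaf 9054)) (.leaf 9232))))))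
def dFin_55 : BT := .node dFin_53 dFin_54
def dFin_56 : BT := .node (.node (.node (.node (.node (.node (.node (.leaf 102) (.leaf 8466)) (.node (.leaf 5012) (.leaf 8782))) (.node (.node (.leaf 1732) (.leaf 9286)) (.leaf 5010))) (.node (.node (.node (.leaf 1612) (.leaf 9048)) (.node (.leaf 12304) (.leaf 10171))) (.node (.node (.leaf 11712) (.leaf 9681)) (.leaf 8930)))) (.node (.node (.node (.node (.leaf 374) (.leaf 12966)) (.node (.leaf 12120) (.leaf 7015))) (.node (.node (.leaf 3054) (.leaf 8720)) (.leaf 12706))) (.node (.node (.node (.leaf 2066) (.leaf 8338)) (.node (.leaf 3862) (.leaf 10603))) (.node (.node (.leaf 11824) (.leaf 10442)) (.leaf 9552))))) (.node (.node (.node (.node (.node (.leaf 388) (.leaf 9913)) (.node (.leaf 5294) (.leaf 9166))) (.node (.node (.leaf 11510) (.leaf 8874)) (.leaf 2537))) (.node (.node (.node (.leaf 1886) (.leaf 9272)) (.node (.leaf 3108) (.leaf 10389))) (.node (.node (.leaf 4072) (.leaf 8248)) (.leaf 6972)))) (.node (.node (.node (.node (.leaf 1294) (.leaf 9982)) (.node (.leaf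 12188) (.leaf 9957))) (.node (.node (.leaf 11632) (.leaf 9628)) (.leaf 8440))) (.node (.node (.node (.leaf 1350) (.leaf 9000)) (.node (.leaf 12554) (.leaf 10837))) (.node (.node (.leaf 11918) (.leaf 9668)) (.leaf 10018)))))) (.node (.node (.node (.node (.node (.node (.leaf 206) (.leaf 9692)) (.node (.leaf 12014) (.leaf 9696))) (.node (.node (.leaf 1531) (.leaf 9820)) (.leaf 3912))) (.node (.node (.node (.leaf 1740) (.leaf 9040)) (.node (.leaf 12362) (.leaf 10283))) (.node (.node (.leaf 11732) (.leaf 10870)) (.leaf 8656)))) (.node (.node (.node (.node (.leaf 11220) (.leaf 9346)) (.node (.leaf 5516) (.leaf 7325))) (.node (.node (.leaf 11574) (.leaf 9351)) (.leaf 12748))) (.node (.node (.node (.leaf 11362) (.leaf 9114)) (.node (.leaf 12534) (.leaf 10707))) (.node (.node (.leaf 11884) (.leaf 11020)) (.leaf 8190))))) (.node (.node (.node (.node (.node (.leaf 500) (.leaf 9215)) (.node (.leaf 12090) (.leaf 10248))) (.node (.node (.leaf 11530) (.leaf 9886)) (.leaf 2579))) (.node (.node (.node (.leaf 1934) (.leaf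 9838)) (.node (.leaf 3316) (.leaf 10501))) (.node (.node (.leaf 11768) (.leaf 10420)) (.leaf 9671)))) (.node (.node (.node (.node (.leaf 11258) (.leaf 9493)) (.node (.leaf 5990) (.leaf 10067))) (.node (.node (.leaf 11676) (.leaf 9888)) (.leaf 8238))) (.node (.node (.node (.leaf 1556) (.leaf 9444)) (.node (.leaf 4772) (.leaf 10957))) (.node (.node (.leaf 11936) (.leaf 9082)) (.leaf 8664))))))
def dFin_57 : BT := .node (.node (.node (.node (.node (.node (.node (.leaf 11040) (.leaf 8910)) (.node (.leaf 11990) (.leaf 8962))) (.node (.node (.leaf 1854) (.leaf 9058)) (.leaf 12626))) (.node (.node (.node (.leaf 1708) (.leaf 9086)) (.node (.leaf 12326) (.leaf 10346))) (.node (.node (.leaf 11724) (.leaf 8800)) (.leaf 8528)))) (.node (.node (.node (.node (.leaf 452) (.leaf 9358)) (.node (.leaf 5408) (.leaf 7293))) (.node (.node (.leaf 11550) (.leaf 9355)) (.leaf 4216))) (.node (.node (.node (.leaf 11356) (.leaf 8978)) (.node (.leaf 4070) (.leaf 10653))) (.node (.node (.leaf 11864) (.leaf 8736)) (.leaf 8176))))) (.node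 (.node (.node (.node (.node (.leaf 460) (.leaf 9112)) (.node (.leaf 12064) (.leaf 9542))) (.node (.node (.leaf 11520) (.leaf 9321)) (.leaf 2553))) (.node (.node (.node (.leaf 11326) (.leaf 9303)) (.node (.leaf 3216) (.leaf 10441))) (.node (.node (.leaf 11754) (.leaf 8770)) (.leaf 10668)))) (.node (.node (.node (.node (.leaf 11252) (.leaf 9362)) (.node (.leaf 12206) (.leaf 10017))) (.node (.node (.leaf 11658) (.leaf 8882)) (.leaf 12788))) (.node (.node (.node (.leaf 1254) (.leaf 9110)) (.node (.leaf 12568) (.leaf 10897))) (.node (.node (.leaf 4774) (.leaf 9066)) (.leaf 10068)))))) (.node (.node (.node (.node (.node (.node (.leaf 274) (.leaf 9353)) (.node (.leaf 5226) (.leaf 10198))) (.node (.node (.leaf 2064) (.leaf 9124)) (.leaf 3942))) (.node (.node (.node (.leaf 1804) (.leaf 9307)) (.node (.leaf 2986) (.leaf 10760))) (.node (.node (.leaf 3968) (.leaf 8790)) (.leaf 8100)))) (.node (.node (.node (.node (.leaf 11234) (.leaf 9842)) (.node (.leaf 12168) (.leaf 9080))) (.node (.node (.leaf 11596) (.leaf 9090))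 (.leaf 12770))) (.node (.node (.node (.leaf 1210) (.leaf 9638)) (.node (.leaf 12542) (.leaf 10771))) (.node (.node (.leaf 4658) (.leaf 10984)) (.leaf 9780))))) (.node (.node (.node (.node (.node (.leaf 266) (.leaf 9376)) (.node (.leaf 12102) (.leaf 9811))) (.node (.node (.leaf 11540) (.leaf 9915)) (.leaf 5868))) (.node (.node (.node (.leaf 2010) (.leaf 9930)) (.node (.leaf 2830) (.leaf 10630))) (.node (.node (.leaf 11794) (.leaf 9958)) (.leaf 8132)))) (.node (.node (.node (.node (.leaf 11270) (.leaf 8122)) (.node (.leaf 12276) (.leaf 10117))) (.node (.node (.leaf 3778) (.leaf 7114)) (.leaf 8218))) (.node (.node (.node (.leaf 11426) (.leaf 9323)) (.node (.leaf 4902) (.leaf 11019))) (.node (.node (.leaf 11948) (.leaf 8454)) (.leaf 9481))))))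
def dFin_58 : BT := .node dFin_56 dFin_57
def dFin_59 : BT := .node dFin_55 dFin_58
def dFin_60 : BT := .node dFin_52 dFin_59
def dFin_61 : BT := .node dFin_45 dFin_60
def dFin_62 : BT := .node dFin_30 dFin_61
def dFin_63 : BT := .node (.node (.node (.node (.node (.node (.node (.leaf 1) (.leaf 6666)) (.node (.leaf 1835) (.leaf 6975))) (.node (.node (.leaf 2414) (.leaf 13116)) (.leaf 2473))) (.node (.node (.node (.leaf 295) (.leaf 4003)) (.node (.leaf 2083) (.leaf 10151))) (.node (.node (.leaf 3578) (.leaf 5195)) (.leaf 3972)))) (.node (.node (.node (.node (.leaf 123) (.leaf 9460)) (.node (.leaf 5406) (.leaf 9240))) (.node (.node (.leaf 2922) (.leaf 9894)) (.leaf 12686))) (.node (.node (.node (.leaf 1296) (.leaf 4203)) (.node (.leaf 12496) (.leaf 10577))) (.node (.node (.leaf 3406) (.leaf 6995)) (.leaf 3136))))) (.node (.node (.node (.node (.node (.leaf 73) (.leaf 6829)) (.node (.leaf 12034) (.leaf 9685))) (.node (.node (.leaf 2648) (.leaf 6022)) (.leaf 10270))) (.node (.node (.node (.leaf 1832) (.leaf 4089))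 (.node (.leaf 6426) (.leaf 10878))) (.node (.node (.leaf 1575) (.leaf 7116)) (.leaf 12816)))) (.node (.node (.node (.node (.leaf 11238) (.leaf 3851)) (.node (.leaf 2880) (.leaf 9919))) (.node (.node (.leaf 11602) (.leaf 9508)) (.leaf 12772))) (.node (.node (.node (.leaf 594) (.leaf 4560)) (.node (.leaf 3746) (.leaf 10783))) (.node (.node (.leaf 11904) (.leaf 5633)) (.leaf 3163)))))) (.node (.node (.node (.node (.node (.node (.leaf 30) (.leaf 3558)) (.node (.leaf 11994) (.leaf 6387))) (.node (.node (.leaf 2504) (.leaf 4719)) (.leaf 2501))) (.node (.node (.node (.leaf 311) (.leaf 4057)) (.node (.leaf 3585) (.leaf 10253))) (.node (.node (.leaf 1516) (.leaf 9593)) (.leaf 10000)))) (.node (.node (.node (.node (.leaf 622) (.leaf 6584)) (.node (.leaf 5630) (.leaf 9775))) (.node (.node (.leaf 1383) (.leaf 6976)) (.leaf 2651))) (.node (.node (.node (.leaf 1354) (.leaf 7632)) (.node (.leaf 9916) (.leaf 10671))) (.node (.node (.leaf 1695) (.leaf 10966)) (.leaf 3113))))) (.node (.node (.node (.node (.node (.leaf 312)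 (.leaf 9736)) (.node (.leaf 1911) (.leaf 10486))) (.node (.node (.leaf 2800) (.leaf 4843)) (.leaf 3609))) (.node (.node (.node (.leaf 1912) (.leaf 4112)) (.node (.leaf 6484) (.leaf 10479))) (.node (.node (.leaf 1615) (.leaf 5405)) (.leaf 3694)))) (.node (.node (.node (.node (.leaf 1428) (.leaf 3909)) (.node (.leaf 12210) (.leaf 10054))) (.node (.node (.leaf 1431) (.leaf 13184)) (.leaf 12792))) (.node (.node (.node (.leaf 573) (.leaf 4599)) (.node (.leaf 10032) (.leaf 10923))) (.node (.node (.leaf 4806) (.leaf 5849)) (.leaf 8558))))))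
def dFin_64 : BT := .node (.node (.node (.node (.node (.node (.node (.leaf 120) (.leaf 8914)) (.node (.leaf 11978) (.leaf 6173))) (.node (.node (.leaf 11456) (.leaf 7586)) (.leaf 12612))) (.node (.node (.node (.leaf 11278) (.leaf 6611)) (.node (.leaf 12308) (.leaf 10456))) (.node (.node (.leaf 1465) (.leaf 6059)) (.leaf 2925)))) (.node (.node (.node (.node (.leaf 550) (.leaf 9368)) (.node (.leaf 1949) (.leaf 10296))) (.node (.node (.leaf 1600) (.leaf 13144)) (.leaf 3491))) (.node (.node (.node (.leaf 2084) (.leaf 7726)) (.node (.leaf 2321) (.leaf 10635))) (.node (.node (.leaf 11828) (.leaf 6810)) (.leaf 10698))))) (.node (.node (.node (.node (.node (.leaf 250) (.leaf 12936)) (.node (.leaf 5178) (.leaf 6528))) (.node (.node (.leaf 1191) (.leaf 4793)) (.leaf 2541))) (.node (.node (.node (.leaf 1788) (.leaf 13012)) (.node (.leaf 2217) (.leaf 10399))) (.node (.node (.leaf 4086) (.leaf 5365)) (.leaf 3013)))) (.node (.node (.node (.node (.leaf 300) (.leaf 3883)) (.node (.leaf 2041) (.leaf 9985))) (.node (.node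 (.leaf 3164) (.leaf 8694)) (.leaf 5460))) (.node (.node (.node (.leaf 2214) (.leaf 4563)) (.node (.leaf 2417) (.leaf 10847))) (.node (.node (.leaf 1743) (.leaf 10134)) (.leaf 10568)))))) (.node (.node (.node (.node (.node (.node (.leaf 55) (.leaf 3561)) (.node (.leaf 1869) (.leaf 6417))) (.node (.node (.leaf 2164) (.leaf 4741)) (.leaf 8262))) (.node (.node (.node (.leaf 329) (.leaf 9032)) (.node (.leaf 2322) (.leaf 10309))) (.node (.node (.leaf 1547) (.leaf 9707)) (.leaf 2969)))) (.node (.node (.node (.node (.leaf 183) (.leaf 12976)) (.node (.leaf 5620) (.leaf 7391))) (.node (.node (.leaf 11580) (.leaf 9356)) (.leaf 10318))) (.node (.node (.node (.leaf 1744) (.leaf 9243)) (.node (.leaf 3566) (.leaf 10723))) (.node (.node (.leaf 11888) (.leaf 7392)) (.leaf 3139))))) (.node (.node (.node (.node (.node (.leaf 330) (.leaf 6060)) (.node (.leaf 5428) (.leaf 6533))) (.node (.node (.leaf 1562) (.leaf 9881)) (.leaf 2591))) (.node (.node (.node (.leaf 1258) (.leaf 13030)) (.node (.leaf 12462) (.leaf 10650))) (.node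 (.node (.leaf 4298) (.leaf 5431)) (.leaf 10200)))) (.node (.node (.node (.node (.leaf 271) (.leaf 10350)) (.node (.leaf 5858) (.leaf 10077))) (.node (.node (.leaf 3354) (.leaf 5145)) (.leaf 3413))) (.node (.node (.node (.leaf 609) (.leaf 10672)) (.node (.leaf 10098) (.leaf 10994))) (.node (.node (.leaf 1807) (.leaf 13304)) (.leaf 9236))))))
def dFin_65 : BT := .node dFin_63 dFin_64
def dFin_66 : BT := .node (.node (.node (.node (.node (.node (.node (.leaf 70) (.leaf 5042)) (.node (.leaf 4968) (.leaf 13330))) (.node (.node (.leaf 621) (.leaf 6815)) (.leaf 6168))) (.node (.node (.node (.leaf 303) (.leaf 4015)) (.node (.leaf 2087) (.leaf 10173))) (.node (.node (.leaf 11700) (.leaf 5209)) (.leaf 2917)))) (.node (.node (.node (.node (.leaf 640) (.leaf 6232)) (.node (.leaf 5414) (.leaf 13360))) (.node (.node (.leaf 3010) (.leaf 8704)) (.leaf 7524))) (.node (.node (.node (.leaf 2038) (.leaf 4301)) (.node (.leaf 2308) (.leaf 10607))) (.node (.node (.leaf 11814) (.leaf 9824)) (.leaf 9568))))) (.node (.node (.node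 (.node (.node (.leaf 342) (.leaf 8602)) (.node (.leaf 12042) (.leaf 7272))) (.node (.node (.leaf 2716) (.leaf 9060)) (.leaf 2533))) (.node (.node (.node (.leaf 1870) (.leaf 6830)) (.node (.leaf 2211) (.leaf 10369))) (.node (.node (.leaf 4012) (.leaf 5351)) (.leaf 3005)))) (.node (.node (.node (.node (.leaf 292) (.leaf 3867)) (.node (.leaf 2037) (.leaf 9961))) (.node (.node (.leaf 11620) (.leaf 9606)) (.leaf 6859))) (.node (.node (.node (.leaf 604) (.leaf 4555)) (.node (.leaf 2411) (.leaf 10817))) (.node (.node (.leaf 1723) (.leaf 10532)) (.leaf 10594)))))) (.node (.node (.node (.node (.node (.node (.leaf 43) (.leaf 12912)) (.node (.leaf 12004) (.leaf 6403))) (.node (.node (.leaf 2538) (.leaf 10636)) (.leaf 2507))) (.node (.node (.node (.leaf 319) (.leaf 7434)) (.node (.leaf 12342) (.leaf 10287))) (.node (.node (.leaf 3906) (.leaf 13218)) (.leaf 3454)))) (.node (.node (.node (.node (.leaf 159) (.leaf 3767)) (.node (.leaf 3597) (.leaf 13372))) (.node (.node (.leaf 1387) (.leaf 8624)) (.leaf 7684))) (.node (.node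 (.node (.leaf 1724) (.leaf 10756)) (.node (.leaf 2351) (.leaf 10724))) (.node (.node (.leaf 4582) (.leaf 5573)) (.leaf 12842))))) (.node (.node (.node (.node (.node (.leaf 320) (.leaf 10238)) (.node (.leaf 1915) (.leaf 6503))) (.node (.node (.leaf 1544) (.leaf 7111)) (.leaf 10396))) (.node (.node (.node (.leaf 1952) (.leaf 6765)) (.node (.leaf 12442) (.leaf 10902))) (.node (.node (.leaf 1633) (.leaf 5413)) (.leaf 9802)))) (.node (.node (.node (.node (.leaf 265) (.leaf 12986)) (.node (.leaf 3493) (.leaf 10071))) (.node (.node (.leaf 11670) (.leaf 6801)) (.leaf 4372))) (.node (.node (.node (.leaf 599) (.leaf 9426)) (.node (.leaf 12580) (.leaf 10935))) (.node (.node (.leaf 1787) (.leaf 13296)) (.leaf 12880))))))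
def dFin_67 : BT := .node (.node (.node (.node (.node (.node (.node (.leaf 15) (.leaf 8416)) (.node (.leaf 3469) (.leaf 10844))) (.node (.node (.leaf 2470) (.leaf 4697)) (.leaf 12620))) (.node (.node (.node (.leaf 1692) (.leaf 10814)) (.node (.leaf 5284) (.leaf 10231))) (.node (.node (.leaf 1487) (.leaf 5229)) (.leaf 12810)))) (.node (.node (.node (.node (.leaf 558) (.leaf 9341)) (.node (.leaf 1955) (.leaf 9389))) (.node (.node (.leaf 1616) (.leaf 13162)) (.leaf 2645))) (.node (.node (.node (.leaf 1332) (.leaf 8966)) (.node (.leaf 5596) (.leaf 10663))) (.node (.node (.leaf 1691) (.leaf 5511)) (.leaf 3107))))) (.node (.node (.node (.node (.node (.leaf 256) (.leaf 3653)) (.node (.leaf 5230) (.leaf 9580))) (.node (.node (.leaf 1219) (.leaf 4809)) (.leaf 9870))) (.node (.node (.node (.leaf 1808) (.leaf 4130)) (.node (.leaf 12412) (.leaf 10445))) (.node (.node (.leaf 1599) (.leaf 10162)) (.leaf 9583)))) (.node (.node (.node (.node (.leaf 1384) (.leaf 3901)) (.node (.leaf 5892) (.leaf 10005))) (.node (.node (.leaf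 1427) (.leaf 8680)) (.leaf 12780))) (.node (.node (.node (.leaf 11396) (.leaf 4585)) (.node (.leaf 7536) (.leaf 10885))) (.node (.node (.leaf 4716) (.leaf 6866)) (.leaf 6996)))))) (.node (.node (.node (.node (.node (.node (.leaf 69) (.leaf 3569)) (.node (.leaf 1873) (.leaf 6429))) (.node (.node (.leaf 2598) (.leaf 4759)) (.leaf 10216))) (.node (.node (.node (.leaf 11306) (.leaf 4085)) (.node (.leaf 3548) (.leaf 10325))) (.node (.node (.leaf 1561) (.leaf 9708)) (.leaf 8316)))) (.node (.node (.node (.node (.leaf 209) (.leaf 9329)) (.node (.leaf 2852) (.leaf 10932))) (.node (.node (.leaf 3092) (.leaf 9463)) (.leaf 12756))) (.node (.node (.node (.leaf 1094) (.leaf 4499)) (.node (.leaf 3700) (.leaf 10773))) (.node (.node (.leaf 4524) (.leaf 5619)) (.leaf 9760))))) (.node (.node (.node (.node (.node (.leaf 117) (.leaf 9378)) (.node (.leaf 3922) (.leaf 10552))) (.node (.node (.leaf 1576) (.leaf 4901)) (.leaf 2601))) (.node (.node (.node (.leaf 1278) (.leaf 9948)) (.node (.leaf 12474) (.leaf 10555))) (.node (.node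 (.leaf 4186) (.leaf 13244)) (.leaf 6097)))) (.node (.node (.node (.node (.leaf 277) (.leaf 3971)) (.node (.leaf 12258) (.leaf 10101))) (.node (.node (.leaf 11684) (.leaf 13200)) (.leaf 2960))) (.node (.node (.node (.leaf 11422) (.leaf 10784)) (.node (.leaf 2467) (.leaf 10997))) (.node (.node (.leaf 1831) (.leaf 8444)) (.leaf 6736))))))
def dFin_68 : BT := .node dFin_66 dFin_67
def dFin_69 : BT := .node dFin_65 dFin_68
def dFin_70 : BT := .node (.node (.node (.node (.node (.node (.node (.leaf 10) (.leaf 9392)) (.node (.leaf 4946) (.leaf 5935))) (.node (.node (.leaf 11434) (.leaf 13118)) (.leaf 9893))) (.node (.node (.node (.leaf 1167) (.leaf 10612)) (.node (.leaf 12280) (.leaf 10157))) (.node (.node (.leaf 2178) (.leaf 13210)) (.leaf 3312)))) (.node (.node (.node (.node (.leaf 614) (.leaf 9476)) (.node (.leaf 1931) (.leaf 9246))) (.node (.node (.leaf 1319) (.leaf 4945)) (.leaf 8428))) (.node (.node (.node (.leaf 1932) (.leaf 6793)) (.node (.leaf 12506) (.leaf 10565))) (.node (.node (.leaf 2760) (.leaf 6757))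 (.leaf 6264))))) (.node (.node (.node (.node (.node (.leaf 306) (.leaf 3571)) (.node (.leaf 12038) (.leaf 9596))) (.node (.node (.leaf 11494) (.leaf 4765)) (.leaf 9641))) (.node (.node (.node (.leaf 365) (.leaf 6759)) (.node (.leaf 12380) (.leaf 10365))) (.node (.node (.leaf 1852) (.leaf 9601)) (.leaf 2991)))) (.node (.node (.node (.node (.leaf 1110) (.leaf 3861)) (.node (.leaf 5528) (.leaf 9923))) (.node (.node (.leaf 11610) (.leaf 5065)) (.leaf 6019))) (.node (.node (.node (.leaf 11376) (.leaf 10414)) (.node (.leaf 2403) (.leaf 10799))) (.node (.node (.leaf 1711) (.leaf 10762)) (.leaf 9401)))))) (.node (.node (.node (.node (.node (.node (.leaf 11042) (.leaf 7650)) (.node (.leaf 1851) (.leaf 9535))) (.node (.node (.leaf 11470) (.leaf 6016)) (.leaf 12630))) (.node (.node (.node (.leaf 1184) (.leaf 4049)) (.node (.leaf 2632) (.leaf 10235))) (.node (.node (.leaf 2448) (.leaf 9636)) (.leaf 9529)))) (.node (.node (.node (.node (.leaf 190) (.leaf 6592)) (.node (.leaf 12148) (.leaf 9454))) (.node (.node (.leaf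 3102) (.leaf 5001)) (.leaf 8384))) (.node (.node (.node (.leaf 2108) (.leaf 4381)) (.node (.leaf 9970) (.leaf 10832))) (.node (.node (.leaf 11870) (.leaf 5527)) (.leaf 9185))))) (.node (.node (.node (.node (.node (.leaf 89) (.leaf 9746)) (.node (.leaf 12076) (.leaf 9721))) (.node (.node (.leaf 1249) (.leaf 6887)) (.leaf 8730))) (.node (.node (.node (.leaf 409) (.leaf 13022)) (.node (.leaf 7008) (.leaf 10455))) (.node (.node (.leaf 11756) (.leaf 9502)) (.leaf 10692)))) (.node (.node (.node (.node (.leaf 1169) (.leaf 6083)) (.node (.leaf 12220) (.leaf 10988))) (.node (.node (.leaf 3572) (.leaf 5091)) (.leaf 9776))) (.node (.node (.node (.leaf 2286) (.leaf 7414)) (.node (.leaf 12572) (.leaf 10901))) (.node (.node (.leaf 2316) (.leaf 13294)) (.leaf 10800))))))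
def dFin_71 : BT := .node (.node (.node (.node (.node (.node (.node (.leaf 28) (.leaf 12900)) (.node (.leaf 5066) (.leaf 10904))) (.node (.node (.leaf 2456) (.leaf 6679)) (.leaf 10232))) (.node (.node (.node (.leaf 305) (.leaf 7126)) (.node (.leaf 12316) (.leaf 10185))) (.node (.node (.leaf 11714) (.leaf 5223)) (.leaf 10562)))) (.node (.node (.node (.node (.leaf 710) (.leaf 9370)) (.node (.leaf 12128) (.leaf 9532))) (.node (.node (.leaf 3046) (.leaf 10748)) (.leaf 12708))) (.node (.node (.node (.leaf 1138) (.leaf 4323)) (.node (.leaf 12520) (.leaf 10615))) (.node (.node (.leaf 1677) (.leaf 6822)) (.leaf 9719))))) (.node (.node (.node (.node (.node (.leaf 410) (.leaf 10426)) (.node (.leaf 12056) (.leaf 6491))) (.node (.node (.leaf 1205) (.leaf 6928)) (.leaf 9498))) (.node (.node (.node (.leaf 1538) (.leaf 7576)) (.node (.leaf 12400) (.leaf 10413))) (.node (.node (.leaf 4102) (.leaf 9856)) (.leaf 12824)))) (.node (.node (.node (.node (.leaf 1324) (.leaf 4766)) (.node (.leaf 12194) (.leaf 9995))) (.node (.node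 (.leaf 1411) (.leaf 9589)) (.leaf 6658))) (.node (.node (.node (.leaf 563) (.leaf 13074)) (.node (.leaf 9865) (.leaf 10861))) (.node (.node (.leaf 2058) (.leaf 13282)) (.leaf 3207)))))) (.node (.node (.node (.node (.node (.node (.leaf 90) (.leaf 10512)) (.node (.leaf 12022) (.leaf 9137))) (.node (.node (.leaf 2574) (.leaf 6596)) (.leaf 8266))) (.node (.node (.node (.leaf 1712) (.leaf 4075)) (.node (.leaf 12364) (.leaf 10295))) (.node (.node (.leaf 1555) (.leaf 9679)) (.leaf 2959)))) (.node (.node (.node (.node (.leaf 11222) (.leaf 10894)) (.node (.leaf 1979) (.leaf 7409))) (.node (.node (.leaf 3208) (.leaf 8898)) (.leaf 6424))) (.node (.node (.node (.leaf 503) (.leaf 4419)) (.node (.leaf 7696) (.leaf 10745))) (.node (.node (.leaf 4630) (.leaf 6012)) (.leaf 12856))))) (.node (.node (.node (.node (.node (.leaf 105) (.leaf 9526)) (.node (.leaf 12094) (.leaf 13352))) (.node (.node (.leaf 2246) (.leaf 9885)) (.leaf 6884))) (.node (.node (.node (.leaf 1529) (.leaf 7131)) (.node (.leaf 12466) (.leaf 10511))) (.node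 (.node (.leaf 11776) (.leaf 10862)) (.leaf 3045)))) (.node (.node (.node (.node (.leaf 1446) (.leaf 10228)) (.node (.leaf 2057) (.leaf 10095))) (.node (.node (.leaf 3716) (.leaf 6754)) (.leaf 6594))) (.node (.node (.node (.leaf 2344) (.leaf 9926)) (.node (.leaf 12584) (.leaf 10973))) (.node (.node (.leaf 11938) (.leaf 7101)) (.leaf 12884))))))
def dFin_72 : BT := .node dFin_70 dFin_71
def dFin_73 : BT := .node (.node (.node (.node (.node (.node (.node (.leaf 9) (.leaf 6688)) (.node (.leaf 11972) (.leaf 6660))) (.node (.node (.leaf 11448) (.leaf 9280)) (.leaf 6566))) (.node (.node (.node (.leaf 1594) (.leaf 6014)) (.node (.leaf 12296) (.leaf 10338))) (.node (.node (.leaf 1453) (.leaf 6046)) (.leaf 10058)))) (.node (.node (.node (.node (.leaf 668) (.leaf 9478)) (.node (.leaf 1939) (.leaf 9396))) (.node (.node (.leaf 2330) (.leaf 8716)) (.leaf 6941))) (.node (.node (.node (.leaf 443) (.leaf 13046)) (.node (.leaf 12514) (.leaf 10950))) (.node (.node (.leaf 1665) (.leaf 5505)) (.leaf 3101))))) (.node (.node (.node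 (.node (.node (.leaf 366) (.leaf 10026)) (.node (.leaf 5292) (.leaf 10508))) (.node (.node (.leaf 1177) (.leaf 4777)) (.leaf 8256))) (.node (.node (.node (.leaf 1170) (.leaf 9268)) (.node (.leaf 6496) (.leaf 10383))) (.node (.node (.leaf 1593) (.leaf 9968)) (.leaf 12822)))) (.node (.node (.node (.node (.leaf 1172) (.leaf 3877)) (.node (.leaf 5802) (.leaf 9967))) (.node (.node (.leaf 1403) (.leaf 9620)) (.leaf 9222))) (.node (.node (.node (.leaf 2198) (.leaf 8990)) (.node (.leaf 7614) (.leaf 10831))) (.node (.node (.leaf 1729) (.leaf 5743)) (.leaf 6842)))))) (.node (.node (.node (.node (.node (.node (.leaf 146) (.leaf 10542)) (.node (.leaf 1859) (.leaf 10616))) (.node (.node (.leaf 11480) (.leaf 13128)) (.leaf 9333))) (.node (.node (.node (.leaf 1142) (.leaf 4069)) (.node (.leaf 2107) (.leaf 10293))) (.node (.node (.leaf 1535) (.leaf 7133)) (.leaf 10642)))) (.node (.node (.node (.node (.leaf 167) (.leaf 10298)) (.node (.leaf 5746) (.leaf 9682))) (.node (.node (.leaf 3150) (.leaf 6572)) (.leaf 7686))) (.node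 (.node (.node (.leaf 479) (.leaf 10458)) (.node (.leaf 6760) (.leaf 10721))) (.node (.node (.leaf 11880) (.leaf 10096)) (.leaf 9141))))) (.node (.node (.node (.node (.node (.leaf 97) (.leaf 9782)) (.node (.leaf 12088) (.leaf 9181))) (.node (.node (.leaf 1273) (.leaf 4895)) (.leaf 12676))) (.node (.node (.node (.leaf 1524) (.leaf 4147)) (.node (.leaf 2245) (.leaf 10493))) (.node (.node (.leaf 11764) (.leaf 10384)) (.leaf 12826)))) (.node (.node (.node (.node (.leaf 1252) (.leaf 9251)) (.node (.leaf 12238) (.leaf 10073))) (.node (.node (.leaf 3662) (.leaf 13188)) (.leaf 9398))) (.node (.node (.node (.leaf 11412) (.leaf 4601)) (.node (.leaf 2447) (.leaf 10949))) (.node (.node (.leaf 3844) (.leaf 9046)) (.leaf 6987))))))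
def dFin_74 : BT := .node (.node (.node (.node (.node (.node (.node (.leaf 23) (.leaf 3311)) (.node (.leaf 5092) (.leaf 7656))) (.node (.node (.leaf 665) (.leaf 7417)) (.leaf 6773))) (.node (.node (.node (.leaf 1152) (.leaf 6604)) (.node (.leaf 6246) (.leaf 10205))) (.node (.node (.leaf 11720) (.leaf 6091)) (.leaf 6574)))) (.node (.node (.node (.node (.leaf 732) (.leaf 6576)) (.node (.leaf 12142) (.leaf 9816))) (.node (.node (.leaf 3058) (.leaf 6598)) (.leaf 9649))) (.node (.node (.node (.leaf 1666) (.leaf 8970)) (.node (.leaf 2341) (.leaf 10647))) (.node (.node (.leaf 11860) (.leaf 10104)) (.leaf 9145))))) (.node (.node (.node (.node (.node (.leaf 444) (.leaf 12946)) (.node (.leaf 1889) (.leaf 6493))) (.node (.node (.leaf 11516) (.leaf 6636)) (.leaf 12666))) (.node (.node (.node (.leaf 1890) (.leaf 6848)) (.node (.leaf 12418) (.leaf 10425))) (.node (.node (.leaf 4148) (.leaf 5399)) (.leaf 9530)))) (.node (.node (.node (.node (.leaf 259) (.leaf 6948)) (.node (.leaf 12204) (.leaf 10007))) (.node (.node (.leaf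 11648) (.leaf 9575)) (.leaf 8346))) (.node (.node (.node (.leaf 11402) (.leaf 9101)) (.node (.leaf 7546) (.leaf 10887))) (.node (.node (.leaf 1773) (.leaf 7107)) (.leaf 7175)))))) (.node (.node (.node (.node (.node (.node (.leaf 260) (.leaf 9330)) (.node (.leaf 12030) (.leaf 9699))) (.node (.node (.leaf 729) (.leaf 6752)) (.leaf 10340))) (.node (.node (.node (.leaf 1778) (.leaf 13008)) (.node (.leaf 2189) (.leaf 10327))) (.node (.node (.leaf 2190) (.leaf 9717)) (.leaf 2981)))) (.node (.node (.node (.node (.leaf 480) (.leaf 3841)) (.node (.leaf 1997) (.leaf 7433))) (.node (.node (.leaf 3248) (.leaf 13182)) (.leaf 12762))) (.node (.node (.node (.leaf 11370) (.leaf 13070)) (.node (.leaf 6252) (.leaf 10779))) (.node (.node (.leaf 11898) (.leaf 11012)) (.leaf 9766))))) (.node (.node (.node (.node (.node (.leaf 566) (.leaf 9800)) (.node (.leaf 5506) (.leaf 6901))) (.node (.node (.leaf 1404) (.leaf 8292)) (.leaf 6044))) (.node (.node (.node (.leaf 1980) (.leaf 4193)) (.node (.leaf 7320) (.leaf 10541))) (.node (.node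 (.leaf 11790) (.leaf 6852)) (.leaf 3057)))) (.node (.node (.node (.node (.leaf 1454) (.leaf 3981)) (.node (.leaf 2069) (.leaf 10123))) (.node (.node (.leaf 3762) (.leaf 13202)) (.leaf 2867))) (.node (.node (.node (.leaf 611) (.leaf 9318)) (.node (.leaf 10158) (.leaf 11011))) (.node (.node (.leaf 4896) (.leaf 13320)) (.leaf 3247))))))
def dFin_75 : BT := .node dFin_73 dFin_74
def dFin_76 : BT := .node dFin_72 dFin_75
def dFin_77 : BT := .node dFin_69 dFin_76
def dFin_78 : BT := .node (.node (.node (.node (.node (.node (.node (.leaf 5) (.leaf 12888)) (.node (.leaf 11958) (.leaf 10712))) (.node (.node (.leaf 2428) (.leaf 6939)) (.leaf 8638))) (.node (.node (.node (.leaf 289) (.leaf 10824)) (.node (.leaf 5276) (.leaf 10155))) (.node (.node (.leaf 3722) (.leaf 9712)) (.leaf 2887)))) (.node (.node (.node (.node (.leaf 592) (.leaf 9468)) (.node (.leaf 12110) (.leaf 6927))) (.node (.node (.leaf 2944) (.leaf 9900)) (.leaf 12690))) (.node (.node (.node (.leaf 433) (.leaf 10754)) (.node (.leaf 7310) (.leaf 10583)))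 (.node (.node (.leaf 1653) (.leaf 10078)) (.leaf 3089))))) (.node (.node (.node (.node (.node (.leaf 290) (.leaf 6835)) (.node (.leaf 2492) (.leaf 9689))) (.node (.node (.leaf 2662) (.leaf 6898)) (.leaf 10268))) (.node (.node (.node (.leaf 1842) (.leaf 10178)) (.node (.leaf 6452) (.leaf 10359))) (.node (.node (.leaf 1579) (.leaf 7124)) (.leaf 9561)))) (.node (.node (.node (.node (.leaf 11242) (.leaf 3857)) (.node (.leaf 2013) (.leaf 9921))) (.node (.node (.leaf 2742) (.leaf 9516)) (.leaf 9858))) (.node (.node (.node (.leaf 547) (.leaf 4834)) (.node (.leaf 2401) (.leaf 10791))) (.node (.node (.leaf 11912) (.leaf 6836)) (.leaf 9471)))))) (.node (.node (.node (.node (.node (.node (.leaf 34) (.leaf 3351)) (.node (.leaf 5072) (.leaf 6377))) (.node (.node (.leaf 2518) (.leaf 9062)) (.leaf 10224))) (.node (.node (.node (.leaf 1550) (.leaf 4063)) (.node (.leaf 2103) (.leaf 10261))) (.node (.node (.leaf 1518) (.leaf 13216)) (.leaf 2943)))) (.node (.node (.node (.node (.leaf 718) (.leaf 6586)) (.node (.leaf 4110) (.leaf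 7309))) (.node (.node (.leaf 3090) (.leaf 10728)) (.leaf 9763))) (.node (.node (.node (.leaf 1362) (.leaf 10258)) (.node (.leaf 9300) (.leaf 10679))) (.node (.node (.leaf 4550) (.leaf 7496)) (.leaf 5036))))) (.node (.node (.node (.node (.node (.leaf 416) (.leaf 9744)) (.node (.leaf 12072) (.leaf 9173))) (.node (.node (.leaf 2818) (.leaf 4847)) (.leaf 8728))) (.node (.node (.node (.leaf 11330) (.leaf 4118)) (.node (.leaf 2227) (.leaf 10488))) (.node (.node (.leaf 1621) (.leaf 7444)) (.leaf 3027)))) (.node (.node (.node (.node (.leaf 1438) (.leaf 10880)) (.node (.leaf 2047) (.leaf 10132))) (.node (.node (.leaf 3556) (.leaf 6619)) (.leaf 4750))) (.node (.node (.node (.leaf 2172) (.leaf 6918)) (.node (.leaf 9847) (.leaf 10927))) (.node (.node (.leaf 11930) (.leaf 5843)) (.leaf 8562))))))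
def dFin_79 : BT := .node (.node (.node (.node (.node (.node (.node (.leaf 134) (.leaf 3287)) (.node (.leaf 1841) (.leaf 13336))) (.node (.node (.leaf 1112) (.leaf 7594)) (.leaf 2483))) (.node (.node (.node (.leaf 1644) (.leaf 12992)) (.node (.leaf 2100) (.leaf 10928))) (.node (.node (.leaf 2860) (.leaf 6063)) (.leaf 9686)))) (.node (.node (.node (.node (.leaf 133) (.leaf 3729)) (.node (.leaf 12124) (.leaf 7275))) (.node (.node (.leaf 1339) (.leaf 13152)) (.leaf 4128))) (.node (.node (.node (.leaf 2094) (.leaf 6897)) (.node (.leaf 2325) (.leaf 10641))) (.node (.node (.leaf 11836) (.leaf 6818)) (.leaf 9157))))) (.node (.node (.node (.node (.node (.leaf 79) (.leaf 10854)) (.node (.leaf 5176) (.leaf 6479))) (.node (.node (.leaf 1197) (.leaf 4805)) (.leaf 8752))) (.node (.node (.node (.leaf 1198) (.leaf 4095)) (.node (.leaf 6526) (.leaf 10405))) (.node (.node (.leaf 4096) (.leaf 10406)) (.leaf 6064)))) (.node (.node (.node (.node (.leaf 896) (.leaf 3889)) (.node (.leaf 5844) (.leaf 9991))) (.node (.node (.leaf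 3262) (.leaf 5071)) (.leaf 9852))) (.node (.node (.node (.leaf 2228) (.leaf 6821)) (.node (.leaf 9139) (.leaf 10853))) (.node (.node (.leaf 3976) (.leaf 10056)) (.leaf 9791)))))) (.node (.node (.node (.node (.node (.node (.leaf 59) (.leaf 3555)) (.node (.leaf 12018) (.leaf 7268))) (.node (.node (.leaf 717) (.leaf 4733)) (.leaf 12642))) (.node (.node (.node (.leaf 1580) (.leaf 9053)) (.node (.leaf 2171) (.leaf 10311))) (.node (.node (.leaf 1549) (.leaf 9711)) (.leaf 2971)))) (.node (.node (.node (.node (.leaf 187) (.leaf 9344)) (.node (.leaf 12164) (.leaf 10942))) (.node (.node (.leaf 3188) (.leaf 8890)) (.leaf 2661))) (.node (.node (.node (.leaf 2014) (.leaf 9074)) (.node (.leaf 2392) (.leaf 10747))) (.node (.node (.leaf 1701) (.leaf 9029)) (.leaf 3133))))) (.node (.node (.node (.node (.node (.leaf 434) (.leaf 3693)) (.node (.leaf 5438) (.leaf 6525))) (.node (.node (.leaf 1285) (.leaf 9883)) (.leaf 7626))) (.node (.node (.node (.leaf 415) (.leaf 4181)) (.node (.leaf 2273) (.leaf 10537))) (.node (.node (.leaf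 1650) (.leaf 9938)) (.leaf 9174)))) (.node (.node (.node (.node (.leaf 1286) (.leaf 3937)) (.node (.leaf 12248) (.leaf 10091))) (.node (.node (.leaf 1437) (.leaf 5147)) (.leaf 2940))) (.node (.node (.node (.leaf 1118) (.leaf 13094)) (.node (.leaf 9835) (.leaf 10991))) (.node (.node (.leaf 1813) (.leaf 13312)) (.leaf 4712))))))
def dFin_80 : BT := .node dFin_78 dFin_79
def dFin_81 : BT := .node (.node (.node (.node (.node (.node (.node (.leaf 80) (.leaf 3261)) (.node (.leaf 4982) (.leaf 9841))) (.node (.node (.leaf 2326) (.leaf 4645)) (.leaf 3770))) (.node (.node (.node (.leaf 1114) (.leaf 9050)) (.node (.leaf 12292) (.leaf 10181))) (.node (.node (.leaf 3730) (.leaf 5203)) (.leaf 10002)))) (.node (.node (.node (.node (.leaf 11158) (.leaf 3721)) (.node (.leaf 12118) (.leaf 9220))) (.node (.node (.leaf 3028) (.leaf 8711)) (.leaf 2619))) (.node (.node (.node (.leaf 2048) (.leaf 13044)) (.node (.leaf 2310) (.leaf 10587))) (.node (.node (.leaf 4392) (.leaf 9822)) (.leaf 9558))))) (.node (.node (.node (.node (.node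 (.leaf 11076) (.leaf 8610)) (.node (.leaf 1879) (.leaf 6451))) (.node (.node (.leaf 11508) (.leaf 9065)) (.leaf 8254))) (.node (.node (.node (.leaf 1880) (.leaf 4127)) (.node (.leaf 6480) (.leaf 10375))) (.node (.node (.leaf 4036) (.leaf 7468)) (.leaf 3690)))) (.node (.node (.node (.node (.leaf 247) (.leaf 3873)) (.node (.leaf 12178) (.leaf 9965))) (.node (.node (.leaf 11624) (.leaf 9614)) (.leaf 2741))) (.node (.node (.node (.leaf 908) (.leaf 4549)) (.node (.leaf 7610) (.leaf 10823))) (.node (.node (.leaf 2972) (.leaf 10538)) (.leaf 3187)))))) (.node (.node (.node (.node (.node (.node (.leaf 47) (.leaf 10680)) (.node (.leaf 5080) (.leaf 6407))) (.node (.node (.leaf 11478) (.leaf 10450)) (.leaf 6589))) (.node (.node (.node (.leaf 1566) (.leaf 9043)) (.node (.leaf 12350) (.leaf 10291))) (.node (.node (.leaf 3938) (.leaf 5287)) (.leaf 10588)))) (.node (.node (.node (.node (.leaf 163) (.leaf 3769)) (.node (.leaf 12158) (.leaf 13376))) (.node (.node (.leaf 3134) (.leaf 8628)) (.leaf 2670))) (.node (.node (.node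 (.leaf 1994) (.leaf 4391)) (.node (.leaf 3706) (.leaf 10715))) (.node (.node (.leaf 11878) (.leaf 10968)) (.leaf 8508))))) (.node (.node (.node (.node (.node (.leaf 424) (.leaf 5148)) (.node (.leaf 12082) (.leaf 6936))) (.node (.node (.leaf 1265) (.leaf 7123)) (.leaf 8048))) (.node (.node (.node (.leaf 11338) (.leaf 9837)) (.node (.leaf 12450) (.leaf 10505))) (.node (.node (.leaf 4182) (.leaf 10376)) (.leaf 9806)))) (.node (.node (.node (.node (.leaf 1266) (.leaf 3933)) (.node (.leaf 12234) (.leaf 10075))) (.node (.node (.leaf 3646) (.leaf 6803)) (.leaf 2817))) (.node (.node (.node (.leaf 591) (.leaf 9434)) (.node (.leaf 9077) (.leaf 10941))) (.node (.node (.leaf 1793) (.leaf 9676)) (.leaf 3225))))))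
def dFin_82 : BT := .node (.node (.node (.node (.node (.node (.node (.leaf 19) (.leaf 12906)) (.node (.leaf 3934) (.leaf 13340))) (.node (.node (.leaf 2484) (.leaf 4715)) (.leaf 2497))) (.node (.node (.node (.leaf 1702) (.leaf 4035)) (.node (.leaf 2093) (.leaf 10223))) (.node (.node (.leaf 2888) (.leaf 8796)) (.leaf 2939)))) (.node (.node (.node (.node (.leaf 11194) (.leaf 3741)) (.node (.leaf 12134) (.leaf 13370))) (.node (.node (.leaf 1361) (.leaf 4981)) (.leaf 10320))) (.node (.node (.node (.leaf 1340) (.leaf 13056)) (.node (.leaf 7420) (.leaf 10665))) (.node (.node (.leaf 11856) (.leaf 7512)) (.leaf 8500))))) (.node (.node (.node (.node (.node (.leaf 11106) (.leaf 3645)) (.node (.leaf 5298) (.leaf 9548))) (.node (.node (.leaf 1225) (.leaf 10792)) (.leaf 9946))) (.node (.node (.node (.leaf 1226) (.leaf 4143)) (.node (.leaf 4504) (.leaf 10449))) (.node (.node (.leaf 1605) (.leaf 7560)) (.leaf 6394)))) (.node (.node (.node (.node (.leaf 1394) (.leaf 10356)) (.node (.leaf 3288) (.leaf 10023))) (.node (.node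 (.leaf 3352) (.leaf 5079)) (.leaf 8344))) (.node (.node (.node (.leaf 2274) (.leaf 13078)) (.node (.leaf 2427) (.leaf 10893))) (.node (.node (.leaf 4734) (.leaf 13290)) (.leaf 10120)))))) (.node (.node (.node (.node (.node (.node (.leaf 248) (.leaf 9343)) (.node (.leaf 5204) (.leaf 10312))) (.node (.node (.leaf 2620) (.leaf 4761)) (.leaf 2517))) (.node (.node (.node (.leaf 992) (.leaf 13006)) (.node (.leaf 6378) (.leaf 10335))) (.node (.node (.leaf 1565) (.leaf 5297)) (.leaf 9551)))) (.node (.node (.node (.node (.leaf 213) (.leaf 9844)) (.node (.leaf 1993) (.leaf 7419))) (.node (.node (.leaf 1393) (.leaf 5045)) (.leaf 2675))) (.node (.node (.node (.leaf 1098) (.leaf 4507)) (.node (.leaf 2379) (.leaf 10777))) (.node (.node (.leaf 4646) (.leaf 11004)) (.leaf 9764))))) (.node (.node (.node (.node (.node (.leaf 548) (.leaf 3705)) (.node (.leaf 3226) (.leaf 9827))) (.node (.node (.leaf 1303) (.leaf 8286)) (.leaf 9785))) (.node (.node (.node (.leaf 423) (.leaf 9872)) (.node (.leaf 12482) (.leaf 10559))) (.node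 (.node (.leaf 1643) (.leaf 5437)) (.leaf 9154)))) (.node (.node (.node (.node (.leaf 1304) (.leaf 3975)) (.node (.leaf 12266) (.leaf 10103))) (.node (.node (.leaf 3742) (.leaf 5187)) (.leaf 2859))) (.node (.node (.node (.leaf 2380) (.leaf 4802)) (.node (.leaf 12594) (.leaf 11003))) (.node (.node (.leaf 11946) (.leaf 8448)) (.leaf 9219))))))
def dFin_83 : BT := .node dFin_81 dFin_82
def dFin_84 : BT := .node dFin_80 dFin_83
def dFin_85 : BT := .node (.node (.node (.node (.node (.node (.node (.leaf 11024) (.leaf 6676)) (.node (.leaf 2928) (.leaf 6981))) (.node (.node (.leaf 11440) (.leaf 6953)) (.leaf 3552))) (.node (.node (.node (.leaf 1570) (.leaf 4702)) (.node (.leaf 2354) (.leaf 10147))) (.node (.node (.leaf 1445) (.leaf 6982)) (.leaf 2897)))) (.node (.node (.node (.node (.leaf 11150) (.leaf 9482)) (.node (.leaf 5534) (.leaf 10952))) (.node (.node (.leaf 1323) (.leaf 10548)) (.leaf 2617))) (.node (.node (.node (.leaf 2020) (.leaf 4201)) (.node (.leaf 2285) (.leaf 10575))) (.node (.node (.leaf 11808) (.leaf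 5459)) (.leaf 5038))))) (.node (.node (.node (.node (.node (.leaf 11068) (.leaf 6827)) (.node (.leaf 3022) (.leaf 6449))) (.node (.node (.leaf 11500) (.leaf 4771)) (.leaf 12652))) (.node (.node (.node (.leaf 1320) (.leaf 4812)) (.node (.leaf 2203) (.leaf 10496))) (.node (.node (.leaf 3986) (.leaf 9645)) (.leaf 2995)))) (.node (.node (.node (.node (.leaf 874) (.leaf 4052)) (.node (.leaf 2019) (.leaf 10112))) (.node (.node (.leaf 3294) (.leaf 9524)) (.leaf 2723))) (.node (.node (.node (.leaf 2182) (.leaf 4531)) (.node (.leaf 2399) (.leaf 10805))) (.node (.node (.leaf 2060) (.leaf 5641)) (.leaf 3161)))))) (.node (.node (.node (.node (.node (.node (.leaf 11046) (.leaf 6236)) (.node (.leaf 2982) (.leaf 6385))) (.node (.node (.leaf 2204) (.leaf 4721)) (.leaf 6420))) (.node (.node (.node (.leaf 1734) (.leaf 4055)) (.node (.leaf 2396) (.leaf 10247))) (.node (.node (.leaf 3878) (.leaf 10688)) (.leaf 2949)))) (.node (.node (.node (.node (.leaf 145) (.leaf 10304)) (.node (.leaf 4528) (.leaf 7307))) (.node (.node (.leaf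 3114) (.leaf 6092)) (.leaf 12732))) (.node (.node (.node (.leaf 1236) (.leaf 7642)) (.node (.leaf 2462) (.leaf 10687))) (.node (.node (.leaf 2606) (.leaf 5525)) (.leaf 3111))))) (.node (.node (.node (.node (.node (.leaf 11114) (.leaf 9752)) (.node (.leaf 5366) (.leaf 9177))) (.node (.node (.leaf 11526) (.leaf 4841)) (.leaf 10012))) (.node (.node (.node (.leaf 1940) (.leaf 4107)) (.node (.leaf 12436) (.leaf 10471))) (.node (.node (.leaf 1822) (.leaf 10978)) (.leaf 3033)))) (.node (.node (.node (.node (.leaf 1448) (.leaf 10192)) (.node (.leaf 12226) (.leaf 10043))) (.node (.node (.leaf 3586) (.leaf 10624)) (.leaf 8490))) (.node (.node (.node (.leaf 571) (.leaf 7402)) (.node (.leaf 12578) (.leaf 10917))) (.node (.node (.leaf 1781) (.leaf 9018)) (.leaf 8572))))))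
def dFin_86 : BT := .node (.node (.node (.node (.node (.node (.node (.leaf 11034) (.leaf 3285)) (.node (.leaf 2946) (.leaf 9337))) (.node (.node (.leaf 1174) (.leaf 13124)) (.leaf 6382))) (.node (.node (.node (.leaf 1670) (.leaf 4728)) (.node (.leaf 2374) (.leaf 10195))) (.node (.node (.leaf 1463) (.leaf 6057)) (.leaf 2927)))) (.node (.node (.node (.node (.leaf 11184) (.leaf 9536)) (.node (.leaf 5584) (.leaf 10212))) (.node (.node (.leaf 1349) (.leaf 13160)) (.leaf 2639))) (.node (.node (.node (.leaf 1136) (.leaf 7742)) (.node (.leaf 2319) (.leaf 10627))) (.node (.node (.leaf 11850) (.leaf 6824)) (.leaf 9163))))) (.node (.node (.node (.node (.node (.leaf 11096) (.leaf 3575)) (.node (.leaf 3038) (.leaf 6922))) (.node (.node (.leaf 1209) (.leaf 4799)) (.leaf 10422))) (.node (.node (.node (.leaf 1346) (.leaf 13018)) (.node (.leaf 12406) (.leaf 10395))) (.node (.node (.leaf 1782) (.leaf 5363)) (.leaf 3015)))) (.node (.node (.node (.node (.leaf 898) (.leaf 9974)) (.node (.leaf 2724) (.leaf 9981))) (.node (.node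 (.leaf 1409) (.leaf 9577)) (.leaf 2767))) (.node (.node (.node (.leaf 2250) (.leaf 5642)) (.node (.leaf 12560) (.leaf 10843))) (.node (.node (.leaf 1751) (.leaf 13286)) (.leaf 9797)))))) (.node (.node (.node (.node (.node (.node (.leaf 11056) (.leaf 10872)) (.node (.leaf 3006) (.leaf 6423))) (.node (.node (.leaf 715) (.leaf 4739)) (.leaf 6446))) (.node (.node (.node (.leaf 1752) (.leaf 4782)) (.node (.leaf 2163) (.leaf 10307))) (.node (.node (.leaf 2964) (.leaf 10696)) (.leaf 2967)))) (.node (.node (.node (.node (.leaf 181) (.leaf 9338)) (.node (.leaf 1977) (.leaf 7405))) (.node (.node (.leaf 3228) (.leaf 8904)) (.leaf 12754))) (.node (.node (.node (.leaf 507) (.leaf 9036)) (.node (.leaf 2377) (.leaf 10739))) (.node (.node (.leaf 2624) (.leaf 13270)) (.leaf 9459))))) (.node (.node (.node (.node (.node (.leaf 11134) (.leaf 12958)) (.node (.leaf 5472) (.leaf 9453))) (.node (.node (.leaf 1277) (.leaf 10062)) (.leaf 2597))) (.node (.node (.node (.leaf 2002) (.leaf 10766)) (.node (.leaf 7314) (.leaf 10525))) (.node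 (.node (.leaf 11782) (.leaf 7005)) (.leaf 3051)))) (.node (.node (.node (.node (.leaf 269) (.leaf 9178)) (.node (.leaf 2063) (.leaf 10089))) (.node (.node (.leaf 3724) (.leaf 5143)) (.leaf 4988))) (.node (.node (.node (.leaf 913) (.leaf 13102)) (.node (.leaf 2461) (.leaf 10981))) (.node (.node (.leaf 1821) (.leaf 6865)) (.leaf 10840))))))
def dFin_87 : BT := .node dFin_85 dFin_86
def dFin_88 : BT := .node (.node (.node (.node (.node (.node (.node (.leaf 11028) (.leaf 3259)) (.node (.leaf 2934) (.leaf 8780))) (.node (.node (.leaf 619) (.leaf 4653)) (.leaf 3758))) (.node (.node (.node (.leaf 953) (.leaf 4722)) (.node (.leaf 12302) (.leaf 10802))) (.node (.node (.leaf 11710) (.leaf 6054)) (.leaf 2921)))) (.node (.node (.node (.node (.leaf 11168) (.leaf 3719)) (.node (.leaf 1937) (.leaf 13364))) (.node (.node (.leaf 1327) (.leaf 10566)) (.leaf 2627))) (.node (.node (.node (.leaf 1180) (.leaf 13050)) (.node (.leaf 4108) (.leaf 10601))) (.node (.node (.leaf 1663) (.leaf 9666)) (.leaf 9564))))) (.node (.node (.node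 (.node (.node (.leaf 11084) (.leaf 10436)) (.node (.leaf 3030) (.leaf 6459))) (.node (.node (.leaf 1183) (.leaf 4781)) (.leaf 10392))) (.node (.node (.node (.leaf 1328) (.leaf 4650)) (.node (.leaf 6516) (.leaf 10367))) (.node (.node (.leaf 1774) (.leaf 11022)) (.leaf 3009)))) (.node (.node (.node (.node (.leaf 1292) (.leaf 3865)) (.node (.leaf 12186) (.leaf 10144))) (.node (.node (.leaf 3318) (.leaf 9626)) (.leaf 2737))) (.node (.node (.node (.leaf 910) (.leaf 8998)) (.node (.leaf 12552) (.leaf 10813))) (.node (.node (.leaf 1721) (.leaf 9642)) (.leaf 3197)))))) (.node (.node (.node (.node (.node (.node (.leaf 41) (.leaf 3551)) (.node (.leaf 2996) (.leaf 6401))) (.node (.node (.leaf 2580) (.leaf 4731)) (.leaf 6434))) (.node (.node (.node (.leaf 317) (.leaf 4768)) (.node (.leaf 12360) (.leaf 10281))) (.node (.node (.leaf 3048) (.leaf 5283)) (.leaf 2957)))) (.node (.node (.node (.node (.leaf 157) (.leaf 3765)) (.node (.leaf 4494) (.leaf 10736))) (.node (.node (.leaf 3166) (.leaf 8632)) (.leaf 12746))) (.node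 (.node (.node (.leaf 477) (.leaf 4389)) (.node (.leaf 2357) (.leaf 10703))) (.node (.node (.leaf 2614) (.leaf 5571)) (.leaf 12850))))) (.node (.node (.node (.node (.node (.leaf 95) (.leaf 3665)) (.node (.leaf 5420) (.leaf 6501))) (.node (.node (.leaf 2872) (.leaf 10522)) (.leaf 2571))) (.node (.node (.node (.leaf 1984) (.leaf 4153)) (.node (.leaf 2243) (.leaf 10499))) (.node (.node (.leaf 4214) (.leaf 5411)) (.leaf 3041)))) (.node (.node (.node (.node (.leaf 1478) (.leaf 10598)) (.node (.leaf 2764) (.leaf 10065))) (.node (.node (.leaf 3670) (.leaf 10648)) (.leaf 9771))) (.node (.node (.node (.leaf 2334) (.leaf 9450)) (.node (.leaf 2455) (.leaf 10955))) (.node (.node (.leaf 1801) (.leaf 13302)) (.leaf 3219))))))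
def dFin_89 : BT := .node (.node (.node (.node (.node (.node (.node (.leaf 11038) (.leaf 3309)) (.node (.leaf 2954) (.leaf 6239))) (.node (.node (.leaf 2194) (.leaf 4705)) (.leaf 6398))) (.node (.node (.node (.leaf 1150) (.leaf 4736)) (.node (.leaf 2384) (.leaf 10215))) (.node (.node (.leaf 1499) (.leaf 6095)) (.leaf 2937)))) (.node (.node (.node (.node (.leaf 11200) (.leaf 3757)) (.node (.leaf 5624) (.leaf 10330))) (.node (.node (.leaf 1371) (.leaf 4991)) (.leaf 12726))) (.node (.node (.node (.leaf 1206) (.leaf 8976)) (.node (.leaf 2452) (.leaf 10659))) (.node (.node (.leaf 2594) (.leaf 7518)) (.leaf 10236))))) (.node (.node (.node (.node (.node (.leaf 11110) (.leaf 5140)) (.node (.leaf 3064) (.leaf 9594))) (.node (.node (.leaf 1235) (.leaf 4811)) (.leaf 10040))) (.node (.node (.node (.leaf 1372) (.leaf 4838)) (.node (.leaf 12424) (.leaf 10439))) (.node (.node (.leaf 1798) (.leaf 7566)) (.leaf 3025)))) (.node (.node (.node (.node (.leaf 1412) (.leaf 10468)) (.node (.leaf 2734) (.leaf 10015))) (.node (.node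 (.leaf 11656) (.leaf 9567)) (.leaf 12786))) (.node (.node (.node (.leaf 2290) (.leaf 13086)) (.node (.leaf 12566) (.leaf 10914))) (.node (.node (.leaf 1777) (.leaf 6862)) (.leaf 7002)))))) (.node (.node (.node (.node (.node (.node (.leaf 11060) (.leaf 12930)) (.node (.leaf 3016) (.leaf 6433))) (.node (.node (.leaf 1149) (.leaf 13134)) (.leaf 6456))) (.node (.node (.node (.leaf 996) (.leaf 4796)) (.node (.leaf 2197) (.leaf 10333))) (.node (.node (.leaf 1559) (.leaf 9160)) (.leaf 2985)))) (.node (.node (.node (.node (.leaf 219) (.leaf 4150)) (.node (.leaf 1991) (.leaf 9035))) (.node (.node (.leaf 3264) (.leaf 5041)) (.leaf 12768))) (.node (.node (.node (.leaf 882) (.leaf 4497)) (.node (.leaf 2387) (.leaf 10769))) (.node (.node (.leaf 2636) (.leaf 5617)) (.leaf 9768))))) (.node (.node (.node (.node (.node (.leaf 11140) (.leaf 5280)) (.node (.leaf 3194) (.leaf 10278))) (.node (.node (.leaf 2898) (.leaf 8296)) (.leaf 2605))) (.node (.node (.node (.leaf 421) (.leaf 8674)) (.node (.leaf 12490) (.leaf 10551))) (.node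 (.node (.leaf 4396) (.leaf 10086)) (.leaf 3063)))) (.node (.node (.node (.node (.leaf 1500) (.leaf 3985)) (.node (.leaf 12274) (.leaf 10111))) (.node (.node (.leaf 3776) (.leaf 9798)) (.leaf 2851))) (.node (.node (.node (.leaf 1135) (.leaf 13112)) (.node (.leaf 12604) (.leaf 10993))) (.node (.node (.leaf 2918) (.leaf 13326)) (.leaf 6750))))))
def dFin_90 : BT := .node dFin_88 dFin_89
def dFin_91 : BT := .node dFin_87 dFin_90
def dFin_92 : BT := .node dFin_84 dFin_91
def dFin_93 : BT := .node dFin_77 dFin_92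
def dFin_94 : BT := .node (.node (.node (.node (.node (.node (.node (.leaf 3) (.leaf 6670)) (.node (.leaf 11954) (.leaf 9118))) (.node (.node (.leaf 11432) (.leaf 6935)) (.leaf 3582))) (.node (.node (.node (.leaf 1514) (.leaf 4009)) (.node (.leaf 3593) (.leaf 10153))) (.node (.node (.leaf 3668) (.leaf 13206)) (.leaf 2883)))) (.node (.node (.node (.node (.leaf 11146) (.leaf 9464)) (.node (.leaf 12106) (.leaf 13356))) (.node (.node (.leaf 2932) (.leaf 9896)) (.leaf 2609))) (.node (.node (.node (.leaf 1300) (.leaf 4205)) (.node (.leaf 12500) (.leaf 10579))) (.node (.node (.leaf 11802) (.leaf 5463)) (.leaf 3398))))) (.node (.node (.node (.node (.node (.leaf 11066) (.leaf 6833)) (.node (.leaf 1875) (.leaf 6441))) (.node (.node (.leaf 2656) (.leaf 10534)) (.leaf 3612))) (.node (.node (.node (.leaf 1838) (.leaf 4141)) (.node (.leaf 6442) (.leaf 10355))) (.node (.node (.leaf 3886) (.leaf 5354)) (.leaf 12820)))) (.node (.node (.node (.node (.leaf 243) (.leaf 3853)) (.node (.leaf 2884) (.leaf 9936))) (.node (.node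 (.leaf 11606) (.leaf 9512)) (.leaf 10202))) (.node (.node (.node (.leaf 1158) (.leaf 4533)) (.node (.leaf 3424) (.leaf 10787))) (.node (.node (.leaf 11908) (.leaf 13278)) (.leaf 12862)))))) (.node (.node (.node (.node (.node (.node (.leaf 32) (.leaf 3512)) (.node (.leaf 5008) (.leaf 6482))) (.node (.node (.leaf 2512) (.leaf 5418)) (.leaf 9467))) (.node (.node (.node (.leaf 1213) (.leaf 4059)) (.node (.leaf 12332) (.leaf 10257))) (.node (.node (.leaf 1513) (.leaf 5259)) (.leaf 3401)))) (.node (.node (.node (.node (.leaf 11206) (.leaf 10876)) (.node (.leaf 1959) (.leaf 10220))) (.node (.node (.leaf 11554) (.leaf 13172)) (.leaf 7018))) (.node (.node (.node (.leaf 1490) (.leaf 6267)) (.node (.leaf 9296) (.leaf 10675))) (.node (.node (.leaf 3623) (.leaf 7492)) (.leaf 4984))))) (.node (.node (.node (.node (.node (.leaf 372) (.leaf 9740)) (.node (.leaf 12068) (.leaf 9169))) (.node (.node (.leaf 2810) (.leaf 4845)) (.leaf 12672))) (.node (.node (.node (.leaf 1918) (.leaf 4117)) (.node (.leaf 12430) (.leaf 10461)))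 (.node (.node (.leaf 1619) (.leaf 7440)) (.leaf 3708)))) (.node (.node (.node (.node (.leaf 1434) (.leaf 3915)) (.node (.leaf 12214) (.leaf 10049))) (.node (.node (.leaf 3544) (.leaf 6616)) (.leaf 2809))) (.node (.node (.node (.leaf 1014) (.leaf 4597)) (.node (.leaf 9227) (.leaf 10907))) (.node (.node (.leaf 4648) (.leaf 9008)) (.leaf 3213))))))
def dFin_95 : BT := .node (.node (.node (.node (.node (.node (.node (.leaf 128) (.leaf 3502)) (.node (.leaf 5034) (.leaf 10254))) (.node (.node (.leaf 1146) (.leaf 7590)) (.leaf 6932))) (.node (.node (.node (.leaf 1640) (.leaf 4021)) (.node (.leaf 2089) (.leaf 10187))) (.node (.node (.leaf 1467) (.leaf 10726)) (.leaf 3511)))) (.node (.node (.node (.node (.leaf 11174) (.leaf 10708)) (.node (.leaf 3603) (.leaf 7265))) (.node (.node (.leaf 1335) (.leaf 13148)) (.leaf 7394))) (.node (.node (.node (.leaf 2090) (.leaf 7730)) (.node (.leaf 4114) (.leaf 10619))) (.node (.node (.leaf 11832) (.leaf 6812)) (.leaf 9382))))) (.node (.node (.node (.node (.node (.leaf 11090) (.leaf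 3581)) (.node (.leaf 3614) (.leaf 6489))) (.node (.node (.leaf 1193) (.leaf 4836)) (.leaf 8748))) (.node (.node (.node (.leaf 371) (.leaf 10938)) (.node (.leaf 12392) (.leaf 10401))) (.node (.node (.leaf 4092) (.leaf 10446)) (.leaf 3620)))) (.node (.node (.node (.node (.leaf 892) (.leaf 3885)) (.node (.leaf 3916) (.leaf 9987))) (.node (.node (.leaf 3222) (.leaf 6268)) (.leaf 4708))) (.node (.node (.node (.leaf 2222) (.leaf 10580)) (.node (.leaf 6436) (.leaf 10849))) (.node (.node (.leaf 1747) (.leaf 6816)) (.leaf 9793)))))) (.node (.node (.node (.node (.node (.node (.leaf 57) (.leaf 9381)) (.node (.leaf 5136) (.leaf 13346))) (.node (.node (.leaf 2168) (.leaf 10402)) (.leaf 2511))) (.node (.node (.node (.leaf 1215) (.leaf 10272)) (.node (.leaf 2167) (.leaf 10924))) (.node (.node (.leaf 3854) (.leaf 13222)) (.leaf 4060)))) (.node (.node (.node (.node (.leaf 185) (.leaf 3781)) (.node (.leaf 4526) (.leaf 7399))) (.node (.node (.leaf 1389) (.leaf 5015)) (.leaf 9861))) (.node (.node (.node (.leaf 1358) (.leaf 10964))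 (.node (.leaf 2369) (.leaf 10733))) (.node (.node (.leaf 4622) (.leaf 5593)) (.leaf 8472))))) (.node (.node (.node (.node (.node (.leaf 392) (.leaf 3687)) (.node (.leaf 1917) (.leaf 9117))) (.node (.node (.leaf 1281) (.leaf 9899)) (.leaf 3483))) (.node (.node (.node (.leaf 1262) (.leaf 9170)) (.node (.leaf 7266) (.leaf 10515))) (.node (.node (.leaf 1639) (.leaf 6615)) (.leaf 10590)))) (.node (.node (.node (.node (.leaf 1026) (.leaf 10758)) (.node (.leaf 5912) (.leaf 10136))) (.node (.node (.leaf 3688) (.leaf 5135)) (.leaf 3374))) (.node (.node (.node (.leaf 1144) (.leaf 4621)) (.node (.leaf 9849) (.leaf 10963))) (.node (.node (.leaf 1811) (.leaf 13308)) (.leaf 9228))))))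
def dFin_96 : BT := .node dFin_94 dFin_95
def dFin_97 : BT := .node (.node (.node (.node (.node (.node (.node (.leaf 76) (.leaf 12892)) (.node (.leaf 1837) (.leaf 10820))) (.node (.node (.leaf 11446) (.leaf 4655)) (.leaf 2477))) (.node (.node (.node (.leaf 1140) (.leaf 4019)) (.node (.leaf 12288) (.leaf 10177))) (.node (.node (.leaf 11704) (.leaf 9599)) (.leaf 3460)))) (.node (.node (.node (.node (.leaf 127) (.leaf 12964)) (.node (.leaf 5464) (.leaf 7021))) (.node (.node (.leaf 3020) (.leaf 8708)) (.leaf 12698))) (.node (.node (.node (.leaf 2044) (.leaf 13040)) (.node (.leaf 2305) (.leaf 10609))) (.node (.node (.leaf 11818) (.leaf 10372)) (.leaf 9554))))) (.node (.node (.node (.node (.node (.leaf 75) (.leaf 8606)) (.node (.leaf 5274) (.leaf 7288))) (.node (.node (.leaf 2730) (.leaf 9812)) (.leaf 3611))) (.node (.node (.node (.leaf 1876) (.leaf 4091)) (.node (.leaf 3366) (.leaf 10371))) (.node (.node (.leaf 4022) (.leaf 5353)) (.leaf 3648)))) (.node (.node (.node (.node (.leaf 1164) (.leaf 3869)) (.node (.leaf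 3477) (.leaf 9963))) (.node (.node (.leaf 3214) (.leaf 9610)) (.leaf 2729))) (.node (.node (.node (.leaf 904) (.leaf 8986)) (.node (.leaf 9998) (.leaf 10819))) (.node (.node (.leaf 1727) (.leaf 11000)) (.leaf 12874)))))) (.node (.node (.node (.node (.node (.node (.leaf 45) (.leaf 3543)) (.node (.leaf 5016) (.leaf 6405))) (.node (.node (.leaf 2548) (.leaf 4725)) (.leaf 12636))) (.node (.node (.node (.leaf 11292) (.leaf 7120)) (.node (.leaf 12346) (.leaf 10289))) (.node (.node (.leaf 3920) (.leaf 5273)) (.leaf 3411)))) (.node (.node (.node (.node (.leaf 161) (.leaf 6508)) (.node (.leaf 3484) (.leaf 9674))) (.node (.node (.leaf 11564) (.leaf 5007)) (.leaf 2655))) (.node (.node (.node (.leaf 1336) (.leaf 9866)) (.node (.leaf 6392) (.leaf 10711))) (.node (.node (.leaf 1697) (.leaf 5575)) (.leaf 8182))))) (.node (.node (.node (.node (.node (.leaf 11120) (.leaf 3667)) (.node (.leaf 4016) (.leaf 6507))) (.node (.node (.leaf 1261) (.leaf 7119)) (.leaf 10034))) (.node (.node (.node (.leaf 1960) (.leaf 13026)) (.node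 (.leaf 12446) (.leaf 10483))) (.node (.node (.leaf 3408) (.leaf 5417)) (.leaf 5576)))) (.node (.node (.node (.node (.leaf 1194) (.leaf 3919)) (.node (.leaf 4010) (.leaf 10556))) (.node (.node (.leaf 1433) (.leaf 10174)) (.leaf 10484))) (.node (.node (.node (.leaf 2306) (.leaf 9430)) (.node (.leaf 9804) (.leaf 10937))) (.node (.node (.leaf 1791) (.leaf 5861)) (.leaf 3221))))))
def dFin_98 : BT := .node (.node (.node (.node (.node (.node (.node (.leaf 17) (.leaf 8420)) (.node (.leaf 4206) (.leaf 6229))) (.node (.node (.leaf 2478) (.leaf 4707)) (.leaf 3594))) (.node (.node (.node (.leaf 1698) (.leaf 12996)) (.node (.leaf 6230) (.leaf 10219))) (.node (.node (.leaf 1489) (.leaf 5862)) (.leaf 2931)))) (.node (.node (.node (.node (.leaf 11190) (.leaf 3753)) (.node (.leaf 5594) (.leaf 7297))) (.node (.node (.leaf 1357) (.leaf 4995)) (.leaf 12716))) (.node (.node (.node (.leaf 1468) (.leaf 4365)) (.node (.leaf 5180) (.leaf 10788))) (.node (.node (.leaf 4490) (.leaf 13258)) (.leaf 3782))))) (.node (.node (.node (.node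 (.node (.leaf 11102) (.leaf 3651)) (.node (.leaf 5260) (.leaf 9544))) (.node (.node (.leaf 1221) (.leaf 4814)) (.leaf 2547))) (.node (.node (.node (.leaf 391) (.leaf 4139)) (.node (.leaf 2221) (.leaf 10429))) (.node (.node (.leaf 1603) (.leaf 6712)) (.leaf 3019)))) (.node (.node (.node (.node (.leaf 1390) (.leaf 12984)) (.node (.leaf 2043) (.leaf 9997))) (.node (.node (.leaf 11640) (.leaf 8684)) (.leaf 3508))) (.node (.node (.node (.leaf 11400) (.leaf 9547)) (.node (.leaf 7540) (.leaf 10875))) (.node (.node (.leaf 4726) (.leaf 9557)) (.leaf 10638)))))) (.node (.node (.node (.node (.node (.node (.leaf 244) (.leaf 12924)) (.node (.leaf 3616) (.leaf 6439))) (.node (.node (.leaf 2610) (.leaf 10480)) (.leaf 10316))) (.node (.node (.node (.leaf 11310) (.leaf 4136)) (.node (.leaf 3748) (.leaf 10315))) (.node (.node (.leaf 3870) (.leaf 10850)) (.leaf 8320)))) (.node (.node (.node (.node (.leaf 211) (.leaf 9850)) (.node (.leaf 2856) (.leaf 13380))) (.node (.node (.leaf 11592) (.leaf 5033)) (.leaf 12760))) (.node (.node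 (.node (.leaf 541) (.leaf 4489)) (.node (.leaf 3515) (.leaf 10775))) (.node (.node (.leaf 4594) (.leaf 13274)) (.leaf 10352))))) (.node (.node (.node (.node (.node (.leaf 542) (.leaf 3703)) (.node (.leaf 3478) (.leaf 9815))) (.node (.node (.leaf 1299) (.leaf 8282)) (.leaf 3619))) (.node (.node (.node (.leaf 1282) (.leaf 6767)) (.node (.leaf 12478) (.leaf 10545))) (.node (.node (.leaf 4366) (.leaf 9950)) (.leaf 10676)))) (.node (.node (.node (.node (.leaf 1222) (.leaf 9988)) (.node (.leaf 12262) (.leaf 10118))) (.node (.node (.leaf 3365) (.leaf 5185)) (.leaf 2855))) (.node (.node (.node (.leaf 2370) (.leaf 13108)) (.node (.leaf 12590) (.leaf 10999))) (.node (.node (.leaf 3475) (.leaf 5911)) (.leaf 6740))))))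
def dFin_99 : BT := .node dFin_97 dFin_98
def dFin_100 : BT := .node dFin_96 dFin_99
def dFin_101 : BT := .node (.node (.node (.node (.node (.node (.node (.leaf 26) (.leaf 7012)) (.node (.leaf 2474) (.leaf 10464))) (.node (.node (.leaf 11436) (.leaf 9092)) (.leaf 12606))) (.node (.node (.node (.leaf 596) (.leaf 7400)) (.node (.leaf 2646) (.leaf 10143))) (.node (.node (.leaf 2288) (.leaf 5197)) (.leaf 2895)))) (.node (.node (.node (.node (.leaf 11148) (.leaf 12960)) (.node (.leaf 1929) (.leaf 9248))) (.node (.node (.leaf 2192) (.leaf 9910)) (.leaf 12692))) (.node (.node (.node (.leaf 437) (.leaf 4213)) (.node (.leaf 12508) (.leaf 10573))) (.node (.node (.leaf 2394) (.leaf 5471)) (.leaf 6486))))) (.node (.node (.node (.node (.node (.leaf 124) (.leaf 12932)) (.node (.leaf 2514) (.leaf 10684))) (.node (.node (.leaf 11496) (.leaf 4763)) (.leaf 12648))) (.node (.node (.node (.leaf 666) (.leaf 9928)) (.node (.leaf 12382) (.leaf 10343))) (.node (.node (.leaf 1585) (.leaf 13226)) (.leaf 2993)))) (.node (.node (.node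 (.node (.leaf 544) (.leaf 3849)) (.node (.leaf 2017) (.leaf 9925))) (.node (.node (.leaf 11614) (.leaf 10208)) (.leaf 2721))) (.node (.node (.node (.leaf 11378) (.leaf 10036)) (.node (.leaf 12544) (.leaf 10781))) (.node (.node (.leaf 1715) (.leaf 9876)) (.leaf 12870)))))) (.node (.node (.node (.node (.node (.node (.leaf 11044) (.leaf 12910)) (.node (.leaf 1849) (.leaf 9539))) (.node (.node (.leaf 11472) (.leaf 13126)) (.leaf 12632))) (.node (.node (.node (.leaf 309) (.leaf 4051)) (.node (.leaf 2672) (.leaf 10243))) (.node (.node (.leaf 2314) (.leaf 5267)) (.leaf 6380)))) (.node (.node (.node (.node (.leaf 11212) (.leaf 7322)) (.node (.leaf 2550) (.leaf 9779))) (.node (.node (.leaf 2212) (.leaf 10188)) (.leaf 12728))) (.node (.node (.node (.leaf 467) (.leaf 6263)) (.node (.leaf 12528) (.leaf 10683))) (.node (.node (.leaf 2418) (.leaf 5531)) (.leaf 6514))))) (.node (.node (.node (.node (.node (.leaf 87) (.leaf 12950)) (.node (.leaf 1950) (.leaf 9143))) (.node (.node (.leaf 1251) (.leaf 10140)) (.leaf 12674)))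 (.node (.node (.node (.leaf 11332) (.leaf 9972)) (.node (.leaf 12432) (.leaf 10467))) (.node (.node (.leaf 1627) (.leaf 5403)) (.leaf 6454)))) (.node (.node (.node (.node (.leaf 568) (.leaf 3911)) (.node (.leaf 2622) (.leaf 10039))) (.node (.node (.leaf 11662) (.leaf 13186)) (.leaf 2813))) (.node (.node (.node (.leaf 11408) (.leaf 9231)) (.node (.leaf 12574) (.leaf 10913))) (.node (.node (.leaf 2458) (.leaf 9014)) (.leaf 3211))))))
def dFin_102 : BT := .node (.node (.node (.node (.node (.node (.node (.leaf 11032) (.leaf 12902)) (.node (.leaf 2486) (.leaf 9335))) (.node (.node (.leaf 11462) (.leaf 4667)) (.leaf 12618))) (.node (.node (.node (.leaf 612) (.leaf 5182)) (.node (.leaf 2658) (.leaf 10191))) (.node (.node (.leaf 1475) (.leaf 10302)) (.leaf 3546)))) (.node (.node (.node (.node (.leaf 11182) (.leaf 3733)) (.node (.leaf 2534) (.leaf 10694))) (.node (.node (.leaf 1331) (.leaf 6170)) (.leaf 12710))) (.node (.node (.node (.leaf 734) (.leaf 6895)) (.node (.leaf 12522) (.leaf 10623))) (.node (.node (.leaf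 11846) (.leaf 5748)) (.leaf 6498))))) (.node (.node (.node (.node (.node (.leaf 136) (.leaf 12944)) (.node (.leaf 2526) (.leaf 9103))) (.node (.node (.leaf 1189) (.leaf 10082)) (.leaf 12658))) (.node (.node (.node (.leaf 369) (.leaf 7580)) (.node (.leaf 12402) (.leaf 10974))) (.node (.node (.leaf 2346) (.leaf 5582)) (.leaf 6430)))) (.node (.node (.node (.node (.leaf 560) (.leaf 3893)) (.node (.leaf 2602) (.leaf 9979))) (.node (.node (.leaf 2248) (.leaf 5069)) (.leaf 2763))) (.node (.node (.node (.leaf 11390) (.leaf 10060)) (.node (.leaf 12556) (.leaf 10865))) (.node (.node (.leaf 1749) (.leaf 9326)) (.leaf 6902)))))) (.node (.node (.node (.node (.node (.node (.leaf 63) (.leaf 12920)) (.node (.leaf 2502) (.leaf 9133))) (.node (.node (.leaf 11486) (.leaf 9069)) (.leaf 12644))) (.node (.node (.node (.leaf 333) (.leaf 4077)) (.node (.leaf 12366) (.leaf 10734))) (.node (.node (.leaf 1543) (.leaf 10344)) (.leaf 2963)))) (.node (.node (.node (.node (.leaf 11224) (.leaf 3789)) (.node (.leaf 2576) (.leaf 10834)))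 (.node (.node (.leaf 2224) (.leaf 5019)) (.leaf 12750))) (.node (.node (.node (.leaf 505) (.leaf 6021)) (.node (.leaf 12536) (.leaf 10910))) (.node (.node (.leaf 2430) (.leaf 9085)) (.leaf 6530))))) (.node (.node (.node (.node (.node (.leaf 107) (.leaf 7270)) (.node (.leaf 1962) (.leaf 9105))) (.node (.node (.leaf 2180) (.leaf 10160)) (.leaf 12680))) (.node (.node (.node (.leaf 413) (.leaf 4189)) (.node (.leaf 12468) (.leaf 10521))) (.node (.node (.leaf 2372) (.leaf 5638)) (.leaf 3043)))) (.node (.node (.node (.node (.leaf 574) (.leaf 3941)) (.node (.leaf 2055) (.leaf 10085))) (.node (.node (.leaf 2276) (.leaf 9405)) (.leaf 2829))) (.node (.node (.node (.leaf 11418) (.leaf 9673)) (.node (.leaf 12586) (.leaf 10977))) (.node (.node (.leaf 1819) (.leaf 13316)) (.leaf 6924))))))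
def dFin_103 : BT := .node dFin_101 dFin_102
def dFin_104 : BT := .node (.node (.node (.node (.node (.node (.node (.leaf 24) (.leaf 12896)) (.node (.leaf 2480) (.leaf 13332))) (.node (.node (.leaf 11450) (.leaf 9284)) (.leaf 12610))) (.node (.node (.node (.leaf 606) (.leaf 5598)) (.node (.leaf 2652) (.leaf 10167))) (.node (.node (.leaf 1457) (.leaf 6583)) (.leaf 12802)))) (.node (.node (.node (.node (.leaf 11164) (.leaf 7312)) (.node (.leaf 1982) (.leaf 9216))) (.node (.node (.leaf 2200) (.leaf 9891)) (.leaf 12704))) (.node (.node (.node (.leaf 730) (.leaf 4309)) (.node (.leaf 12516) (.leaf 10597))) (.node (.node (.leaf 1669) (.leaf 5744)) (.leaf 6494))))) (.node (.node (.node (.node (.node (.leaf 130) (.leaf 12934)) (.node (.leaf 2520) (.leaf 9164))) (.node (.node (.leaf 1179) (.leaf 4779)) (.leaf 12656))) (.node (.node (.node (.leaf 670) (.leaf 9270)) (.node (.leaf 12386) (.leaf 11016))) (.node (.node (.leaf 2342) (.leaf 5349)) (.leaf 6418)))) (.node (.node (.node (.node (.leaf 552) (.leaf 4104)) (.node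 (.leaf 2592) (.leaf 9955))) (.node (.node (.leaf 1401) (.leaf 10244)) (.leaf 2733))) (.node (.node (.node (.leaf 11382) (.leaf 8994)) (.node (.leaf 12548) (.leaf 10960))) (.node (.node (.leaf 1731) (.leaf 10432)) (.leaf 4492)))))) (.node (.node (.node (.node (.node (.node (.leaf 192) (.leaf 12918)) (.node (.leaf 1861) (.leaf 9691))) (.node (.node (.leaf 11482) (.leaf 9808)) (.leaf 12638))) (.node (.node (.node (.leaf 624) (.leaf 4067)) (.node (.leaf 2111) (.leaf 10277))) (.node (.node (.leaf 1537) (.leaf 10328)) (.leaf 6396)))) (.node (.node (.node (.node (.leaf 169) (.leaf 12974)) (.node (.leaf 2566) (.leaf 10888))) (.node (.node (.leaf 2218) (.leaf 5005)) (.leaf 12742))) (.node (.node (.node (.leaf 483) (.leaf 4395)) (.node (.leaf 12532) (.leaf 10701))) (.node (.node (.leaf 11882) (.leaf 10386)) (.leaf 3121))))) (.node (.node (.node (.node (.node (.leaf 148) (.leaf 12954)) (.node (.leaf 1956) (.leaf 13350))) (.node (.node (.leaf 1257) (.leaf 7113)) (.leaf 12678))) (.node (.node (.node (.leaf 712) (.leaf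 4145)) (.node (.leaf 12456) (.leaf 10495))) (.node (.node (.leaf 2352) (.leaf 5622)) (.leaf 12828)))) (.node (.node (.node (.node (.leaf 263) (.leaf 3925)) (.node (.leaf 2634) (.leaf 10810))) (.node (.node (.leaf 11674) (.leaf 6809)) (.leaf 2821))) (.node (.node (.node (.leaf 11414) (.leaf 9456)) (.node (.leaf 12582) (.leaf 10931))) (.node (.node (.leaf 1785) (.leaf 5855)) (.leaf 12882))))))
def dFin_105 : BT := .node (.node (.node (.node (.node (.node (.node (.leaf 13) (.leaf 3315)) (.node (.leaf 2494) (.leaf 7658))) (.node (.node (.leaf 11466) (.leaf 4701)) (.leaf 12624))) (.node (.node (.node (.leaf 616) (.leaf 7426)) (.node (.leaf 2664) (.leaf 10211))) (.node (.node (.leaf 1497) (.leaf 5233)) (.leaf 3750)))) (.node (.node (.node (.node (.leaf 11196) (.leaf 12970)) (.node (.leaf 2542) (.leaf 9372))) (.node (.node (.leaf 1369) (.leaf 4987)) (.leaf 12722))) (.node (.node (.node (.leaf 447) (.leaf 4371)) (.node (.leaf 12526) (.leaf 10657))) (.node (.node (.leaf 2412) (.leaf 5509)) (.leaf 3105))))) (.node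 (.node (.node (.node (.node (.leaf 142) (.leaf 12948)) (.node (.leaf 1893) (.leaf 9562))) (.node (.node (.leaf 1233) (.leaf 10108)) (.leaf 12668))) (.node (.node (.node (.leaf 395) (.leaf 9952)) (.node (.leaf 12420) (.leaf 10435))) (.node (.node (.leaf 1597) (.leaf 13238)) (.leaf 6444)))) (.node (.node (.node (.node (.leaf 564) (.leaf 3903)) (.node (.leaf 2612) (.leaf 10011))) (.node (.node (.leaf 11652) (.leaf 5083)) (.leaf 2805))) (.node (.node (.node (.leaf 11404) (.leaf 9099)) (.node (.leaf 12562) (.leaf 10891))) (.node (.node (.leaf 2450) (.leaf 6860)) (.leaf 12876)))))) (.node (.node (.node (.node (.node (.node (.leaf 118) (.leaf 12926)) (.node (.leaf 2508) (.leaf 9135))) (.node (.node (.leaf 11490) (.leaf 4753)) (.leaf 12646))) (.node (.node (.node (.leaf 644) (.leaf 9262)) (.node (.leaf 12372) (.leaf 10866))) (.node (.node (.leaf 2332) (.leaf 5301)) (.leaf 2979)))) (.node (.node (.node (.node (.leaf 217) (.leaf 3843)) (.node (.leaf 1999) (.leaf 9031))) (.node (.node (.leaf 2230) (.leaf 6944)) (.leaf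 12764))) (.node (.node (.node (.leaf 11372) (.leaf 10008)) (.node (.leaf 12540) (.leaf 10765))) (.node (.node (.leaf 2436) (.leaf 10416)) (.leaf 12858))))) (.node (.node (.node (.node (.node (.leaf 11138) (.leaf 7290)) (.node (.leaf 1974) (.leaf 10518))) (.node (.node (.leaf 1311) (.leaf 4899)) (.leaf 12684))) (.node (.node (.node (.leaf 720) (.leaf 6762)) (.node (.leaf 12486) (.leaf 10644))) (.node (.node (.leaf 2382) (.leaf 5441)) (.leaf 3061)))) (.node (.node (.node (.node (.leaf 279) (.leaf 3983)) (.node (.leaf 2071) (.leaf 10107))) (.node (.node (.leaf 2282) (.leaf 10274)) (.leaf 2869))) (.node (.node (.node (.leaf 11424) (.leaf 9316)) (.node (.leaf 12600) (.leaf 11015))) (.node (.node (.leaf 2468) (.leaf 5909)) (.leaf 6746))))))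
def dFin_106 : BT := .node dFin_104 dFin_105
def dFin_107 : BT := .node dFin_103 dFin_106
def dFin_108 : BT := .node dFin_100 dFin_107
def dFin_109 : BT := .node (.node (.node (.node (.node (.node (.node (.leaf 7) (.leaf 10262)) (.node (.leaf 11962) (.leaf 10516))) (.node (.node (.leaf 2434) (.leaf 7424)) (.leaf 8642))) (.node (.node (.node (.leaf 1117) (.leaf 4007)) (.node (.leaf 3591) (.leaf 10129))) (.node (.node (.leaf 3774) (.leaf 7104)) (.leaf 2891)))) (.node (.node (.node (.node (.leaf 602) (.leaf 9472)) (.node (.leaf 5514) (.leaf 6915))) (.node (.node (.leaf 2952) (.leaf 9902)) (.leaf 7396))) (.node (.node (.node (.leaf 1308) (.leaf 4209)) (.node (.leaf 12504) (.leaf 10571))) (.node (.node (.leaf 1647) (.leaf 13250)) (.leaf 4742))))) (.node (.node (.node (.node (.node (.leaf 298) (.leaf 6839)) (.node (.leaf 3598) (.leaf 10380))) (.node (.node (.leaf 2668) (.leaf 9122)) (.leaf 2523))) (.node (.node (.node (.leaf 1846) (.leaf 6840)) (.node (.leaf 12378) (.leaf 10363))) (.node (.node (.leaf 1583) (.leaf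 5315)) (.leaf 8310)))) (.node (.node (.node (.node (.leaf 872) (.leaf 3859)) (.node (.leaf 2892) (.leaf 9941))) (.node (.node (.leaf 1397) (.leaf 9520)) (.leaf 6999))) (.node (.node (.node (.leaf 1126) (.leaf 4521)) (.node (.leaf 2389) (.leaf 10795))) (.node (.node (.leaf 4662) (.leaf 5637)) (.leaf 12866)))))) (.node (.node (.node (.node (.node (.node (.leaf 36) (.leaf 3434)) (.node (.leaf 11998) (.leaf 10970))) (.node (.node (.leaf 2524) (.leaf 6857)) (.leaf 10266))) (.node (.node (.node (.leaf 1608) (.leaf 4065)) (.node (.leaf 2097) (.leaf 10241))) (.node (.node (.leaf 1520) (.leaf 5358)) (.leaf 10410)))) (.node (.node (.node (.node (.leaf 11210) (.leaf 6590)) (.node (.leaf 3486) (.leaf 10322))) (.node (.node (.leaf 11558) (.leaf 10666)) (.leaf 8380))) (.node (.node (.node (.leaf 463) (.leaf 7636)) (.node (.leaf 9944) (.leaf 11008))) (.node (.node (.leaf 4558) (.leaf 7500)) (.leaf 9207))))) (.node (.node (.node (.node (.node (.leaf 450) (.leaf 10858)) (.node (.leaf 3930) (.leaf 10490))) (.node (.node (.leaf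 2826) (.leaf 4831)) (.leaf 2563))) (.node (.node (.node (.leaf 1926) (.leaf 4120)) (.node (.leaf 6916) (.leaf 10477))) (.node (.node (.leaf 1623) (.leaf 7448)) (.leaf 3710)))) (.node (.node (.node (.node (.leaf 1442) (.leaf 6621)) (.node (.leaf 12218) (.leaf 10029))) (.node (.node (.leaf 3564) (.leaf 6622)) (.leaf 3392))) (.node (.node (.node (.leaf 1018) (.leaf 4591)) (.node (.leaf 2433) (.leaf 10908))) (.node (.node (.leaf 4832) (.leaf 9868)) (.leaf 8566))))))
def dFin_110 : BT := .node (.node (.node (.node (.node (.node (.node (.leaf 140) (.leaf 3291)) (.node (.leaf 11982) (.leaf 6165))) (.node (.node (.leaf 11460) (.leaf 4661)) (.leaf 12616))) (.node (.node (.node (.leaf 1648) (.leaf 4027)) (.node (.leaf 12312) (.leaf 10620))) (.node (.node (.leaf 1471) (.leaf 6067)) (.leaf 12806)))) (.node (.node (.node (.node (.leaf 11178) (.leaf 9366)) (.node (.leaf 3601) (.leaf 7279))) (.node (.node (.leaf 1343) (.leaf 13156)) (.leaf 2629))) (.node (.node (.node (.leaf 2098) (.leaf 7734)) (.node (.leaf 2329) (.leaf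 10633))) (.node (.node (.leaf 11840) (.leaf 13254)) (.leaf 10716))))) (.node (.node (.node (.node (.node (.leaf 11094) (.leaf 12940)) (.node (.leaf 1883) (.leaf 9107))) (.node (.node (.leaf 1201) (.leaf 4801)) (.leaf 8756))) (.node (.node (.node (.leaf 1472) (.leaf 7572)) (.node (.leaf 12396) (.leaf 10409))) (.node (.node (.leaf 4100) (.leaf 10592)) (.leaf 10584)))) (.node (.node (.node (.node (.leaf 253) (.leaf 3891)) (.node (.leaf 5434) (.leaf 9993))) (.node (.node (.leaf 3292) (.leaf 8698)) (.leaf 2757))) (.node (.node (.node (.leaf 11388) (.leaf 4557)) (.node (.leaf 10052) (.leaf 10857))) (.node (.node (.leaf 1816) (.leaf 10124)) (.leaf 9789)))))) (.node (.node (.node (.node (.node (.node (.leaf 61) (.leaf 9365)) (.node (.leaf 5174) (.leaf 9794))) (.node (.node (.leaf 2176) (.leaf 4745)) (.leaf 3604))) (.node (.node (.node (.leaf 1624) (.leaf 9475)) (.node (.leaf 2175) (.leaf 10300))) (.node (.node (.leaf 1553) (.leaf 9715)) (.leaf 2975)))) (.node (.node (.node (.node (.leaf 189) (.leaf 3785)) (.node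 (.leaf 4502) (.leaf 7407))) (.node (.node (.leaf 11584) (.leaf 8894)) (.leaf 9830))) (.node (.node (.node (.leaf 1230) (.leaf 9108)) (.node (.leaf 3432) (.leaf 10730))) (.node (.node (.leaf 4626) (.leaf 13266)) (.leaf 12854))))) (.node (.node (.node (.node (.node (.leaf 464) (.leaf 3713)) (.node (.leaf 3480) (.leaf 9121))) (.node (.node (.leaf 1289) (.leaf 9089)) (.leaf 3489))) (.node (.node (.node (.leaf 1270) (.leaf 4191)) (.node (.leaf 7282) (.leaf 10531))) (.node (.node (.leaf 11774) (.leaf 5433)) (.leaf 10430)))) (.node (.node (.node (.node (.leaf 11262) (.leaf 10360)) (.node (.leaf 12252) (.leaf 10093))) (.node (.node (.leaf 3698) (.leaf 5151)) (.leaf 2825))) (.node (.node (.node (.leaf 601) (.leaf 13098)) (.node (.leaf 10130) (.leaf 10987))) (.node (.node (.leaf 1815) (.leaf 5899)) (.leaf 3243))))))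
def dFin_111 : BT := .node dFin_109 dFin_110
def dFin_112 : BT := .node (.node (.node (.node (.node (.node (.node (.leaf 84) (.leaf 10828)) (.node (.leaf 4210) (.leaf 5993))) (.node (.node (.leaf 1008) (.leaf 4794)) (.leaf 3588))) (.node (.node (.node (.leaf 297) (.leaf 5900)) (.node (.leaf 6166) (.leaf 10165))) (.node (.node (.leaf 3786) (.leaf 5211)) (.leaf 3464)))) (.node (.node (.node (.node (.leaf 11162) (.leaf 5278)) (.node (.leaf 3192) (.leaf 9212))) (.node (.node (.leaf 3036) (.leaf 8714)) (.leaf 12702))) (.node (.node (.node (.leaf 2052) (.leaf 4307)) (.node (.leaf 2312) (.leaf 10611))) (.node (.node (.leaf 11822) (.leaf 9658)) (.leaf 9570))))) (.node (.node (.node (.node (.node (.leaf 11080) (.leaf 8614)) (.node (.leaf 12046) (.leaf 7276))) (.node (.node (.leaf 2758) (.leaf 8868)) (.leaf 3607))) (.node (.node (.node (.leaf 1884) (.leaf 4133)) (.node (.leaf 3368) (.leaf 10379))) (.node (.node (.leaf 11746) (.leaf 5357)) (.leaf 9786)))) (.node (.node (.node (.node (.leaf 1132) (.leaf 3875)) (.node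 (.leaf 3495) (.leaf 9943))) (.node (.node (.leaf 11628) (.leaf 9618)) (.leaf 4698))) (.node (.node (.node (.leaf 555) (.leaf 10796)) (.node (.leaf 10030) (.leaf 10827))) (.node (.node (.leaf 1796) (.leaf 9650)) (.leaf 3191)))))) (.node (.node (.node (.node (.node (.node (.leaf 49) (.leaf 12916)) (.node (.leaf 12008) (.leaf 6389))) (.node (.node (.leaf 2564) (.leaf 10462)) (.leaf 9905))) (.node (.node (.node (.leaf 11296) (.leaf 13002)) (.node (.leaf 12354) (.leaf 10265))) (.node (.node (.leaf 11730) (.leaf 5289)) (.leaf 2951)))) (.node (.node (.node (.node (.leaf 165) (.leaf 3773)) (.node (.leaf 1971) (.leaf 7332))) (.node (.node (.leaf 11568) (.leaf 13178)) (.leaf 12740))) (.node (.node (.node (.leaf 1202) (.leaf 9829)) (.node (.leaf 3744) (.leaf 10719))) (.node (.node (.leaf 4592) (.leaf 5579)) (.leaf 12846))))) (.node (.node (.node (.node (.node (.leaf 11124) (.leaf 6512)) (.node (.leaf 12086) (.leaf 6511))) (.node (.node (.leaf 1269) (.leaf 7109)) (.leaf 10024))) (.node (.node (.node (.leaf 1972) (.leaf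 5444)) (.node (.leaf 12454) (.leaf 10507))) (.node (.node (.leaf 3404) (.leaf 9573)) (.leaf 3035)))) (.node (.node (.node (.node (.leaf 1344) (.leaf 3929)) (.node (.leaf 2051) (.leaf 10051))) (.node (.node (.leaf 3395) (.leaf 6799)) (.leaf 4184))) (.node (.node (.node (.leaf 1121) (.leaf 9438)) (.node (.leaf 3656) (.leaf 10945))) (.node (.node (.leaf 1795) (.leaf 10182)) (.leaf 3470))))))
def dFin_113 : BT := .node (.node (.node (.node (.node (.node (.node (.leaf 21) (.leaf 8424)) (.node (.leaf 1845) (.leaf 6243))) (.node (.node (.leaf 2490) (.leaf 4711)) (.leaf 2489))) (.node (.node (.node (.leaf 1706) (.leaf 5048)) (.node (.leaf 6244) (.leaf 10227))) (.node (.node (.leaf 1493) (.leaf 6804)) (.leaf 3403)))) (.node (.node (.node (.node (.leaf 139) (.leaf 3755)) (.node (.leaf 12138) (.leaf 7281))) (.node (.node (.leaf 1365) (.leaf 13166)) (.leaf 12720))) (.node (.node (.node (.leaf 449) (.leaf 4377)) (.node (.leaf 5152) (.leaf 10655))) (.node (.node (.leaf 4522) (.leaf 5513)) (.leaf 12834))))) (.node (.node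 (.node (.node (.node (.leaf 83) (.leaf 3655)) (.node (.leaf 5316) (.leaf 9584))) (.node (.node (.leaf 1229) (.leaf 6632)) (.leaf 12664))) (.node (.node (.node (.leaf 1494) (.leaf 4099)) (.node (.leaf 12416) (.leaf 10453))) (.node (.node (.leaf 1607) (.leaf 13234)) (.leaf 5580)))) (.node (.node (.node (.node (.leaf 1398) (.leaf 4032)) (.node (.leaf 4004) (.leaf 10021))) (.node (.node (.leaf 11644) (.leaf 8688)) (.leaf 4310))) (.node (.node (.node (.leaf 2280) (.leaf 13082)) (.node (.leaf 7544) (.leaf 10882))) (.node (.node (.leaf 4748) (.leaf 6854)) (.leaf 7000)))))) (.node (.node (.node (.node (.node (.node (.leaf 254) (.leaf 3563)) (.node (.leaf 12028) (.leaf 10546))) (.node (.node (.leaf 2630) (.leaf 4747)) (.leaf 10206))) (.node (.node (.node (.leaf 11314) (.leaf 4134)) (.node (.leaf 6390) (.leaf 10337))) (.node (.node (.leaf 1569) (.leaf 9700)) (.leaf 8324)))) (.node (.node (.node (.node (.leaf 215) (.leaf 10080)) (.node (.leaf 2864) (.leaf 7431))) (.node (.node (.leaf 3244) (.leaf 5047)) (.leaf 2667)))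 (.node (.node (.node (.leaf 880) (.leaf 4501)) (.node (.leaf 3439) (.leaf 10751))) (.node (.node (.leaf 1705) (.leaf 9587)) (.leaf 10752))))) (.node (.node (.node (.node (.node (.leaf 556) (.leaf 3697)) (.node (.leaf 1925) (.leaf 9819))) (.node (.node (.leaf 1307) (.leaf 8290)) (.leaf 5644))) (.node (.node (.node (.leaf 1290) (.leaf 9934)) (.node (.leaf 2279) (.leaf 10561))) (.node (.node (.leaf 4378) (.leaf 5443)) (.leaf 9653)))) (.node (.node (.node (.node (.leaf 1366) (.leaf 3979)) (.node (.leaf 5996) (.leaf 10127))) (.node (.node (.leaf 1441) (.leaf 5173)) (.leaf 2863))) (.node (.node (.node (.leaf 2390) (.leaf 4625)) (.node (.leaf 12598) (.leaf 11007))) (.node (.node (.leaf 3473) (.leaf 10946)) (.leaf 6744))))))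
def dFin_114 : BT := .node dFin_112 dFin_113
def dFin_115 : BT := .node dFin_111 dFin_114
def dFin_116 : BT := .node (.node (.node (.node (.node (.node (.node (.leaf 11026) (.leaf 9214)) (.node (.leaf 11968) (.leaf 6973))) (.node (.node (.leaf 11442) (.leaf 9045)) (.leaf 8646))) (.node (.node (.node (.leaf 11272) (.leaf 10836)) (.node (.leaf 12284) (.leaf 10139))) (.node (.node (.leaf 11696) (.leaf 5193)) (.leaf 2879)))) (.node (.node (.node (.node (.leaf 11152) (.leaf 9480)) (.node (.leaf 1935) (.leaf 9245))) (.node (.node (.leaf 11542) (.leaf 9908)) (.leaf 12694))) (.node (.node (.node (.leaf 431) (.leaf 4217)) (.node (.leaf 12512) (.leaf 10652))) (.node (.node (.leaf 11812) (.leaf 10044)) (.leaf 9067))))) (.node (.node (.node (.node (.node (.leaf 11070) (.leaf 9324)) (.node (.leaf 12040) (.leaf 10602))) (.node (.node (.leaf 11502) (.leaf 4773)) (.leaf 9912))) (.node (.node (.node (.leaf 11318) (.leaf 9304)) (.node (.leaf 12384) (.leaf 10347))) (.node (.node (.leaf 1573) (.leaf 5313)) (.leaf 2989)))) (.node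 (.node (.node (.node (.leaf 11244) (.leaf 3863)) (.node (.leaf 2011) (.leaf 9931))) (.node (.node (.leaf 11618) (.leaf 9702)) (.leaf 2727))) (.node (.node (.node (.leaf 11380) (.leaf 9322)) (.node (.leaf 7704) (.leaf 10809))) (.node (.node (.leaf 1709) (.leaf 10170)) (.leaf 7014)))))) (.node (.node (.node (.node (.node (.node (.leaf 11048) (.leaf 7652)) (.node (.leaf 1855) (.leaf 9543))) (.node (.node (.leaf 11474) (.leaf 9079)) (.leaf 9363))) (.node (.node (.node (.leaf 315) (.leaf 4122)) (.node (.leaf 12338) (.leaf 10249))) (.node (.node (.leaf 11726) (.leaf 5257)) (.leaf 9553)))) (.node (.node (.node (.node (.leaf 11216) (.leaf 10896)) (.node (.leaf 12152) (.leaf 9781))) (.node (.node (.leaf 11560) (.leaf 6102)) (.leaf 8386))) (.node (.node (.node (.leaf 461) (.leaf 6954)) (.node (.leaf 9839) (.leaf 10669))) (.node (.node (.leaf 11874) (.leaf 5533)) (.leaf 12838))))) (.node (.node (.node (.node (.node (.leaf 93) (.leaf 9750)) (.node (.leaf 2536) (.leaf 9167))) (.node (.node (.leaf 1255) (.leaf 9312)) (.leaf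 8732))) (.node (.node (.node (.leaf 1530) (.leaf 9494)) (.node (.leaf 12440) (.leaf 10475))) (.node (.node (.leaf 1613) (.leaf 5409)) (.leaf 9152)))) (.node (.node (.node (.node (.leaf 11256) (.leaf 3913)) (.node (.leaf 12230) (.leaf 10047))) (.node (.node (.leaf 11666) (.leaf 9907)) (.leaf 12798))) (.node (.node (.node (.leaf 11410) (.leaf 9239)) (.node (.leaf 9235) (.leaf 10921))) (.node (.node (.leaf 11934) (.leaf 9022)) (.leaf 3217))))))
def dFin_117 : BT := .node (.node (.node (.node (.node (.node (.node (.leaf 11036) (.leaf 8404)) (.node (.leaf 11984) (.leaf 9347))) (.node (.node (.leaf 11464) (.leaf 4659)) (.leaf 9590))) (.node (.node (.node (.leaf 11282) (.leaf 10282)) (.node (.leaf 12322) (.leaf 10199))) (.node (.node (.leaf 1477) (.leaf 10740)) (.leaf 12808)))) (.node (.node (.node (.node (.leaf 11186) (.leaf 3727)) (.node (.leaf 12130) (.leaf 10500))) (.node (.node (.leaf 1351) (.leaf 9354)) (.leaf 9855))) (.node (.node (.node (.leaf 11354) (.leaf 9071)) (.node (.leaf 12524) (.leaf 10631))) (.node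 (.node (.leaf 1675) (.leaf 9320)) (.leaf 9151))))) (.node (.node (.node (.node (.node (.leaf 11098) (.leaf 8358)) (.node (.leaf 12060) (.leaf 9111))) (.node (.node (.leaf 1211) (.leaf 9308)) (.leaf 8758))) (.node (.node (.node (.leaf 375) (.leaf 7582)) (.node (.leaf 12410) (.leaf 10421))) (.node (.node (.leaf 11752) (.leaf 10388)) (.leaf 9131)))) (.node (.node (.node (.node (.leaf 11250) (.leaf 3881)) (.node (.leaf 12198) (.leaf 9983))) (.node (.node (.leaf 11636) (.leaf 5075)) (.leaf 2769))) (.node (.node (.node (.leaf 11392) (.leaf 10806)) (.node (.leaf 9863) (.leaf 10871))) (.node (.node (.leaf 1741) (.leaf 10116)) (.leaf 10526)))))) (.node (.node (.node (.node (.node (.node (.leaf 53) (.leaf 9377)) (.node (.leaf 12024) (.leaf 10472))) (.node (.node (.leaf 11488) (.leaf 9057)) (.leaf 9492))) (.node (.node (.node (.leaf 327) (.leaf 4073)) (.node (.leaf 12368) (.leaf 10918))) (.node (.node (.leaf 1557) (.leaf 9705)) (.leaf 2977)))) (.node (.node (.node (.node (.leaf 11228) (.leaf 3779)) (.node (.leaf 12166)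 (.leaf 10956))) (.node (.node (.leaf 11588) (.leaf 5013)) (.leaf 9115))) (.node (.node (.node (.leaf 501) (.leaf 13068)) (.node (.leaf 7698) (.leaf 10743))) (.node (.node (.leaf 11896) (.leaf 9081)) (.leaf 9125))))) (.node (.node (.node (.node (.node (.leaf 103) (.leaf 10706)) (.node (.leaf 2552) (.leaf 9113))) (.node (.node (.leaf 11534) (.leaf 9875)) (.leaf 7628))) (.node (.node (.node (.leaf 419) (.leaf 7292)) (.node (.leaf 12470) (.leaf 10529))) (.node (.node (.leaf 11786) (.leaf 9878)) (.leaf 3053)))) (.node (.node (.node (.node (.leaf 11264) (.leaf 3943)) (.node (.leaf 2065) (.leaf 10148))) (.node (.node (.leaf 11682) (.leaf 13198)) (.leaf 2831))) (.node (.node (.node (.leaf 11420) (.leaf 9639)) (.node (.leaf 9843) (.leaf 10985))) (.node (.node (.leaf 1805) (.leaf 9091)) (.leaf 9059))))))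
def dFin_118 : BT := .node dFin_116 dFin_117
def dFin_119 : BT := .node (.node (.node (.node (.node (.node (.node (.leaf 11030) (.leaf 8458)) (.node (.leaf 11974) (.leaf 5991))) (.node (.node (.leaf 11454) (.leaf 9288)) (.leaf 9350))) (.node (.node (.node (.leaf 11276) (.leaf 9087)) (.node (.leaf 12306) (.leaf 10169))) (.node (.node (.leaf 1451) (.leaf 7324)) (.leaf 8576)))) (.node (.node (.node (.node (.leaf 11170) (.leaf 12968)) (.node (.leaf 2578) (.leaf 9210))) (.node (.node (.leaf 11544) (.leaf 9889)) (.leaf 7526))) (.node (.node (.node (.leaf 11352) (.leaf 13052)) (.node (.leaf 12518) (.leaf 10605))) (.node (.node (.leaf 1673) (.leaf 10440)) (.leaf 9578))))) (.node (.node (.node (.node (.node (.leaf 11086) (.leaf 8618)) (.node (.leaf 12050) (.leaf 9158))) (.node (.node (.leaf 1187) (.leaf 4775)) (.leaf 8258))) (.node (.node (.node (.leaf 11320) (.leaf 9274)) (.node (.leaf 12388) (.leaf 10391))) (.node (.node (.leaf 11748) (.leaf 5361)) (.leaf 9129)))) (.node (.node (.node (.node (.leaf 11246) (.leaf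 9976)) (.node (.leaf 12190) (.leaf 9959))) (.node (.node (.leaf 1407) (.leaf 9630)) (.leaf 12778))) (.node (.node (.node (.leaf 11384) (.leaf 9002)) (.node (.leaf 7616) (.leaf 10839))) (.node (.node (.leaf 1733) (.leaf 9670)) (.leaf 10016)))))) (.node (.node (.node (.node (.node (.node (.leaf 11052) (.leaf 9697)) (.node (.leaf 1857) (.leaf 9693))) (.node (.node (.leaf 11484) (.leaf 9810)) (.leaf 9361))) (.node (.node (.node (.leaf 11300) (.leaf 4071)) (.node (.leaf 2105) (.leaf 10285))) (.node (.node (.leaf 1541) (.leaf 10868)) (.leaf 9695)))) (.node (.node (.node (.node (.leaf 194) (.leaf 9348)) (.node (.leaf 12160) (.leaf 9680))) (.node (.node (.leaf 11576) (.leaf 5011)) (.leaf 7688))) (.node (.node (.node (.leaf 485) (.leaf 4399)) (.node (.leaf 8364) (.leaf 10705))) (.node (.node (.leaf 11886) (.leaf 11018)) (.leaf 3117))))) (.node (.node (.node (.node (.node (.leaf 11128) (.leaf 9225)) (.node (.leaf 2544) (.leaf 10250))) (.node (.node (.leaf 1275) (.leaf 7115)) (.leaf 8050))) (.node (.node (.node (.leaf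 11340) (.leaf 4155)) (.node (.leaf 12458) (.leaf 10503))) (.node (.node (.leaf 11770) (.leaf 10418)) (.leaf 9669)))) (.node (.node (.node (.node (.leaf 267) (.leaf 3927)) (.node (.leaf 12242) (.leaf 10069))) (.node (.node (.leaf 11678) (.leaf 13190)) (.leaf 2823))) (.node (.node (.node (.leaf 11416) (.leaf 9446)) (.node (.leaf 9073) (.leaf 10959))) (.node (.node (.leaf 1803) (.leaf 5869)) (.leaf 8300))))))
def dFin_120 : BT := .node (.node (.node (.node (.node (.node (.node (.leaf 38) (.leaf 3317)) (.node (.leaf 11992) (.leaf 7660))) (.node (.node (.leaf 11468) (.leaf 9233)) (.leaf 8276))) (.node (.node (.node (.leaf 11284) (.leaf 9049)) (.node (.leaf 12328) (.leaf 10348))) (.node (.node (.leaf 1485) (.leaf 5227)) (.leaf 12812)))) (.node (.node (.node (.node (.leaf 11202) (.leaf 9352)) (.node (.leaf 12144) (.leaf 9385))) (.node (.node (.leaf 1353) (.leaf 13168)) (.leaf 8590))) (.node (.node (.node (.leaf 453) (.leaf 13058)) (.node (.leaf 9041) (.leaf 10661))) (.node (.node (.leaf 11866) (.leaf 5517)) (.leaf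 3109))))) (.node (.node (.node (.node (.node (.leaf 11112) (.leaf 9127)) (.node (.leaf 1887) (.leaf 9540))) (.node (.node (.leaf 1217) (.leaf 9310)) (.leaf 8766))) (.node (.node (.node (.leaf 389) (.leaf 9306)) (.node (.leaf 12426) (.leaf 10443))) (.node (.node (.leaf 1611) (.leaf 6720)) (.leaf 10690)))) (.node (.node (.node (.node (.leaf 11254) (.leaf 3905)) (.node (.leaf 12208) (.leaf 10019))) (.node (.node (.leaf 11660) (.leaf 5077)) (.leaf 12790))) (.node (.node (.node (.leaf 11406) (.leaf 9097)) (.node (.leaf 7548) (.leaf 10899))) (.node (.node (.leaf 11926) (.leaf 9095)) (.leaf 10066)))))) (.node (.node (.node (.node (.node (.node (.leaf 11062) (.leaf 9359)) (.node (.leaf 12032) (.leaf 10196))) (.node (.node (.leaf 11492) (.leaf 13136)) (.leaf 9183))) (.node (.node (.node (.leaf 11316) (.leaf 9302)) (.node (.leaf 12374) (.leaf 10770))) (.node (.node (.leaf 11736) (.leaf 5295)) (.leaf 2987)))) (.node (.node (.node (.node (.leaf 207) (.leaf 3847)) (.node (.leaf 2001) (.leaf 9039))) (.node (.node (.leaf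 11598) (.leaf 9055)) (.leaf 7714))) (.node (.node (.node (.leaf 11374) (.leaf 9646)) (.node (.leaf 9832) (.leaf 10761))) (.node (.node (.leaf 11900) (.leaf 10982)) (.leaf 9772))))) (.node (.node (.node (.node (.node (.leaf 11142) (.leaf 9374)) (.node (.leaf 2568) (.leaf 9821))) (.node (.node (.leaf 1295) (.leaf 4903)) (.leaf 9083))) (.node (.node (.node (.leaf 11344) (.leaf 9932)) (.node (.leaf 12492) (.leaf 10628))) (.node (.node (.leaf 11796) (.leaf 9956)) (.leaf 3055)))) (.node (.node (.node (.node (.leaf 275) (.leaf 3969)) (.node (.leaf 2067) (.leaf 10115))) (.node (.node (.leaf 11688) (.leaf 9887)) (.leaf 2871))) (.node (.node (.node (.leaf 11428) (.leaf 9314)) (.node (.leaf 9914) (.leaf 11021))) (.node (.node (.leaf 11950) (.leaf 5919)) (.leaf 9449))))))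
def dFin_121 : BT := .node dFin_119 dFin_120
def dFin_122 : BT := .node dFin_118 dFin_121
def dFin_123 : BT := .node dFin_115 dFin_122
def dFin_124 : BT := .node dFin_108 dFin_123
def dFin_125 : BT := .node dFin_93 dFin_124
def dFin_126 : BT := .node dFin_62 dFin_125
def dFin : BT := dFin_126
theorem chk_all : chkAll dD dJS 0 = true := by decide +kernel
theorem chk_fin : chkFin dD 448 dJS.length dLive dPos dFin = true := by decide +kernel
end Cfsg.Agent.Lib.Helper93.L34.Up
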